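-- copy of `Bm.A` avoiding a name clash (`Comp.syl_inf`) with `Sig.S4D`
import Cfsg.Agent.NCy.LocGC8

/-! Baumann's theorem on `2`-central involutions with `2`-closed centralizer: definitions. -/

set_option autoImplicit false
set_option linter.unusedSectionVars false

namespace CF.Bm

open Cfsg Subgroup CF.Loc CF.FF CF.GC
open CF.PLocal (maxAb thompson_le le_thompson upT)
open scoped commutatorElement MatrixGroups

universe u
variable {G : Type u} [Group G]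

/-- the largest normal `2`-subgroup of the centralizer of `d` -/
def Sy (d : G) : Subgroup G := 𝐎[2](𝐂(zpowers d))

/-- involutions whose centralizer has a normal Sylow `2`-subgroup of `G` -/
structure Dd (d : G) : Prop where
  sq : d * d = 1
  ne : d ≠ 1
  syl : IsSyl 2 (Sy d) ⊤

/-- the Sylow subgroups are self centralizing -/
def TH (G : Type u) [Group G] : Prop := ∀ d : G, Dd d → 𝐂(Sy d) ≤ Sy d

/-- good ambient `2`-groups -/
structure GY (d : G) (Y : Subgroup G) : Prop where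
  th : TH G
  dd : Dd d
  mem : d ∈ Y
  le : Y ≤ Sy d
  cen : Sy d ⊓ 𝐂(𝐙[Y]) ≤ Y

/-- the module of a rank one group -/
def Um (L : Subgroup G) : Subgroup G := ⁅𝐔[2](L), 𝐑[2](L)⁆

/-- rank one groups over `B` produced by the maximal choice -/
structure Lb (B L : Subgroup G) : Prop where
  th : TH G
  ch : IsCharP 2 L
  pw : ∃ (F : Type) (_ : Field F) (_ : Fintype F) (M : Subgroup G) (ρ : G → SL(2, F)) (ψ : G → Fin 2 → F),
    PW 2 F L B M 𝐔[2](L) ρ ψ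
  nj : ¬ 𝐉[2](B) ≤ 𝐎[2](L)
  dd : ∃ d, Dd d ∧ d ∈ B ∧ B ≤ Sy d
  st : ∀ (d : G) (Q T : Subgroup G), Dd d → d ∈ Q → Q ≤ Sy d → L ≤ 𝐍(Q) → IsPGroup 2 T → B ≤ T → T ≤ 𝐍(Q) →
    𝐁[2](T) = B

/-- two rank one groups over `B` whose modules do not commute -/
structure SP (B L L' : Subgroup G) : Prop where
  l : Lb B L
  l' : Lb B L'
  nc : ¬ Um L' ≤ 𝐂(Um L)

/-- natural modules -/
structure Hb (F : Type) [Field F] (U A P : Subgroup G) (ρ : G → SL(2, F)) (ψ : G → Fin 2 → F) : Prop where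
  ea : IsElementaryAbelian 2 U
  ea' : IsElementaryAbelian 2 A
  nat : NatOn F U P A ρ ψ
  ker : ∀ g ∈ P, ρ g = 1 → g ∈ 𝐂(U)
  cm : U ≤ ⁅U, P⁆
  le : U ≤ P

def HB (U A P : Subgroup G) : Prop :=
  ∃ (F : Type) (_ : Field F) (_ : Fintype F) (ρ : G → SL(2, F)) (ψ : G → Fin 2 → F), Hb F U A P ρ ψ

/-- natural modules inside `Y` -/
structure Hf (F : Type) [Field F] (Y U A P : Subgroup G) (ρ : G → SL(2, F)) (ψ : G → Fin 2 → F) : Prop
    extends Hb F U A P ρ ψ where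
  gen : ∀ g ∈ P, ρ g 1 0 ≠ 0 → A ⊔ cj[g] A = P
  bor : ∀ g ∈ P, ρ g 1 0 = 0 → g ∈ 𝐍(A)
  lU : U ≤ Y
  lA : A ≤ Y
  cen : Y ⊓ 𝐂(U) ≤ U ⊔ 𝐂(P)
  nor : Y ⊓ 𝐍(U) ≤ 𝐍(P) ⊓ 𝐍(A)

def HF (Y U A P : Subgroup G) : Prop :=
  ∃ (F : Type) (_ : Field F) (_ : Fintype F) (ρ : G → SL(2, F)) (ψ : G → Fin 2 → F), Hf F Y U A P ρ ψ

/-- pairs of natural modules inside `Y` -/
structure PY (Y U A P P' : Subgroup G) : Prop where
  l : HF Y U A P
  r : HF Y A U P'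

/-- small pairs: two four-groups `⟨u, z⟩`, `⟨a, z⟩` -/
structure Ps (Y : Subgroup G) (z u a : G) (P P' : Subgroup G) : Prop
    extends PY Y (zpowers u ⊔ zpowers z) (zpowers a ⊔ zpowers z) P P' where
  cm : ⁅u, a⁆ = z
  ne : z ≠ 1
  card : Nat.card ↥(zpowers u ⊔ zpowers z) = 4

/-- the pairs at `d` -/
def Pa (d : G) (U A P P' : Subgroup G) : Prop :=
  Dd d ∧ ∃ B L L', B ≤ Sy d ∧ SP B L L' ∧ U = Um L ∧ A = Um L' ∧ P = ncl A L ∧ P' = ncl U L'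

/-- the join of the residuals of the pairs at `d` -/
def Yd (d : G) : Subgroup G := sSup {K | ∃ U A P P', Pa d U A P P' ∧ K = 𝐑[2](P)}

/-- the join of the modules over the Baumann subgroup -/
def Wd (d : G) : Subgroup G := 𝛀[2](𝐁[2](Sy d)) ⊔ sSup {U | ∃ L, Lb 𝐁[2](Sy d) L ∧ U = Um L}

/-- relations for which the generation theorem applies -/
structure Rl (r : G → G → Prop) : Prop where
  cj : ∀ g d e, Dd d → Dd e → d * e = e * d → r d e → r (g * d * g⁻¹) (g * e * g⁻¹)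
  symm : ∀ d e, Dd d → Dd e → d * e = e * d → r d e → r e d
  trans : ∀ d e f, Dd d → Dd e → Dd f → d * e = e * d → e * f = f * e → d * f = f * d → r d e → r e f → r d f
  bau : ∀ d e, Dd d → Dd e → 𝐁[2](Sy d) = 𝐁[2](Sy e) → r d e
  good : ∀ B L d, Lb B L → Dd d → d ∈ B → B ≤ Sy d → ∀ l ∈ L, r d (l * d * l⁻¹)

/-- the list of simple groups -/
def Lst (X : Type u) [Group X] : Prop :=
  (∃ (F : Type) (_ : Field F) (_ : Fintype F) (n : ℕ), 2 ≤ n ∧ Fintype.card F = 2 ^ n ∧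
      (Nonempty (X ≃* Matrix.ProjectiveSpecialLinearGroup (Fin 2) F) ∨
        Nonempty (X ≃* Matrix.ProjectiveSpecialLinearGroup (Fin 3) F) ∨ Nonempty (X ≃* Cfsg.PSp 2 F))) ∨
    Cfsg.Lie.IsoSuzuki X ∨
    (∃ (F : Type) (_ : Field F) (_ : Fintype F) (n : ℕ), 2 ≤ n ∧ Fintype.card F = (2 ^ n) ^ 2 ∧
      Nonempty (X ≃* Cfsg.PSU 3 F (2 ^ n))) ∨
    (∃ (F : Type) (_ : Field F) (_ : Fintype F) (n : ℕ), 3 < Fintype.card F ∧
      (Fintype.card F = 2 ^ n + 1 ∨ Fintype.card F + 1 = 2 ^ n) ∧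
      Nonempty (X ≃* Matrix.ProjectiveSpecialLinearGroup (Fin 2) F))

/-- the almost simple situation -/
structure Co (K : Subgroup G) (t : G) : Prop where
  simple : IsSimpleGroup K
  perf : ⁅K, K⁆ = K
  nrm : K.Normal
  gen : ∀ g, g ∈ K ∨ g * t ∈ K
  cen : 𝐂(K) = ⊥
  dd : Dd t

/-- the conclusion in the almost simple situation -/
structure Cc (K : Subgroup G) (t : G) : Prop where
  mem : t ∈ K
  conj : ∀ e, Dd e → IsConj t e
  lst : Lst K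

variable {A B H L P P' Q S T U V W X Y : Subgroup G} {d e g x : G}

theorem cj_Sy (g d : G) : cj[g] (Sy d) = Sy (g * d * g⁻¹) := by
  rw [Sy, cj_pCoreOf, cj_centralizer, cj_zpowers, Sy]

theorem Sy_pg (d : G) : IsPGroup 2 (Sy d) := isPGroup_pCoreOf _ _

theorem Sy_le (d : G) : Sy d ≤ 𝐂(zpowers d) := pCoreOf_le _ _

theorem cent_le_norm (d : G) : 𝐂(zpowers d) ≤ 𝐍(Sy d) := le_normalizer_pCoreOf _ _

theorem mem_cz : x ∈ 𝐂(zpowers d) ↔ d * x = x * d := by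
  rw [centralizer_zpowers, mem_centralizer_singleton_iff, eq_comm]

theorem le_cz_iff : X ≤ 𝐂(zpowers d) ↔ d ∈ 𝐂(X) := by rw [le_centralizer_comm, zpowers_le]

theorem pg_of_sq (h : x * x = 1) : IsPGroup 2 (zpowers x) :=
  isPGroup_zpowers (k := 1) (by rw [pow_one, sq, h])

theorem ea_zpowers (h : x * x = 1) : IsElementaryAbelian 2 (zpowers x) :=
  ea_of_sq fun q hq => by rcases eq_or_of_mem_zpowers h hq with rfl | rfl <;> simp [h]

theorem sq_of_ea (h : IsElementaryAbelian 2 X) (hx : x ∈ X) : x * x = 1 := by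
  rw [← sq]; exact (isElementaryAbelian_iff.1 h).2 x hx

theorem cj_Um (g : G) (L : Subgroup G) : cj[g] (Um L) = Um (cj[g] L) := by
  rw [Um, cj_commutator, cj_omegaOneCenter, cj_pCoreOf, cj_pResidualOf, Um]

namespace Dd
variable (h : Dd d)
include h

protected theorem cj (g : G) : Dd (g * d * g⁻¹) :=
  ⟨by rw [conj_mul, h.sq, mul_one, mul_inv_cancel], fun e => h.ne (by simpa [mul_inv_eq_one] using e),
    by simpa only [cj_Sy, cj_top] using h.syl.cj g⟩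

theorem pc : PClosed 2 𝐂(zpowers d) := h.syl.mono (Sy_le d) le_top

theorem le (hQ : IsPGroup 2 Q) (c : Q ≤ 𝐂(zpowers d)) : Q ≤ Sy d := h.pc.le_pCoreOf hQ c

theorem le' (hQ : IsPGroup 2 Q) (c : d ∈ 𝐂(Q)) : Q ≤ Sy d := h.le hQ (le_cz_iff.2 c)

theorem mem_of_comm (hx : x * x = 1) (c : d * x = x * d) : x ∈ Sy d :=
  h.le (pg_of_sq hx) (zpowers_le.2 (mem_cz.2 c)) (mem_zpowers x)

theorem mem : d ∈ Sy d := h.mem_of_comm h.sq rfl

omit h in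
theorem _root_.CF.Bm.comm_of_mem (hx : x ∈ Sy d) : d * x = x * d := mem_cz.1 (Sy_le d hx)

omit h in
theorem _root_.CF.Bm.mem_cent (l : X ≤ Sy d) : d ∈ 𝐂(X) := le_cz_iff.1 (l.trans (Sy_le d))

theorem mem_omega (hd : d ∈ X) (l : X ≤ Sy d) : d ∈ 𝛀[2](X) :=
  mem_omegaOneCenter.2 ⟨hd, mem_cent l, by rw [_root_.sq, h.sq]⟩

theorem Sy_eq (h' : Dd e) (l : Sy d ≤ Sy e) : Sy d = Sy e := (h.syl.eq_of_le (Sy_pg e) l le_top).symm

theorem Sy_cj_of_norm (hg : g ∈ 𝐍(Sy d)) : Sy (g * d * g⁻¹) = Sy d := by rw [← cj_Sy, cj_eq_self hg]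

variable [Finite G]

theorem exists_le (hT : IsPGroup 2 T) : ∃ g, T ≤ Sy (g * d * g⁻¹) :=
  let ⟨g, _, e⟩ := h.syl.exists_le_cj hT le_top; ⟨g, cj_Sy g d ▸ e⟩

theorem exists_dd (hT : IsPGroup 2 T) : ∃ e, Dd e ∧ T ≤ Sy e := let ⟨g, e⟩ := h.exists_le hT; ⟨_, h.cj g, e⟩

theorem exists_Sy_eq (h' : Dd e) : ∃ g, Sy (g * d * g⁻¹) = Sy e :=
  let ⟨g, _, e⟩ := h.syl.conj h'.syl; ⟨g, cj_Sy g d ▸ e⟩

theorem wt_eq (h' : Dd e) : wt (Sy d) = wt (Sy e) := by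
  obtain ⟨g, e⟩ := h.exists_Sy_eq h'
  rw [← e, ← cj_Sy, wt_cj]

theorem bau_eq (h' : Dd e) (l : 𝐁[2](Sy d) ≤ Sy e) : 𝐁[2](Sy e) = 𝐁[2](Sy d) := (of_wt l (h.wt_eq h').ge).1

theorem inf_eq (hT : IsSyl 2 T H) (l : T ≤ Sy d) : Sy d ⊓ H = T :=
  hT.eq_of_le ((Sy_pg d).to_le inf_le_left) (le_inf l hT.le) inf_le_right

theorem cent_le_norm_syl (hT : IsSyl 2 T H) (l : T ≤ Sy d) : H ⊓ 𝐂(zpowers d) ≤ 𝐍(T) := by
  rw [← h.inf_eq hT l]
  exact le_normalizer_inf (inf_le_right.trans (cent_le_norm d)) (inf_le_left.trans le_normalizer)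

theorem core_cent (hd : d ∈ Q) : 𝐎[2](𝐂(Q)) = Sy d ⊓ 𝐂(Q) :=
  have l : 𝐂(Q) ≤ 𝐂(zpowers d) := centralizer_anti (zpowers_le.2 hd)
  le_antisymm (le_inf (h.le (isPGroup_pCoreOf _ _) ((pCoreOf_le _ _).trans l)) (pCoreOf_le _ _))
    (le_pCoreOf ((Sy_pg d).to_le inf_le_left) inf_le_right (le_normalizer_inf (l.trans (cent_le_norm d)) le_normalizer))

theorem norm_inf_cent (hd : d ∈ Q) : 𝐍(Q) ≤ 𝐍(Sy d ⊓ 𝐂(Q)) := by
  rw [← h.core_cent hd]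
  exact (normalizer_le_normalizer_centralizer Q).trans (normalizer_le_normalizer_pCoreOf _ _)

theorem res_cent (hd : d ∈ Q) (l : Q ≤ Sy d) (c : Sy d ⊓ 𝐂(Q) ≤ Q) : 𝐑[2](𝐂(Q)) ≤ 𝐂(Sy d) :=
  thompson_PxQ (Sy_pg d) ((Sy_pg d).to_le l) (l.trans le_normalizer)
    ((centralizer_anti (zpowers_le.2 hd)).trans (cent_le_norm d)) le_rfl (centralizer_anti c)

theorem cen (th : TH G) (hd : d ∈ Q) (l : Q ≤ Sy d) (c : Sy d ⊓ 𝐂(Q) ≤ Q) : 𝐂(Q) ≤ Q :=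
  (le_inf (h.le (isPGroup_of_pResidualOf_le (Sy_pg d) ((h.res_cent hd l c).trans (th d h)))
    (centralizer_anti (zpowers_le.2 hd))) le_rfl).trans c

/-- the centric closure -/
theorem tilde (th : TH G) (hd : d ∈ Q) (l : Q ≤ Sy d) :
    ∃ X, Q ≤ X ∧ X ≤ Sy d ∧ 𝐂(X) ≤ X ∧ 𝐍(Q) ≤ 𝐍(X) ∧ X = Q ⊔ (Sy d ⊓ 𝐂(Q)) :=
  ⟨_, le_sup_left, sup_le l inf_le_left, h.cen th (mem_sup_left hd) (sup_le l inf_le_left)
    ((inf_le_inf_left _ (centralizer_anti le_sup_left)).trans le_sup_right),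
    le_normalizer_sup le_rfl (h.norm_inf_cent hd), rfl⟩

theorem gy (th : TH G) : GY d (Sy d) := ⟨th, h, h.mem, le_rfl, inf_le_left⟩

/-- an element of `D` centralizing a centric subgroup -/
theorem mem_of_cen (c : 𝐂(X) ≤ X) (l : X ≤ Sy d) : d ∈ X := c (mem_cent l)

end Dd

namespace GY
variable [Finite G] (h : GY d Y)
include h

theorem pg : IsPGroup 2 Y := (Sy_pg d).to_le h.le

theorem mem_zc : d ∈ 𝐙[Y] := ⟨h.mem, mem_cent h.le⟩

protected theorem cj (g : G) : GY (g * d * g⁻¹) (cj[g] Y) :=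
  ⟨h.th, h.dd.cj g, conj_mem_cj g h.mem, cj_Sy g d ▸ cj_mono g h.le, by
    rw [← cj_Sy, ← cj_zc, ← cj_centralizer, ← cj_inf]; exact cj_mono g h.cen⟩

/-- centralizers in `Y` are centric -/
theorem centric (l : W ≤ Y) (c : W ≤ 𝐂(W)) : 𝐂(Y ⊓ 𝐂(W)) ≤ Y ⊓ 𝐂(W) :=
  h.dd.cen h.th ⟨h.mem, mem_cent (l.trans h.le)⟩ (inf_le_left.trans h.le) (le_inf
    ((inf_le_inf_left _ (centralizer_anti (inf_le_inf_left _ (centralizer_anti l)))).trans h.cen)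
    (inf_le_right.trans (centralizer_anti (le_inf l c))))

end GY

end CF.Bm
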