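-- copy of `Bm.A2` avoiding a name clash (`Comp.syl_inf`) with `Sig.S4D`
import Cfsg.Agent.NCz.BmA

/-! Baumann's theorem: basic facts on modules and pairs. -/

set_option autoImplicit false
set_option linter.unusedSectionVars false

namespace CF.Bm

open Cfsg Subgroup CF.Loc CF.FF CF.GC
open CF.PLocal (maxAb thompson_le le_thompson upT)
open scoped commutatorElement MatrixGroups

universe u
variable {G : Type u} [Group G] [Finite G]
variable {A A' A₁ B E H K L L' M P P' P₁ P₁' Q S T U U' U₁ V W X Y : Subgroup G} {a a₁ d e f g t u u₁ w x y z z₁ : G}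
variable {F F' : Type} [Field F] [Field F'] {ρ : G → SL(2, F)} {ψ : G → Fin 2 → F} {ρ' : G → SL(2, F')} {ψ' : G → Fin 2 → F'}

theorem le_or_le (h : ∀ x ∈ X, x ∈ U ∨ x ∈ V) : X ≤ U ∨ X ≤ V :=
  or_iff_not_imp_left.2 fun c => le_of_sdiff c fun x hx x0 => (h x hx).resolve_left x0

theorem nat_not_pc (n : NatOn F U P A ρ ψ) (hA : IsPGroup 2 A) : ¬ PClosed 2 P := fun h => by
  obtain ⟨w, hw, w0⟩ : ∃ w ∈ P, ρ w 1 0 ≠ 0 := by
    obtain ⟨w, hw, e⟩ := n.ρsurj (wS F)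
    exact ⟨w, hw, by rw [e]; simp [wS]⟩
  have l := h.le_pCoreOf hA n.le
  have l' : cj[w] A ≤ 𝐎[2](P) := cj_le_of_mem_normalizer (le_normalizer_pCoreOf 2 P hw) l
  have k : IsPGroup 2 (𝐎[2](P).subgroupOf P) := isPGroup_subgroupOf (isPGroup_pCoreOf 2 P)
  have s : (𝐎[2](P).subgroupOf P).map n.hom = ⊤ := eq_top_iff.2 fun m _ =>
    let ⟨g, hg, e⟩ := n.surj_of_le (pCoreOf_le 2 P) l (l' (conj_mem_cj w (SetLike.not_le_iff_exists.1 n.not_le_cent').choose_spec.1))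
      (n.ρ_conj_ne (SetLike.not_le_iff_exists.1 n.not_le_cent').choose_spec.1
        (SetLike.not_le_iff_exists.1 n.not_le_cent').choose_spec.2 hw w0) m
    ⟨⟨g, pCoreOf_le 2 P hg⟩, hg, e⟩
  have p := s ▸ k.map n.hom
  let m : SL(2, F) := ⟨!![0, -1; 1, -1], by simp [Matrix.det_fin_two]⟩
  have c : m ^ 3 = 1 := Subtype.ext (by
    rw [Matrix.SpecialLinearGroup.coe_pow]
    ext i j
    fin_cases i <;> fin_cases j <;> simp [m, pow_succ, Matrix.mul_apply, Fin.sum_univ_two])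
  have := eq_one_of_coprime_of_mem p (mem_top m) ((Nat.Coprime.coprime_dvd_left (orderOf_dvd_of_pow_eq_one c) (by norm_num)))
  simpa [m] using congrArg (fun m : SL(2, F) => m 1 0) this

omit [Finite G] in
theorem nat_cj (n : NatOn F U P A ρ ψ) (g : G) :
    NatOn F (cj[g] U) (cj[g] P) (cj[g] A) (fun x => ρ (g⁻¹ * x * g)) fun x => ψ (g⁻¹ * x * g) := by
  refine ⟨by rw [← cj_normalizer]; exact cj_mono g n.norm, cj_mono g n.le, fun a ha b hb => ?_, fun a ha b hb => ?_,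
    fun m => ?_, fun z => ?_, fun v hv => ?_, fun a ha v hv => ?_, fun a ha => n.up _ (mem_cj.1 ha), fun t => ?_,
    fun v hv => ?_, fun a ha e => ?_⟩
  · rw [← n.ρmul _ (mem_cj.1 ha) _ (mem_cj.1 hb)]; congr 1; group
  · rw [← n.ψmul _ (mem_cj.1 ha) _ (mem_cj.1 hb)]; congr 1; group
  · obtain ⟨a, ha, e⟩ := n.ρsurj m; exact ⟨_, conj_mem_cj g ha, by rw [← e]; congr 1; group⟩
  · obtain ⟨a, ha, e⟩ := n.ψsurj z; exact ⟨_, conj_mem_cj g ha, by rw [← e]; congr 1; group⟩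
  · rw [n.ker _ (mem_cj.1 hv), ← cj_centralizer, mem_cj]
  · rw [← n.equiv _ (mem_cj.1 ha) _ (mem_cj.1 hv)]; congr 1; group
  · obtain ⟨a, ha, e⟩ := n.up' t; exact ⟨_, conj_mem_cj g ha, by rw [← e]; congr 1; group⟩
  · rw [← n.fix _ (mem_cj.1 hv), ← cj_centralizer, mem_cj]
  · rw [← cj_centralizer, mem_cj]; exact n.infker _ (mem_cj.1 ha) e

namespace Hb
variable (h : Hb F U A P ρ ψ)
include h

protected theorem cj (g : G) :
    Hb F (cj[g] U) (cj[g] A) (cj[g] P) (fun x => ρ (g⁻¹ * x * g)) fun x => ψ (g⁻¹ * x * g) :=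
  ⟨isElemAb_cj g h.ea, isElemAb_cj g h.ea', nat_cj h.nat g, fun x hx e => by
    rw [← cj_centralizer]; exact mem_cj.2 (h.ker _ (mem_cj.1 hx) e), by rw [← cj_commutator]; exact cj_mono g h.cm,
    cj_mono g h.le⟩

theorem ab : U ≤ 𝐂(U) := isElemAb_le_centralizer h.ea

theorem two : (2 : F) = 0 := by exact_mod_cast h.nat.cast_eq_zero (isElemAb_isPGroup h.ea')

theorem exists_w : ∃ w ∈ P, ρ w 1 0 ≠ 0 := by
  obtain ⟨w, hw, e⟩ := h.nat.ρsurj (wS F)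
  exact ⟨w, hw, by rw [e]; simp [wS]⟩

theorem le_sup (hK : K ≤ P) (l : A ≤ K) (hg : g ∈ K) (g0 : ρ g 1 0 ≠ 0) : P ≤ K ⊔ 𝐂(U) := fun x hx => by
  obtain ⟨k, hk, e⟩ := h.nat.surj_of_le hK l hg g0 (ρ x)
  rw [← mul_inv_cancel_left k x]
  exact mul_mem (mem_sup_left hk) (mem_sup_right (h.ker _ (mul_mem (inv_mem (hK hk)) hx) (by
    rw [h.nat.ρmul _ (inv_mem (hK hk)) _ hx, h.nat.ρinv (hK hk), e, inv_mul_cancel])))

theorem le_sup_cj (hg : g ∈ P) (g0 : ρ g 1 0 ≠ 0) : P ≤ (A ⊔ cj[g] A) ⊔ 𝐂(U) :=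
  let ⟨_, ha, a0⟩ := SetLike.not_le_iff_exists.1 h.nat.not_le_cent'
  h.le_sup (sup_le h.nat.le (cj_le_of_mem hg h.nat.le)) le_sup_left (mem_sup_right (conj_mem_cj g ha))
    (h.nat.ρ_conj_ne ha a0 hg g0)

theorem eq_sup (hg : g ∈ P) (g0 : ρ g 1 0 ≠ 0) : U ≤ ⁅U, A⁆ ⊔ ⁅U, cj[g] A⁆ := by
  have n1 := h.nat.le.trans h.nat.norm
  have n2 := (cj_le_of_mem hg h.nat.le).trans h.nat.norm
  have l : ⁅U, A⁆ ⊔ ⁅U, cj[g] A⁆ ≤ U := sup_le (commutator_le_left_of_le_normalizer n1) (commutator_le_left_of_le_normalizer n2)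
  have m1 : A ≤ 𝐍(⁅U, A⁆ ⊔ ⁅U, cj[g] A⁆) := le_normalizer_of_commutator_le l le_sup_left
  have m2 : cj[g] A ≤ 𝐍(⁅U, A⁆ ⊔ ⁅U, cj[g] A⁆) := le_normalizer_of_commutator_le l le_sup_right
  exact h.cm.trans ((commutator_mono le_rfl (h.le_sup_cj hg g0)).trans (commutator_sup_right_le (sup_le m1 m2)
    (centralizer_le_normalizer_of_le l) (commutator_sup_right_le m1 m2 le_sup_left le_sup_right) (comm_le_of_cent' le_rfl)))

theorem cent_eq : U ⊓ 𝐂(A) = ⁅U, A⁆ := by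
  obtain ⟨g, hg, g0⟩ := h.exists_w
  have l1 : ⁅U, A⁆ ≤ U := commutator_le_left_of_le_normalizer (h.nat.le.trans h.nat.norm)
  have l2 : ⁅U, cj[g] A⁆ ≤ U := commutator_le_left_of_le_normalizer ((cj_le_of_mem hg h.nat.le).trans h.nat.norm)
  refine le_antisymm (fun v hv => ?_) (le_inf l1 h.nat.quad)
  obtain ⟨r, hr, s, hs, rfl⟩ := (mem_sup_of_le_normalizer (le_nV h.ab l2 l1)).1 (h.eq_sup hg g0 hv.1)
  have c : s ∈ 𝐂(P) := h.nat.cent_of_opp hg g0 (l2 hs) ((mul_mem_cancel_left (h.nat.quad hr)).1 hv.2) ((h.nat.cj' hg).quad hs)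
  rw [← cj_eq_self (h.nat.norm hg), ← cj_commutator, mem_cj, mul_assoc, ← c g hg, inv_mul_cancel_left] at hs
  exact mul_mem hr hs

theorem two_le [Finite F] : 2 ≤ Nat.card F := Finite.one_lt_card

theorem small [Finite F] : Nat.card U = 4 ↔ Nat.card F = 2 := by
  have c := h.nat.card_V'
  have := h.two_le
  have p : 0 < Nat.card ↥(U ⊓ 𝐂(P)) := Nat.card_pos
  refine ⟨fun e => by nlinarith, fun e => ?_⟩
  obtain ⟨a, ha, a0⟩ := SetLike.not_le_iff_exists.1 h.nat.not_le_cent'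
  have cases : ∀ x : F, x = 0 ∨ x = 1 := fun x => by
    by_contra! c
    exact absurd (two_lt_card_of_ne c.1 c.2) (by omega)
  obtain ⟨v, hv, ev⟩ := h.nat.ψsurj ![0, 1]
  have v0 : v ∉ 𝐂(A) := fun c => by simpa [ev] using (h.nat.fix v hv).1 c
  have hr : ⁅a, v⁆ ∈ U := cm_mem (h.nat.norm (h.nat.le ha)) hv
  have k : ⁅U, A⁆ ≤ zpowers ⁅a, v⁆ := by
    rw [commutator_comm]
    refine commutator_le.2 fun b hb w hw => ?_
    have s : ∀ w ∈ U, w ∈ 𝐂(A) ∨ v⁻¹ * w ∈ 𝐂(A) := fun w hw => (cases (ψ w 1)).imp (h.nat.fix w hw).2 fun e =>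
      (h.nat.fix _ (mul_mem (inv_mem hv) hw)).2 (by rw [h.nat.ψmul _ (inv_mem hv) _ hw, h.nat.ψinv hv]; simp [ev, e])
    have s' : b ∈ 𝐂(U) ∨ a⁻¹ * b ∈ 𝐂(U) := by
      obtain ⟨t, et⟩ := h.nat.up a ha
      obtain ⟨t', et'⟩ := h.nat.up b hb
      have t1 : t = 1 := (cases t).resolve_left fun e => a0 (h.nat.infker a ha (by rw [et, e, PLocal.upT_zero]))
      exact (cases t').imp (fun e => h.nat.infker b hb (by rw [et', e, PLocal.upT_zero])) fun e =>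
        h.nat.infker _ (mul_mem (inv_mem ha) hb) (by
          rw [h.nat.ρmul _ (inv_mem (h.nat.le ha)) _ (h.nat.le hb), h.nat.ρinv (h.nat.le ha), et, et', t1, e, inv_mul_cancel])
    rcases s' with c | c
    · rw [cm_one (c w hw).symm]; exact one_mem _
    have e1 : ⁅b, w⁆ = ⁅a, w⁆ := by
      rw [← mul_inv_cancel_left a b, commutatorElement_def, commutatorElement_def, mul_assoc a, ← c w hw]; group
    rw [e1]
    rcases s w hw with c | c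
    · rw [cm_one (c a ha)]; exact one_mem _
    rw [← mul_inv_cancel_left v w, cm_right h.ab (h.nat.norm (h.nat.le ha)) hv (mul_mem (inv_mem hv) hw), cm_one (c a ha), mul_one]
    exact mem_zpowers _
  have c1 := h.nat.card_V
  have c2 := card_le_card_of_le (h.cent_eq.le.trans k)
  have c3 : Nat.card (zpowers ⁅a, v⁆) ≤ 2 := by
    rw [Nat.card_zpowers]; exact orderOf_le_of_pow_eq_one two_pos (by rw [sq, sq_of_ea h.ea hr])
  rw [e] at c c1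
  omega

theorem four [Finite F] (b : Nat.card U ≠ 4) : 4 ≤ Nat.card F := by
  obtain ⟨k, hk⟩ := (isElemAb_isPGroup h.ea').exists_card_eq
  obtain ⟨j, -, e⟩ := (Nat.dvd_prime_pow Nat.prime_two).1 (hk ▸ Dvd.intro _ h.nat.card_A.symm)
  have := lt_of_le_of_ne h.two_le fun e => b (h.small.2 e.symm)
  rw [e] at this ⊢
  exact Nat.pow_le_pow_right two_pos (show 2 ≤ j from (Nat.pow_lt_pow_iff_right one_lt_two).1 (show 2 ^ 1 < 2 ^ j from this))

theorem card_eq [Finite F] [Finite F'] (h' : Hb F' A U P' ρ' ψ') : Nat.card F = Nat.card F' :=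
  Nat.eq_of_mul_eq_mul_right Nat.card_pos (h.nat.card_A.symm.trans h'.nat.card_V)

end Hb

namespace HB
variable (h : HB U A P)
include h

protected theorem cj (g : G) : HB (cj[g] U) (cj[g] A) (cj[g] P) :=
  let ⟨F, _, k, _, _, h⟩ := h; ⟨F, _, k, _, _, h.cj g⟩
theorem ea : IsElementaryAbelian 2 U := let ⟨_, _, _, _, _, h⟩ := h; h.ea
theorem ea' : IsElementaryAbelian 2 A := let ⟨_, _, _, _, _, h⟩ := h; h.ea'
theorem ab : U ≤ 𝐂(U) := isElemAb_le_centralizer h.ea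
theorem ab' : A ≤ 𝐂(A) := isElemAb_le_centralizer h.ea'
theorem le : U ≤ P := let ⟨_, _, _, _, _, h⟩ := h; h.le
theorem le' : A ≤ P := let ⟨_, _, _, _, _, h⟩ := h; h.nat.le
theorem norm : P ≤ 𝐍(U) := let ⟨_, _, _, _, _, h⟩ := h; h.nat.norm
theorem cm : U ≤ ⁅U, P⁆ := let ⟨_, _, _, _, _, h⟩ := h; h.cm
theorem nc : ¬ A ≤ 𝐂(U) := let ⟨_, _, _, _, _, h⟩ := h; h.nat.not_le_cent'
theorem nR : ¬ U ⊓ 𝐂(A) ≤ 𝐂(P) := let ⟨_, _, _, _, _, h⟩ := h; h.nat.not_le_cent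
theorem cent_eq : U ⊓ 𝐂(A) = ⁅U, A⁆ := let ⟨_, _, _, _, _, h⟩ := h; h.cent_eq

theorem le_res : U ≤ ⁅U, 𝐑[2](P)⁆ := by
  obtain ⟨T, hT, l⟩ := exists_isSyl_ge (isElemAb_isPGroup h.ea) h.le
  have n : P ≤ 𝐍(⁅U, 𝐑[2](P)⁆) := le_normalizer_commutator h.norm (le_normalizer_pResidualOf 2 P)
  have n' : T ≤ 𝐍(⁅U, T⁆ ⊔ ⁅U, 𝐑[2](P)⁆) :=
    le_normalizer_sup (le_normalizer_commutator (hT.le.trans h.norm) le_normalizer) (hT.le.trans n)
  refine le_of_le_commutator_sup hT.isPGroup l le_rfl (hT.le.trans n) (h.cm.trans ?_)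
  conv_lhs => rw [← hT.pResidualOf_sup]
  exact commutator_sup_right_le (le_normalizer_of_commutator_le (sup_le (commutator_le_left_of_le_normalizer (hT.le.trans h.norm))
    (commutator_le_left_of_le_normalizer ((pResidualOf_le 2 P).trans h.norm))) le_sup_right) n' le_sup_right le_sup_left

theorem le_res' : U ≤ 𝐑[2](P) :=
  h.le_res.trans (commutator_le_right_of_le_normalizer (h.le.trans (le_normalizer_pResidualOf 2 P)))

theorem mem_cent (ha : a ∈ A) (a0 : a ∉ 𝐂(U)) (hu : u ∈ U) (c : ⁅a, u⁆ ∈ 𝐂(P)) : u ∈ 𝐂(A) :=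
  let ⟨_, _, _, _, _, h⟩ := h; h.nat.mem_cent ha a0 hu c

theorem not_pc : ¬ PClosed 2 P := let ⟨_, _, _, _, _, h⟩ := h; nat_not_pc h.nat (isElemAb_isPGroup h.ea')

theorem not_cent (hd : Dd d) : d ∉ 𝐂(P) := fun c => h.not_pc (hd.pc.of_le (le_cz_iff.2 c))

theorem dg (he : Dd e) : ¬ P ≤ 𝐂(cj[e] P) := fun c => by
  have ei : e⁻¹ = e := inv_eq_of_mul_eq_one_right he.sq
  have cm : ∀ x ∈ P, ∀ y ∈ P, e * y * e⁻¹ * x = x * (e * y * e⁻¹) := fun x hx y hy => c hx _ (conj_mem_cj e hy)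
  let φ : P →* G := MonoidHom.mk' (fun x => x * (e * x * e⁻¹)) fun x y => by
    rw [mul_assoc (x : G) _ (_ * _), ← mul_assoc (e * x * e⁻¹), cm _ y.2 _ x.2]; simp only [coe_mul]; group
  have l : (⊤ : Subgroup P).map φ ≤ 𝐂(zpowers e) := by
    rintro _ ⟨x, -, rfl⟩
    refine mem_cz.2 ?_
    show e * (x * (e * x * e⁻¹)) = x * (e * x * e⁻¹) * e
    conv_rhs => rw [← cm _ x.2 _ x.2]
    simp only [ei, mul_assoc]
  obtain ⟨F, _, _, ρ, ψ, h⟩ := h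
  have pc := he.pc.of_le l
  refine nat_not_pc h.nat (isElemAb_isPGroup h.ea') ?_
  obtain ⟨T, hT⟩ := exists_isSyl 2 (⊤ : Subgroup P)
  have n : ⊤ ≤ 𝐍(T ⊔ φ.ker) := by
    have := comap_le_normalizer_comap φ (pc.le_normalizer (hT.map φ))
    rwa [comap_map_eq, comap_map_eq, top_sup_eq] at this
  have z : φ.ker ≤ 𝐂((⊤ : Subgroup P)) := fun x hx y _ => Subtype.ext (by
    have : e * x * e⁻¹ = (x : G)⁻¹ := eq_inv_of_mul_eq_one_right hx
    have k := cm _ y.2 _ x.2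
    rw [this] at k
    rw [coe_mul, coe_mul, ← mul_inv_cancel_left (x : G) (y * x), ← mul_assoc (x : G)⁻¹, k, inv_mul_cancel_right])
  have := (pClosed_map_subtype_iff (p := 2)).2 (pClosed_of_syl hT fun g _ => ?_)
  · rwa [← MonoidHom.range_eq_map, range_subtype] at this
  obtain ⟨k, hk, m, hm, rfl⟩ := (hT.mono le_sup_left le_top).frattini (n (mem_top g))
  exact mul_mem ((sup_le le_normalizer (z.trans (centralizer_le_normalizer_of_le le_top))) hk) hm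

theorem exists_mul (hx : x ∈ A ⊔ (U ⊔ 𝐂(P))) : ∃ a ∈ A, ∃ u ∈ U, ∃ c ∈ 𝐂(P), x = a * (u * c) := by
  obtain ⟨a, ha, y, hy, rfl⟩ := (mem_sup_of_le_normalizer' (h.le'.trans (le_normalizer_sup h.norm
    (le_normalizer_centralizer le_normalizer)))).1 hx
  obtain ⟨u, hu, c, hc, rfl⟩ := (mem_sup_of_le_normalizer (centralizer_le_normalizer_of_le h.le)).1 hy
  exact ⟨a, ha, u, hu, c, hc, rfl⟩

theorem exists_mul' (hx : x ∈ U ⊔ 𝐂(P)) : ∃ u ∈ U, ∃ c ∈ 𝐂(P), x = u * c :=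
  let ⟨u, hu, c, hc, e⟩ := (mem_sup_of_le_normalizer (centralizer_le_normalizer_of_le h.le)).1 hx; ⟨u, hu, c, hc, e.symm⟩

theorem sup_le_cent : U ⊔ 𝐂(P) ≤ 𝐂(U) := sup_le h.ab (centralizer_anti h.le)

theorem inv (hx : x ∈ A ⊔ (U ⊔ 𝐂(P))) (s : x * x = 1) : x ∈ 𝐂(U) ∨ x ∈ 𝐂(A) := by
  obtain ⟨a, ha, u, hu, c, hc, rfl⟩ := h.exists_mul hx
  refine or_iff_not_imp_left.2 fun c0 => mul_mem (h.ab' ha) (mul_mem (h.mem_cent ha (fun e => c0 (mul_mem e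
    (h.sup_le_cent (mul_mem (mem_sup_left hu) (mem_sup_right hc))))) hu ?_) (centralizer_anti h.le' hc))
  have e : ⁅a, u⁆ * (c * c) = 1 := by
    rw [← s, commutatorElement_def, inv_eq_of_mul_eq_one_right (sq_of_ea h.ea' ha), inv_eq_of_mul_eq_one_right (sq_of_ea h.ea hu)]
    simp only [mul_assoc]
    rw [← mul_assoc c a, ← hc a (h.le' ha), mul_assoc a c, ← mul_assoc c u, ← hc u (h.le hu), mul_assoc u c]
  rw [eq_inv_of_mul_eq_one_left e]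
  exact inv_mem (mul_mem hc hc)

theorem inv' (ea : IsElementaryAbelian 2 X) (l : X ≤ A ⊔ (U ⊔ 𝐂(P))) : X ≤ 𝐂(U) ∨ X ≤ 𝐂(A) :=
  le_or_le fun _ hx => h.inv (l hx) (sq_of_ea ea hx)

theorem norm_of_le (l : U ≤ X) (l' : X ≤ U ⊔ 𝐂(P)) : ⁅X, P⁆ ≤ U ∧ P ≤ 𝐍(X) := by
  have : ⁅X, P⁆ ≤ U := (commutator_mono l' le_rfl).trans (commutator_sup_left_le le_normalizer
    (centralizer_le_normalizer_of_le h.le) (commutator_le_left_of_le_normalizer h.norm) (comm_le_of_cent le_rfl))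
  exact ⟨this, le_normalizer_of_commutator_le le_rfl (this.trans l)⟩

theorem inf_eq (h' : HB A U P') : U ⊓ 𝐂(A) = U ⊓ A :=
  le_antisymm (le_inf inf_le_left (h.cent_eq.le.trans (commutator_le_right_of_le_normalizer (h'.le'.trans h'.norm))))
    (inf_le_inf_left _ h.ab')

theorem card_eq (h' : HB A U P') : Nat.card U = Nat.card A := by
  have e := h.inf_eq h'
  have e' := h'.inf_eq h
  obtain ⟨F, _, _, _, _, h⟩ := h
  rw [h.nat.card_V, h.nat.card_A, e, e', inf_comm]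

end HB

namespace HF
variable (h : HF Y U A P)
include h

theorem hb : HB U A P := let ⟨F, _, k, _, _, h⟩ := h; ⟨F, _, k, _, _, h.toHb⟩

protected theorem cj (g : G) : HF (cj[g] Y) (cj[g] U) (cj[g] A) (cj[g] P) := by
  obtain ⟨F, _, k, ρ, ψ, h⟩ := h
  refine ⟨F, _, k, _, _, h.toHb.cj g, fun x hx e => ?_, fun x hx e => ?_, cj_mono g h.lU, cj_mono g h.lA, ?_, ?_⟩
  · rw [← h.gen _ (mem_cj.1 hx) e, cj_sup, ← cj_mul, ← cj_mul]; congr 3; group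
  · rw [← cj_normalizer]; exact mem_cj.2 (h.bor _ (mem_cj.1 hx) e)
  · simpa only [cj_inf, cj_sup, cj_centralizer] using cj_mono g h.cen
  · simpa only [cj_inf, cj_normalizer] using cj_mono g h.nor

theorem lU : U ≤ Y := let ⟨_, _, _, _, _, h⟩ := h; h.lU
theorem lA : A ≤ Y := let ⟨_, _, _, _, _, h⟩ := h; h.lA
theorem cen : Y ⊓ 𝐂(U) ≤ U ⊔ 𝐂(P) := let ⟨_, _, _, _, _, h⟩ := h; h.cen
theorem nor : Y ⊓ 𝐍(U) ≤ 𝐍(P) ⊓ 𝐍(A) := let ⟨_, _, _, _, _, h⟩ := h; h.nor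

protected theorem ncl : ncl A P = P := by
  obtain ⟨F, _, _, ρ, ψ, h⟩ := h
  obtain ⟨g, hg, g0⟩ := h.exists_w
  exact le_antisymm (ncl_le_of_le h.nat.le) ((h.gen g hg g0).ge.trans (sup_le (le_ncl _ _) (cj_le_ncl hg)))

theorem res_sup : 𝐑[2](P) ⊔ A = P :=
  have l := sup_le (pResidualOf_le 2 P) h.hb.le'
  (sn_of_pResidualOf_le le_sup_left l).eq_of_ncl_eq
    (le_antisymm (ncl_le_of_le l) (h.ncl.ge.trans (ncl_mono le_sup_right le_rfl)))

theorem restrict (l : X ≤ Y) (hU : U ≤ X) (hA : A ≤ X) : HF X U A P :=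
  let ⟨F, _, k, _, _, h⟩ := h
  ⟨F, _, k, _, _, h.toHb, h.gen, h.bor, hU, hA, (inf_le_inf_right _ l).trans h.cen, (inf_le_inf_right _ l).trans h.nor⟩

end HF

namespace PY
variable (h : PY Y U A P P')
include h

protected theorem symm : PY Y A U P' P := ⟨h.r, h.l⟩
protected theorem cj (g : G) : PY (cj[g] Y) (cj[g] U) (cj[g] A) (cj[g] P) (cj[g] P') := ⟨h.l.cj g, h.r.cj g⟩
theorem cj' (hg : g ∈ 𝐍(Y)) : PY Y (cj[g] U) (cj[g] A) (cj[g] P) (cj[g] P') := by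
  simpa only [cj_eq_self hg] using h.cj g
theorem restrict (l : X ≤ Y) (hU : U ≤ X) (hA : A ≤ X) : PY X U A P P' := ⟨h.l.restrict l hU hA, h.r.restrict l hA hU⟩
theorem inf_eq : U ⊓ 𝐂(A) = U ⊓ A := h.l.hb.inf_eq h.r.hb
theorem comm_eq : ⁅U, A⁆ = U ⊓ A := h.l.hb.cent_eq.symm.trans h.inf_eq
theorem nR : ¬ U ⊓ A ≤ 𝐂(P) := h.inf_eq ▸ h.l.hb.nR
theorem card_eq : Nat.card U = Nat.card A := h.l.hb.card_eq h.r.hb

theorem ps (s : Nat.card U = 4) : ∃ z u a, Ps Y z u a P P' ∧ U = zpowers u ⊔ zpowers z ∧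
    A = zpowers a ⊔ zpowers z ∧ U ⊓ A = zpowers z := by
  have key : ∀ {U A P P' : Subgroup G}, PY Y U A P P' → Nat.card U = 4 → ∀ u ∈ U, u ∉ A → ∀ z ∈ U ⊓ A, z ≠ 1 →
      U = zpowers u ⊔ zpowers z ∧ U ⊓ A = zpowers z := fun {U A P P'} h s u hu u0 z hz z1 => by
    obtain ⟨F, _, _, ρ, ψ, k⟩ := h.l
    have c := k.nat.card_V
    rw [s, k.small.1 s, h.inf_eq] at c
    have e : U ⊓ A = zpowers z := (eq_of_le_of_card_le (zpowers_le.2 hz) (by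
      rw [Nat.card_zpowers, orderOf_eq_prime (by rw [sq, sq_of_ea k.ea hz.1]) z1]; omega)).symm
    have l := sup_le (zpowers_le.2 hu) (zpowers_le.2 hz.1)
    have lt := card_lt_card_of_lt (lt_of_le_of_ne (le_sup_right : zpowers z ≤ zpowers u ⊔ zpowers z) fun e' =>
      u0 (e.ge (e'.ge (mem_sup_left (mem_zpowers u)))).2)
    have dv := card_dvd_of_le l
    refine ⟨(eq_of_le_of_card_le l ?_).symm, e⟩
    have c2 : Nat.card (zpowers z) = 2 := by rw [← e]; omega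
    rw [s] at dv ⊢
    have := Nat.le_of_dvd (by omega) dv
    rw [c2] at lt
    generalize Nat.card ↥(zpowers u ⊔ zpowers z) = n at dv this lt
    have : n = 3 ∨ n = 4 := by omega
    rcases this with rfl | rfl <;> omega
  obtain ⟨a, ha, a0⟩ := SetLike.not_le_iff_exists.1 h.l.hb.nc
  simp only [mem_centralizer_iff', not_forall] at a0
  obtain ⟨u, hu, c⟩ := a0
  have hz : ⁅u, a⁆ ∈ U ⊓ A := h.comm_eq ▸ commutator_mem_commutator hu ha
  have z1 : ⁅u, a⁆ ≠ 1 := fun e => c (commutatorElement_eq_one_iff_mul_comm.1 e)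
  obtain ⟨e1, e2⟩ := key h s u hu (fun e => c (h.l.hb.ab' ha u e)) _ hz z1
  obtain ⟨e3, -⟩ := key h.symm (h.card_eq ▸ s) a ha (fun e => c (h.l.hb.ab e u hu)) _ ⟨hz.2, hz.1⟩ z1
  exact ⟨_, u, a, ⟨e1 ▸ e3 ▸ h, rfl, z1, e1 ▸ s⟩, e1, e3, e2⟩

end PY

namespace Ps
variable (h : Ps Y z u a P P')
include h

omit h [Finite G] in
theorem mu (u z : G) : u ∈ zpowers u ⊔ zpowers z := mem_sup_left (mem_zpowers u)
omit h [Finite G] in
theorem mz (u z : G) : z ∈ zpowers u ⊔ zpowers z := mem_sup_right (mem_zpowers z)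

theorem uu : u * u = 1 := sq_of_ea h.l.hb.ea (mu u z)
theorem aa : a * a = 1 := sq_of_ea h.r.hb.ea (mu a z)
theorem zz : z * z = 1 := sq_of_ea h.l.hb.ea (mz u z)
theorem uz : u * z = z * u := h.l.hb.ab (mz u z) u (mu u z)
theorem az : a * z = z * a := h.r.hb.ab (mz a z) a (mu a z)
theorem ua : u * a = z * (a * u) := by rw [← h.cm, commutatorElement_def]; group
theorem nc : u * a ≠ a * u := fun e => h.ne (h.cm ▸ cm_one e)
theorem u1 : u ≠ 1 := fun e => h.nc (by simp [e])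
theorem uz' : u ≠ z := fun e => h.nc (e ▸ h.az.symm)

protected theorem symm : Ps Y z a u P' P :=
  ⟨h.toPY.symm, by rw [← commutatorElement_inv, h.cm, inv_eq_of_mul_eq_one_right h.zz], h.ne, h.toPY.card_eq ▸ h.card⟩

protected theorem cj (g : G) : Ps (cj[g] Y) (g * z * g⁻¹) (g * u * g⁻¹) (g * a * g⁻¹) (cj[g] P) (cj[g] P') :=
  ⟨by simpa only [cj_sup, cj_zpowers] using h.toPY.cj g, by rw [← cm_conj, h.cm], fun e => h.ne (by simpa [mul_inv_eq_one] using e),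
    by rw [← cj_zpowers, ← cj_zpowers, ← cj_sup, card_cj, h.card]⟩

theorem cj' (hg : g ∈ 𝐍(Y)) : Ps Y (g * z * g⁻¹) (g * u * g⁻¹) (g * a * g⁻¹) (cj[g] P) (cj[g] P') := by
  simpa only [cj_eq_self hg] using h.cj g

theorem sup_eq : zpowers (u * z) ⊔ zpowers z = zpowers u ⊔ zpowers z :=
  le_antisymm (sup_le (zpowers_le.2 (mul_mem (mu u z) (mz u z))) le_sup_right) (sup_le (zpowers_le.2
    ((mul_mem_cancel_right (mz (u * z) z)).1 (mu _ z))) le_sup_right)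

theorem shift : Ps Y z (u * z) a P P' :=
  ⟨h.sup_eq ▸ h.toPY, by
    conv_rhs => rw [← h.cm]
    rw [commutatorElement_def, commutatorElement_def, mul_assoc u z, ← h.az]; group, h.ne, h.sup_eq ▸ h.card⟩

theorem mem_iff : x ∈ zpowers u ⊔ zpowers z ↔ x = 1 ∨ x = z ∨ x = u ∨ x = u * z := by
  refine ⟨fun hx => ?_, ?_⟩
  · obtain ⟨a, ha, b, hb, rfl⟩ := (mem_sup_of_le_normalizer (le_nV h.l.hb.ab le_sup_right le_sup_left)).1 hx
    rcases eq_or_of_mem_zpowers h.uu ha with rfl | rfl <;> rcases eq_or_of_mem_zpowers h.zz hb with rfl | rfl <;> simp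
  · rintro (rfl | rfl | rfl | rfl)
    exacts [one_mem _, mz _ _, mu _ _, mul_mem (mu _ _) (mz _ _)]

theorem inf_eq : (zpowers u ⊔ zpowers z) ⊓ (zpowers a ⊔ zpowers z) = zpowers z := by
  refine le_antisymm (fun x hx => ?_) (le_inf le_sup_right le_sup_right)
  rcases h.mem_iff.1 hx.1 with rfl | rfl | rfl | rfl
  exacts [one_mem _, mem_zpowers _, absurd (h.r.hb.ab hx.2 a (mu a z)).symm h.nc,
    absurd (h.r.hb.ab hx.2 a (mu a z)).symm h.shift.nc]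

theorem zc : z ∉ 𝐂(P) := fun c => h.toPY.nR (h.inf_eq.le.trans (zpowers_le.2 c))

theorem rel : u * u = 1 ∧ a * a = 1 ∧ z * z = 1 ∧ u * z = z * u ∧ a * z = z * a ∧
    u * a = z * (a * u) ∧ u ≠ 1 ∧ u ≠ z ∧ z ∉ 𝐂(P) := ⟨h.uu, h.aa, h.zz, h.uz, h.az, h.ua, h.u1, h.uz', h.zc⟩

theorem inf_cent : (zpowers u ⊔ zpowers z) ⊓ 𝐂(P) = ⊥ := by
  obtain ⟨F, _, _, ρ, ψ, k⟩ := h.l
  have c := k.nat.card_V'
  rw [h.card, k.small.1 h.card] at c
  exact card_eq_one.1 (by omega)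

theorem exists_conj : ∃ x ∈ P, x * z * x⁻¹ = u ∧ x * u * x⁻¹ = z := by
  have hc := h.inf_cent
  obtain ⟨F, _, _, ρ, ψ, k⟩ := h.l
  have cases : ∀ x : F, x ≠ 0 → x = 1 := fun x x0 => by
    by_contra c
    exact absurd (two_lt_card_of_ne x0 c) (by rw [k.small.1 h.card]; omega)
  have inj : ∀ v ∈ zpowers u ⊔ zpowers z, ∀ w ∈ zpowers u ⊔ zpowers z, ψ v = ψ w → v = w := fun v hv w hw e =>
    inv_mul_eq_one.1 (mem_bot.1 (hc.le ⟨Subgroup.mul_mem _ (Subgroup.inv_mem _ hv) hw, (k.nat.ψ_eq_iff hv hw).1 e⟩))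
  have z1 : ψ z 1 = 0 := (k.nat.fix z (mz u z)).1 (h.r.hb.ab (mz a z))
  have z0 : ψ z 0 = 1 := cases _ fun e => h.zc ((k.nat.ker z (mz u z)).1 (by ext i; fin_cases i <;> simp [e, z1]))
  have u1 : ψ u 1 = 1 := cases _ fun e => h.nc ((k.nat.fix u (mu u z)).2 e a (mu a z)).symm
  have two : (1 : F) + 1 = 0 := by rw [one_add_one_eq_two, k.two]
  let m : SL(2, F) := ⟨!![ψ u 0, 1 - ψ u 0 * ψ u 0; 1, -ψ u 0], by
    rw [Matrix.det_fin_two]; simp; linear_combination -two⟩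
  obtain ⟨x, hx, e⟩ := k.nat.ρsurj m
  refine ⟨x, hx, inj _ (k.nat.conj_mem hx (mz u z)) _ (mu u z) ?_, inj _ (k.nat.conj_mem hx (mu u z)) _ (mz u z) ?_⟩
  · rw [k.nat.equiv x hx z (mz u z), e]
    ext i; rw [SL2_smul_apply]; fin_cases i <;> simp [m, z0, z1, u1]
  · rw [k.nat.equiv x hx u (mu u z), e]
    ext i; rw [SL2_smul_apply]; fin_cases i <;> simp [m, z0, z1, u1]

theorem dd (y : GY d Y) : Dd (u * d) ∧ z * d ∈ 𝐂(P) := by
  obtain ⟨v, hv, c, hc, e⟩ := h.l.hb.exists_mul' (h.l.cen ⟨y.mem, centralizer_anti h.l.lU y.mem_zc.2⟩)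
  have v0 : v ∈ zpowers z := h.inf_eq ▸ h.toPY.inf_eq.le ⟨hv, (mul_mem_cancel_right (centralizer_anti h.l.hb.le' hc)).1
    (e ▸ centralizer_anti h.l.lA y.mem_zc.2)⟩
  have k : z * d ∈ 𝐂(P) := by
    rcases eq_or_of_mem_zpowers h.zz v0 with rfl | rfl
    · exact absurd (by rwa [e, one_mul]) (h.l.hb.not_cent y.dd)
    · rwa [e, ← mul_assoc, h.zz, one_mul]
  obtain ⟨x, hx, e1, -⟩ := h.shift.exists_conj
  refine ⟨?_, k⟩
  have : x * d * x⁻¹ = u * d := by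
    rw [← one_mul d, ← h.zz, mul_assoc z, ← conj_mul, e1, k x hx, mul_inv_cancel_right, mul_assoc u, ← mul_assoc z]
  exact this ▸ y.dd.cj x

end Ps

end CF.Bm
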