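-- copy of `Bm.F2` avoiding a name clash (`Comp.syl_inf`) with `Sig.S4D`
import Cfsg.Agent.NCz.BmF1

/-! Baumann's theorem: natural modules in a local subgroup are equal or commute. -/

set_option autoImplicit false
set_option linter.unusedSectionVars false

namespace CF.Bm

open Cfsg Subgroup CF.Loc CF.FF CF.GC
open CF.PLocal (maxAb thompson_le le_thompson upT)
open scoped commutatorElement MatrixGroups

universe u
variable {G : Type u} [Group G] [Finite G]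
variable {A A' B E H K L P P' T U U' V X Y : Subgroup G} {d e g : G}
variable {F : Type} [Field F] {ρ : G → SL(2, F)} {ψ : G → Fin 2 → F}

/-- extension of a natural module by a central subgroup -/
theorem Hb.extend (h : Hb F U A P ρ ψ) (l : U ≤ V) (l' : V ≤ U ⊔ 𝐂(P)) (n : P ≤ 𝐍(V)) :
    ∃ ψ', NatOn F V P A ρ ψ' ∧ ∀ g ∈ P, ρ g = 1 → g ∈ 𝐂(V) := by
  have k : ∀ v ∈ V, ∃ u ∈ U, u⁻¹ * v ∈ 𝐂(P) := fun v hv => by
    obtain ⟨u, hu, c, hc, rfl⟩ := (mem_sup_of_le_normalizer (centralizer_le_normalizer_of_le h.le)).1 (l' hv)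
    exact ⟨u, hu, by rwa [inv_mul_cancel_left]⟩
  choose! f f1 f2 using k
  have key : ∀ v ∈ V, ∀ u ∈ U, u⁻¹ * v ∈ 𝐂(P) → ψ (f v) = ψ u := fun v hv u hu c =>
    (h.nat.ψ_eq_iff (f1 v hv) hu).2 (by simpa using mul_mem (f2 v hv) (inv_mem c))
  have cen : ∀ {X}, X ≤ P → ∀ v ∈ V, v ∈ 𝐂(X) ↔ f v ∈ 𝐂(X) := fun hX v hv => by
    rw [← mul_mem_cancel_right (y := f v) (centralizer_anti hX (f2 v hv)), mul_inv_cancel_left]
  have ker : ∀ g ∈ P, g ∈ 𝐂(U) → g ∈ 𝐂(V) := fun g hg c => zpowers_le.1 (le_centralizer_iff.1 fun v hv =>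
    (cen (zpowers_le.2 hg) v hv).2 (le_centralizer_iff.1 (zpowers_le.2 c) (f1 v hv)))
  refine ⟨fun v => ψ (f v), ⟨n, h.nat.le, h.nat.ρmul, fun v hv w hw => ?_, h.nat.ρsurj, fun z => ?_,
    fun v hv => (h.nat.ker _ (f1 v hv)).trans (cen le_rfl v hv).symm, fun g hg v hv => ?_, h.nat.up, h.nat.up',
    fun v hv => (cen h.nat.le v hv).trans (h.nat.fix _ (f1 v hv)), fun a ha e => ker a (h.nat.le ha) (h.nat.infker a ha e)⟩,
    fun g hg e => ker g hg (h.ker g hg e)⟩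
  · rw [← h.nat.ψmul _ (f1 v hv) _ (f1 w hw)]
    refine key _ (mul_mem hv hw) _ (mul_mem (f1 v hv) (f1 w hw)) ?_
    have := mul_mem (f2 v hv) (f2 w hw)
    rwa [← mul_assoc, ← f2 v hv _ (inv_mem (h.le (f1 w hw))), ← mul_assoc, ← mul_inv_rev, mul_assoc] at this
  · obtain ⟨u, hu, rfl⟩ := h.nat.ψsurj z
    exact ⟨u, l hu, key u (l hu) u hu (by simp)⟩
  · rw [← h.nat.equiv g hg _ (f1 v hv)]
    refine key _ (conj_mem_of_mem_normalizer (n hg) hv) _ (h.nat.conj_mem hg (f1 v hv)) ?_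
    have := conj_mem_of_mem_normalizer (le_normalizer_centralizer (le_normalizer (H := P)) hg) (f2 v hv)
    convert this using 1; group

theorem HB.cent_of_comm (h : HB U A P) {u : G} (hu : u ∈ U) (c : ∀ g ∈ P, ⁅g, u⁆ ∈ 𝐂(P)) : u ∈ 𝐂(P) := by
  obtain ⟨F, _, _, ρ, ψ, h⟩ := h
  obtain ⟨w, hw, w0⟩ := h.exists_w
  have k : ∀ {A ρ ψ}, NatOn F U P A ρ ψ → u ∈ 𝐂(A) := fun n =>
    let ⟨a, ha, a0⟩ := SetLike.not_le_iff_exists.1 n.not_le_cent'; n.mem_cent ha a0 hu (c a (n.le ha))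
  exact h.nat.cent_of_opp hw w0 hu (k h.nat) (k (h.nat.cj' hw))

theorem HB.le_of_not (h : HB U A P) (n : P ≤ 𝐍(V)) (l : V ≤ U ⊔ 𝐂(P)) (c : ¬ V ≤ 𝐂(P)) : U ≤ V := by
  obtain ⟨v, hv, c⟩ := SetLike.not_le_iff_exists.1 c
  obtain ⟨u, hu, w, hw, rfl⟩ := h.exists_mul' (l hv)
  have n' := le_normalizer_inf h.norm n
  obtain ⟨F, _, _, ρ, ψ, k⟩ := id h
  have s := k.nat.sec
  have e := (s.irred (le_normalizer_sup n' s.norm₀) le_sup_right (sup_le inf_le_left inf_le_left)).resolve_left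
    fun e => c (mul_mem (h.cent_of_comm hu fun g hg => (e.le (mem_sup_left ⟨cm_mem (h.norm hg) hu, ?_⟩)).2) hw)
  · exact h.cm.trans ((commutator_mono e.ge le_rfl).trans ((commutator_sup_left_le le_normalizer
      (le_nV h.ab inf_le_left inf_le_left) (commutator_le_left_of_le_normalizer n') (comm_le_of_cent inf_le_right)).trans inf_le_right))
  have := cm_mem (n hg) hv
  rwa [commutatorElement_def, mul_inv_rev, mul_assoc, mul_assoc g, mul_assoc u, ← mul_assoc w, ← mul_assoc (w * g⁻¹),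
    ← hw _ (inv_mem hg), mul_inv_cancel_right, ← mul_assoc u, ← mul_assoc g, ← mul_assoc g, ← commutatorElement_def] at this

theorem HB.natP (h : HB U A P) (n : P ≤ 𝐍(V)) (l : V ≤ U ⊔ 𝐂(P)) (c : ¬ V ≤ 𝐂(P)) :
    NatP (hat V V) (bar V P) (bar V A) ∧ ⁅V, P⁆ = U := by
  have l' := h.le_of_not n l c
  refine ⟨?_, le_antisymm (h.norm_of_le l' l).1 (h.cm.trans (commutator_mono l' le_rfl))⟩
  obtain ⟨F, _, k, ρ, ψ, h⟩ := h
  obtain ⟨ψ', n, i⟩ := h.extend l' l n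
  obtain ⟨ρ', ψ'', n', i'⟩ := nat_bar n i
  exact ⟨F, _, k, ρ', ψ'', n', i'⟩

/-- the local setting -/
structure LS (e : G) (X H T : Subgroup G) : Prop where
  dd : Dd e
  pg : IsPGroup 2 X
  cen : 𝐂(X) ≤ X
  le : X ≤ H
  norm : H ≤ 𝐍(X)
  syl : IsSyl 2 T H
  lT : T ≤ Sy e

namespace LS
variable (h : LS e X H T)
include h

theorem XT : X ≤ T := h.syl.le_of_le_normalizer h.pg h.le (h.syl.le.trans h.norm)
theorem mem : e ∈ 𝛀[2](X) := h.dd.mem_omega (h.dd.mem_of_cen h.cen (h.XT.trans h.lT)) (h.XT.trans h.lT)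
theorem V_le : ncl (zpowers e) H ≤ 𝛀[2](X) := ncl_le (zpowers_le.2 h.mem) (h.norm.trans (normalizer_le_normalizer_omegaOneCenter _ _))
theorem VX : ncl (zpowers e) H ≤ X := h.V_le.trans (omegaOneCenter_le _ _)
theorem ea : IsElementaryAbelian 2 (ncl (zpowers e) H) := isElemAb_of_le (isElemAb_omegaOneCenter _ _) h.V_le
omit h in
theorem memV (e : G) (H : Subgroup G) : e ∈ ncl (zpowers e) H := le_ncl _ _ (mem_zpowers e)
theorem cent_le : H ⊓ 𝐂(ncl (zpowers e) H) ≤ 𝐍(T) :=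
  (inf_le_inf_left _ (centralizer_anti (le_ncl _ _))).trans (h.dd.cent_le_norm_syl h.syl h.lT)

theorem fd (hV : V = ncl (zpowers e) H) : FD (hat V V) (bar V H) (bar V T) (ib V e) := by
  have n : H ≤ 𝐍(V) := hV ▸ le_normalizer_ncl _ _
  have m : e ∈ V := hV ▸ memV e H
  have s := isSyl_bar h.syl n
  have nT := h.syl.le.trans n
  refine ⟨isElemAb_hat (hV ▸ h.ea), bar_le_normalizer_hat _, bar_inf_centralizer_hat n, s, ?_, (ib_mem m).2 m,
    (ib_mem_cent nT m).2 (mem_cent h.lT), fun y hy => ?_⟩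
  · obtain ⟨R, l, nR, e1⟩ := exists_bar_eq (pCoreOf_le 2 (bar V H))
    rw [← e1, bar_eq_bot_iff nR, le_centralizer_iff]
    conv_lhs => rw [hV]
    refine ncl_le_iff.2 fun g hg => ?_
    rw [cj_zpowers, zpowers_le, ← ib_mem_cent nR (conj_mem_of_mem_normalizer (n hg) m), e1]
    refine centralizer_anti (isSyl_bar (h.syl.cj_of_mem hg) n).pCoreOf_le ?_
    rw [ib_mem_cent ((cj_le_of_mem hg h.syl.le).trans n) (conj_mem_of_mem_normalizer (n hg) m), ← cj_centralizer]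
    exact conj_mem_cj g (mem_cent h.lT)
  · obtain ⟨g, hg, rfl⟩ := (mem_bar_iff n).1 hy.1
    have z := zpowers_le.2 (n hg)
    have c : e ∈ 𝐂(zpowers g) := (ib_mem_cent z m).1 (by rw [bar_zpowers' (n hg)]; exact mem_cz.2 (mem_cz.1 hy.2).symm)
    have k := h.dd.cent_le_norm_syl h.syl h.lT ⟨hg, mem_cz.2 (mem_cz.1 c).symm⟩
    exact bar_le_normalizer_bar z (zpowers_le.2 k) (pb_mem z (mem_zpowers g))

end LS

theorem f2h (he : Dd e) (pX : IsPGroup 2 X) (c : 𝐂(X) ≤ X) (XH : X ≤ H) (n : H ≤ 𝐍(X)) (hT : IsSyl 2 T H) (l : T ≤ Sy e)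
    (h : HB U A P) (h' : HB U' A' P') (PH : P ≤ H) (PH' : P' ≤ H) (x : X ≤ U ⊔ 𝐂(P)) (x' : X ≤ U' ⊔ 𝐂(P')) :
    (U = U' ∧ ∃ C ≤ H ⊓ 𝐍(T), H ≤ 𝐍(C) ∧ P' ≤ P ⊔ C) ∨ (U ≤ 𝐂(P') ∧ U' ≤ 𝐂(P)) := by
  have s : LS e X H T := ⟨he, pX, c, XH, n, hT, l⟩
  obtain ⟨V, hV⟩ : ∃ V, V = ncl (zpowers e) H := ⟨_, rfl⟩
  have nV : H ≤ 𝐍(V) := hV ▸ le_normalizer_ncl _ _
  have k : ∀ {U A P}, HB U A P → P ≤ H → X ≤ U ⊔ 𝐂(P) → NatP (hat V V) (bar V P) (bar V A) ∧ ⁅V, P⁆ = U := fun h l x =>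
    h.natP (l.trans nV) ((hV ▸ s.VX).trans x) fun c => h.not_cent he (c (hV ▸ LS.memV e H))
  obtain ⟨n1, e1⟩ := k h PH x
  obtain ⟨n2, e2⟩ := k h' PH' x'
  have l1 := commutator_le_left_of_le_normalizer (PH.trans nV)
  have l2 := commutator_le_left_of_le_normalizer (PH'.trans nV)
  refine ((s.fd hV).eq_or n1 (bar_mono PH) n2 (bar_mono PH')).imp (fun e => ⟨?_, H ⊓ 𝐂(V), le_inf inf_le_left (hV ▸ s.cent_le),
    le_normalizer_inf le_normalizer (le_normalizer_centralizer nV), inf_le_of_bar PH' nV PH e.ge⟩) fun e => ⟨?_, ?_⟩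
  · rw [← e1, ← e2, ← hat_inj l1 l2, ← commutator_hat_bar le_rfl (PH.trans nV), ← commutator_hat_bar le_rfl (PH'.trans nV), e]
  · rw [← e1, ← hat_le_centralizer_iff l1 (PH'.trans nV), ← commutator_hat_bar le_rfl (PH.trans nV)]; exact e.symm.2
  · rw [← e2, ← hat_le_centralizer_iff l2 (PH.trans nV), ← commutator_hat_bar le_rfl (PH'.trans nV)]; exact e.2

theorem Lb.vcomm (h : Lb B L) (he : Dd e) (pX : IsPGroup 2 X) (c : 𝐂(X) ≤ X) (XH : X ≤ H) (n : H ≤ 𝐍(X))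
    (hT : IsSyl 2 T H) (l : T ≤ Sy e) (LH : L ≤ H) (b : 𝐁[2](T) = B) : ⁅ncl (zpowers e) H, 𝐑[2](L)⁆ = Um L := by
  have s : LS e X H T := ⟨he, pX, c, XH, n, hT, l⟩
  obtain ⟨V, hV⟩ : ∃ V, V = ncl (zpowers e) H := ⟨_, rfl⟩
  have f := s.fd hV
  have ea := s.ea
  have VT := s.VX.trans s.XT
  have m := LS.memV e H
  rw [← hV] at ea VT m ⊢
  have nV : H ≤ 𝐍(V) := hV ▸ le_normalizer_ncl _ _
  have nL := LH.trans nV
  have nT := hT.le.trans nV
  have BT : B ≤ T := b ▸ baumann_le 2 T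
  have JB : 𝐉[2](T) ≤ B := b ▸ thompson_le_baumann 2 T
  have nc : ¬ V ≤ 𝐂(𝐑[2](L)) := fun c => h.not_cent he (BT.trans l) (c m)
  have off : ∀ E ∈ maxAb 2 T, _ := fun E hE => off_bar (hE.1.trans nT) (maxAb_off hE VT ea)
  obtain ⟨E, hE, E0⟩ := h.exists_not_le
  have EB := hE.1
  rw [PLocal.maxAb_eq_of_thompson_le JB BT] at hE
  have nE := hE.1.trans nT
  obtain ⟨A, ⟨l1, hA⟩, A0⟩ : ∃ A ∈ {A | A ≤ bar V E ∧ Off 2 (hat V V) (bar V H) A}, ¬ E ⊓ unbar V A ≤ 𝐎[2](L) := by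
    by_contra! c
    have k := (f.le_offJ (bar_mono hE.1) (isElemAb_bar hE.2.1) (off E hE)).trans (sSup_le (a := bar V 𝐎[2](L)) fun A hA =>
      (bar_unbar hA.1).ge.trans (bar_mono (c A hA)))
    refine E0 ((inf_le_of_bar EB (h.le.trans nL) h.core_le k).trans (sup_le le_rfl (by_contra fun c => nc ?_)))
    exact le_centralizer_iff.1 (h.res_le (le_normalizer_centralizer nL) inf_le_left c inf_le_right)
  have n1 : E ⊓ unbar V A ≤ 𝐍(V) := inf_le_left.trans nE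
  have l2 := commutator_le_left_of_le_normalizer n1
  have k1 : ⁅V, E ⊓ unbar V A⁆ ≤ 𝐔[2](L) := by
    refine le_trans ?_ h.omega_le
    rw [← h.omegaJ, PLocal.thompson_eq_of_le JB BT]
    refine le_omegaJ (isElemAb_of_le ea l2) (l2.trans VT) (le_centralizer_iff.1 (PLocal.thompson_le_iff.2 fun C hC => ?_))
    rw [le_centralizer_iff, ← hat_le_centralizer_iff l2 (hC.1.trans nT), ← commutator_hat_bar le_rfl n1, bar_unbar l1]
    exact f.comm_le hA (l1.trans (bar_mono hE.1)) (bar_mono hC.1) (isElemAb_bar hC.2.1) (off C hC)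
  have k2 : ⁅V, 𝐑[2](L)⁆ ≤ 𝐔[2](L) := (le_secCent_iff.1 (h.res_le (le_normalizer_secCent nL h.norm_U)
    (inf_le_left.trans EB) A0 (le_secCent_iff.2 ⟨(inf_le_left.trans EB).trans (h.le.trans h.norm_U), k1⟩))).2
  have lK := pResidualOf_le 2 L
  have l3 := commutator_le_left_of_le_normalizer (lK.trans nL)
  have e1 := commutator_commutator_eq_of_pResidualOf_eq (pResidualOf_pResidualOf 2 L) ((isElemAb_isPGroup ea).to_le l3)
  have n2 : L ≤ 𝐍(⁅V, 𝐑[2](L)⁆) := le_normalizer_commutator nL (le_normalizer_pResidualOf 2 L)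
  refine le_antisymm (e1.ge.trans (commutator_mono k2 le_rfl)) ?_
  obtain ⟨_, _, _, _, _, _, p⟩ := h.pw
  have e2 := (p.nat.sec.irred (le_normalizer_sup n2 p.nat.sec.norm₀) le_sup_right (sup_le k2 inf_le_left)).resolve_left fun e =>
    nc (commutator_eq_bot_iff_le_centralizer.1 (le_bot_iff.1 (e1.ge.trans (comm_le_of_cent
      (le_sup_left.trans (e.le.trans (inf_le_right.trans (centralizer_anti lK))))))))
  exact (commutator_mono e2.ge le_rfl).trans (commutator_sup_left_le le_normalizer (le_nV (U_ab 2 L) inf_le_left k2) e1.le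
    (comm_le_of_cent (inf_le_right.trans (centralizer_anti lK))))

theorem GY.f2b (y : GY d Y) (h : HF Y U A P) (h' : HF Y U' A' P') (c : U' ≤ 𝐂(U)) :
    U = U' ∨ (U ≤ 𝐂(P') ∧ U' ≤ 𝐂(P)) := by
  have ab : U ⊔ U' ≤ 𝐂(U ⊔ U') := by
    rw [centralizer_sup]; exact sup_le (le_inf h.hb.ab (le_centralizer_iff.1 c)) (le_inf c h'.hb.ab)
  have l := le_inf (sup_le h.lU h'.lU) ab
  have x := (inf_le_inf_left Y (centralizer_anti (le_sup_left : U ≤ U ⊔ U'))).trans h.cen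
  have x' := (inf_le_inf_left Y (centralizer_anti (le_sup_right : U' ≤ U ⊔ U'))).trans h'.cen
  obtain ⟨T, hT⟩ := exists_isSyl 2 𝐍(Y ⊓ 𝐂(U ⊔ U'))
  obtain ⟨e, he, lT⟩ := y.dd.exists_dd hT.isPGroup
  exact (f2h he (y.pg.to_le inf_le_left) (y.centric (sup_le h.lU h'.lU) ab) le_normalizer le_rfl hT lT h.hb h'.hb
    (h.hb.norm_of_le (le_sup_left.trans l) x).2 (h'.hb.norm_of_le (le_sup_right.trans l) x').2 x x').imp_left And.left

end CF.Bm
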