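-- copy of `Bm.B1` avoiding a name clash (`Comp.syl_inf`) with `Sig.S4D`
import Cfsg.Agent.NCz.BmF2

/-! Baumann's theorem: pairs of rank one groups with non-commuting modules. -/

set_option autoImplicit false
set_option linter.unusedSectionVars false

namespace CF.Bm

open Cfsg Subgroup CF.Loc CF.FF CF.GC
open CF.PLocal (maxAb thompson_le le_thompson upT)
open scoped commutatorElement MatrixGroups

universe u
variable {G : Type u} [Group G] [Finite G]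
variable {A A' A₁ B B' E H K L L' L₁ L₁' M P P' P₁ P₁' T U U' V W X Y : Subgroup G} {d e g w : G}
variable {F F' : Type} [Field F] [Field F'] {ρ : G → SL(2, F)} {ψ : G → Fin 2 → F} {ρ' : G → SL(2, F')} {ψ' : G → Fin 2 → F'}

theorem nat_idx (n : NatOn F U L B ρ ψ) (n' : NatOn F' A L' B' ρ' ψ') (hU : U ≤ B') (c : ¬ A ≤ 𝐂(U)) :
    Nat.card A = Nat.card F' * Nat.card ↥(A ⊓ 𝐂(U)) := by
  obtain ⟨v, hv, v0⟩ := SetLike.not_le_iff_exists.1 (mt le_centralizer_comm.1 c)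
  rw [n'.card_V, le_antisymm (inf_le_inf_left A (centralizer_anti hU))
    fun w hw => ⟨hw.1, n'.mem_cent (hU hv) v0 hw.1 (cm_one (hw.2 v hv) ▸ one_mem _)⟩]

theorem nat_card (n : NatOn F U L B ρ ψ) (n' : NatOn F' A L' B' ρ' ψ') (hU : U ≤ B') (hA : A ≤ B) (c : ¬ A ≤ 𝐂(U)) :
    Nat.card ↥(A ⊔ (B ⊓ 𝐂(U))) = Nat.card F' * Nat.card ↥(B ⊓ 𝐂(U)) := by
  have := card_sup_mul_card_inf (hA.trans (le_normalizer_inf le_normalizer (le_normalizer_centralizer (n.le.trans n.norm))))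
  rw [← inf_assoc, inf_eq_left.2 hA, nat_idx n n' hU c, mul_right_comm] at this
  exact Nat.eq_of_mul_eq_mul_right Nat.card_pos this

theorem nat_sup_eq (n : NatOn F U L B ρ ψ) (n' : NatOn F' A L' B' ρ' ψ') (hU : U ≤ B') (hA : A ≤ B) (c : ¬ A ≤ 𝐂(U)) :
    A ⊔ (B ⊓ 𝐂(U)) = B := by
  have l := card_le_card_of_le (sup_le hU (inf_le_left : B' ⊓ 𝐂(A) ≤ B'))
  rw [nat_card n' n hA hU (mt le_centralizer_comm.1 c), n'.card_A] at l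
  refine eq_of_le_of_card_le (sup_le hA inf_le_left) ?_
  rw [nat_card n n' hU hA c, n.card_A]
  exact Nat.mul_le_mul_right _ (Nat.le_of_mul_le_mul_right l Nat.card_pos)

theorem nat_of_sup (n : NatOn F U L B ρ ψ) (e : A ⊔ (B ⊓ 𝐂(U)) = B) : NatOn F U L A ρ ψ := by
  have hA : A ≤ B := le_sup_left.trans e.le
  refine ⟨n.norm, hA.trans n.le, n.ρmul, n.ψmul, n.ρsurj, n.ψsurj, n.ker, n.equiv, fun a ha => n.up a (hA ha), fun t => ?_,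
    fun v hv => Iff.trans ⟨fun c => ?_, fun c => centralizer_anti hA c⟩ (n.fix v hv), fun a ha => n.infker a (hA ha)⟩
  · obtain ⟨b, hb, e1⟩ := n.up' t
    obtain ⟨a, ha, o, ho, rfl⟩ := (mem_sup_of_le_normalizer' (hA.trans (le_normalizer_inf le_normalizer
      (le_normalizer_centralizer (n.le.trans n.norm))))).1 (e.ge hb)
    exact ⟨a, ha, by rw [← e1, n.ρmul _ (n.le (hA ha)) _ (n.le ho.1), n.ρ_eq_one_of_cent (n.le ho.1) ho.2, mul_one]⟩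
  · rw [← e, centralizer_sup]; exact ⟨c, le_centralizer_iff.1 inf_le_right hv⟩

namespace Hb
variable (h : Hb F U A P ρ ψ)
include h

theorem sub (hg : g ∈ P) (g0 : ρ g 1 0 ≠ 0) (n : U ≤ 𝐍(A)) : Hb F U A (A ⊔ cj[g] A) ρ ψ := by
  have k := h.nat
  have l := sup_le k.le (cj_le_of_mem hg k.le)
  obtain ⟨a, ha, a0⟩ := SetLike.not_le_iff_exists.1 k.not_le_cent'
  have c := commutator_le_left_of_le_normalizer (l.trans k.norm)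
  refine ⟨h.ea, h.ea', ⟨l.trans k.norm, le_sup_left, fun a ha b hb => k.ρmul a (l ha) b (l hb), k.ψmul,
    k.surj_of_le l le_sup_left (mem_sup_right (conj_mem_cj g ha)) (k.ρ_conj_ne ha a0 hg g0), k.ψsurj, fun v hv =>
    (k.ker v hv).trans ⟨fun c => centralizer_anti l c, fun c => ?_⟩, fun a ha => k.equiv a (l ha), k.up, k.up', k.fix, k.infker⟩,
    fun a ha => h.ker a (l ha), (h.eq_sup hg g0).trans (sup_le (commutator_mono le_rfl le_sup_left)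
      (commutator_mono le_rfl le_sup_right)), (h.eq_sup hg g0).trans (sup_le_sup (commutator_le_right_of_le_normalizer n) ?_)⟩
  · exact k.cent_of_opp hg g0 hv (centralizer_anti le_sup_left c) (centralizer_anti le_sup_right c)
  · rw [← cj_eq_self (k.norm hg), ← cj_commutator]
    exact cj_mono g (commutator_le_right_of_le_normalizer n)

theorem cen_of (hg : g ∈ P) (g0 : ρ g 1 0 ≠ 0) (l : U ≤ W) (n : g ∈ 𝐍(W)) (c : ∀ w ∈ W, ∃ u ∈ U, u * w ∈ 𝐂(A)) :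
    W ≤ U ⊔ 𝐂(A ⊔ cj[g] A) := fun w hw => by
  obtain ⟨u, hu, c1⟩ := c w hw
  obtain ⟨v, hv, c2⟩ := c _ (conj_mem_of_mem_normalizer (inv_mem n) (mul_mem (l hu) hw))
  obtain ⟨a, ha, b, hb, e⟩ := h.nat.exists_mul hg g0 (inv_mem (h.nat.conj_mem hg hv))
  have c3 : g * v * g⁻¹ * (u * w) ∈ 𝐂(cj[g] A) := by
    rw [← cj_centralizer, mem_cj]; convert c2 using 1; group
  have e1 : w = u⁻¹ * a * (a⁻¹ * (u * w)) := by group
  rw [e1]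
  refine mul_mem (mem_sup_left (mul_mem (inv_mem hu) ha.1)) (mem_sup_right ?_)
  rw [centralizer_sup]
  refine ⟨Subgroup.mul_mem _ (Subgroup.inv_mem _ ha.2) c1, ?_⟩
  have := mul_mem hb.2 c3
  rwa [← mul_assoc, ← inv_mul_cancel_left a b, ← e, inv_mul_cancel_right] at this

end Hb

theorem HB.split (h : HB U A P) (n : w ∈ 𝐍(U) ⊓ 𝐍(P)) (n' : w ∈ 𝐍(A)) (p : IsPGroup 2 (zpowers w))
    (c : w ∈ 𝐂(A) ∨ ∀ r ∈ U ⊓ 𝐂(A), ⁅w, r⁆ ∈ 𝐂(P)) : ∃ a ∈ A, a * w ∈ 𝐂(U) := by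
  have nA := h.le'.trans h.norm
  have z := zpowers_le.2 n.1
  have m := pb_mem z (mem_zpowers w)
  obtain ⟨F, _, _, ρ, ψ, k⟩ := id h
  obtain ⟨ρ', ψ', n1, i⟩ := nat_bar k.nat k.ker
  obtain ⟨y, hy, e⟩ := n1.split i (isElemAb_hat h.ea) ⟨bar_le_normalizer_hat _ m, bar_le_normalizer_bar z (zpowers_le.2 n.2) m⟩
    (bar_le_normalizer_bar z (zpowers_le.2 n') m) (bar_zpowers' n.1 ▸ isPGroup_bar p) (c.imp (fun c y hy => by
      obtain ⟨a, ha, rfl⟩ := (mem_bar_iff nA).1 hy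
      rw [← pb_mul (nA ha) n.1, c a ha, pb_mul n.1 (nA ha)]) fun c y hy => by
      rw [hat_inf_centralizer nA] at hy
      obtain ⟨r, hr, rfl⟩ := (mem_hat_iff inf_le_left).1 hy
      rw [← ib_comm n.1 hr.1, ib_mem_cent h.norm (cm_mem n.1 hr.1)]
      exact c r hr)
  obtain ⟨a, ha, rfl⟩ := (mem_bar_iff nA).1 hy
  have m1 := mul_mem (nA ha) n.1
  rw [commutator_hat_bar le_rfl h.norm, le_antisymm (commutator_le_left_of_le_normalizer h.norm) h.cm, ← pb_mul (nA ha) n.1] at e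
  exact ⟨a, ha, (pb_eq_one m1).1 (mem_bot.1 ((bar_inf_centralizer_hat le_rfl).le ⟨pb_mem le_rfl m1, e.2⟩))⟩

theorem f2c (hd : Dd d) (pX : IsPGroup 2 X) (c : 𝐂(X) ≤ X) (h : HB U A P) (h' : HB U' A' P') (l : U ≤ X) (l' : U' ≤ X)
    (x : X ≤ U ⊔ 𝐂(P)) (x' : X ≤ U' ⊔ 𝐂(P')) : U = U' ∨ (U ≤ 𝐂(P') ∧ U' ≤ 𝐂(P)) := by
  obtain ⟨T, hT⟩ := exists_isSyl 2 𝐍(X)
  obtain ⟨e, he, lT⟩ := hd.exists_dd hT.isPGroup
  exact (f2h he pX c le_normalizer le_rfl hT lT h h' (h.norm_of_le l x).2 (h'.norm_of_le l' x').2 x x').imp_left And.left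

namespace Lb
variable (h : Lb B L)
include h

theorem sup_eq (h' : Lb B' L') (hU : Um L ≤ B') (hA : Um L' ≤ B) (c : ¬ Um L' ≤ 𝐂(Um L)) : Um L' ⊔ 𝐎[2](L) = B := by
  obtain ⟨F, _, _, M, ρ, ψ, -, n, -⟩ := h.data
  obtain ⟨F', _, _, M', ρ', ψ', -, n', -⟩ := h'.data
  rw [← h.cent_Um, nat_sup_eq n n' hU hA c]

theorem hb (ea : IsElementaryAbelian 2 A) (e : A ⊔ 𝐎[2](L) = B) : ∃ (F : Type) (_ : Field F) (_ : Fintype F) (M : Subgroup G)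
    (ρ : G → SL(2, F)) (ψ : G → Fin 2 → F), Hb F (Um L) A L ρ ψ ∧ UMax B M L ∧ M ≤ 𝐍(B) ∧ ∀ g ∈ L, g ∈ M ↔ ρ g 1 0 = 0 :=
  let ⟨F, _, k, M, ρ, ψ, p, n, ker, m, _⟩ := h.data
  ⟨F, _, k, M, ρ, ψ, ⟨h.ea_Um, ea, nat_of_sup n (by rwa [h.cent_Um]), fun g hg c => centralizer_anti h.Um_le (ker g hg c),
    h.comm_Um.ge.trans (commutator_mono le_rfl (pResidualOf_le 2 L)), h.Um_le_B.trans h.le⟩, p.um, m, p.mem⟩

theorem exists_mul (e : A ⊔ 𝐎[2](L) = B) (hw : w ∈ B) : ∃ a ∈ A, a * w ∈ 𝐎[2](L) := by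
  obtain ⟨a, ha, o, ho, rfl⟩ := (mem_sup_of_le_normalizer' (((le_sup_left.trans e.le).trans h.le).trans
    (le_normalizer_pCoreOf 2 L))).1 (e.ge hw)
  exact ⟨_, inv_mem ha, by rwa [inv_mul_cancel_left]⟩

theorem pre {B' : Subgroup G} (h' : Lb B' L') (l : Y ≤ B) (l' : Y ≤ B') (hU : Um L ≤ Y) (hA : Um L' ≤ Y)
    (c : ¬ Um L' ≤ 𝐂(Um L)) (n : 𝐑[2](L) ≤ 𝐍(Y ⊓ 𝐂(Um L))) : ∃ P ≤ L, HB (Um L) (Um L') P ∧
    Y ⊓ 𝐂(Um L) ≤ Um L ⊔ 𝐂(P) ∧ Y ≤ Um L' ⊔ (Um L ⊔ 𝐂(P)) ∧ Um L' ⊔ 𝐎[2](L) = B := by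
  have e := h.sup_eq h' (hU.trans l') (hA.trans l) c
  have e' := h'.sup_eq h (hA.trans l) (hU.trans l') (mt le_centralizer_comm.1 c)
  obtain ⟨F, _, k, M, ρ, ψ, b, um, -, m⟩ := h.hb h'.ea_Um e
  obtain ⟨x, hx, x0⟩ := SetLike.not_le_iff_exists.1 (um.not_pResidualOf_le h.syl)
  have xL := pResidualOf_le 2 L hx
  have g0 := mt (m x xL).2 x0
  have cen := b.cen_of xL g0 (le_inf hU b.ab) (n hx) fun w hw =>
    let ⟨u, hu, c⟩ := h'.exists_mul e' (l' hw.1); ⟨u, hu, h'.core_cent c⟩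
  refine ⟨_, sup_le b.nat.le (cj_le_of_mem xL b.nat.le), ⟨F, _, k, ρ, ψ, b.sub xL g0 ((hU.trans l').trans (h'.le.trans h'.norm_Um))⟩,
    cen, fun y hy => ?_, e⟩
  obtain ⟨a, ha, c⟩ := h.exists_mul e (l hy)
  rw [← inv_mul_cancel_left a y]
  exact mul_mem (mem_sup_left (inv_mem ha)) (mem_sup_right (cen ⟨mul_mem (hA ha) hy, h.core_cent c⟩))

theorem norm_sup (hd : Dd d) (l : B ≤ Sy d) : L ≤ 𝐍(Um L ⊔ zpowers d) :=
  le_normalizer_of_commutator_le le_rfl (le_sup_of_le_left ((commutator_mono ((sup_le h.Um_le (zpowers_le.2 (h.memU hd l))).trans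
    h.U_le) le_rfl).trans (commutator_sup_left_le le_normalizer (le_nV (U_ab 2 L) inf_le_left h.Um_le)
      (commutator_le_left_of_le_normalizer h.norm_Um) (comm_le_of_cent inf_le_right))))

theorem bp (hd : Dd d) (l : B ≤ Sy d) : 𝐁[2](Sy d ⊓ 𝐍(Um L)) = B :=
  h.st d _ _ hd (mem_sup_right (mem_zpowers d)) (sup_le (h.Um_le_B.trans l) (zpowers_le.2 hd.mem)) (h.norm_sup hd l)
    ((Sy_pg d).to_le inf_le_left) (le_inf l (h.le.trans h.norm_Um))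
    (le_normalizer_sup inf_le_right (inf_le_left.trans ((Sy_le d).trans (centralizer_le_normalizer _))))

theorem norm_cent (hd : Dd d) (l : B ≤ Sy d) : L ≤ 𝐍(Sy d ⊓ 𝐂(Um L)) := by
  have := (h.norm_sup hd l).trans (hd.norm_inf_cent (mem_sup_right (mem_zpowers d)))
  rwa [centralizer_sup, inf_comm 𝐂(Um L), ← inf_assoc, inf_eq_left.2 (Sy_le d)] at this

theorem cent_core : 𝐂(𝐎[2](L)) ≤ 𝐎[2](L) :=
  let ⟨_, hd, _, l⟩ := h.dd; let y := h.gy hd l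
  hd.cen h.th y.mem y.le ((inf_le_inf_left _ (centralizer_anti inf_le_left)).trans y.cen)

end Lb

namespace SP
variable (h : SP B L L')
include h

protected theorem symm : SP B L' L := ⟨h.l', h.l, mt le_centralizer_comm.1 h.nc⟩

protected theorem cj (g : G) : SP (cj[g] B) (cj[g] L) (cj[g] L') :=
  ⟨h.l.cj g, h.l'.cj g, by rw [← cj_Um, ← cj_Um, ← cj_centralizer, cj_le_cj_iff]; exact h.nc⟩

theorem pa (hd : Dd d) (l : B ≤ Sy d) : Pa d (Um L) (Um L') (ncl (Um L') L) (ncl (Um L) L') :=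
  ⟨hd, B, L, L', l, h, rfl, rfl, rfl, rfl⟩

theorem sup_eq : Um L' ⊔ 𝐎[2](L) = B := h.l.sup_eq h.l' h.symm.l'.Um_le_B h.l'.Um_le_B h.nc

theorem ncl_le : ncl (Um L') L ≤ L := ncl_le_of_le (h.l'.Um_le_B.trans h.l.le)

theorem res_le : 𝐑[2](L) ≤ ncl (Um L') L :=
  h.l.res_le (le_normalizer_ncl _ _) h.l'.Um_le_B (fun c => h.nc (c.trans h.l.core_cent)) (le_ncl _ _)

theorem res : 𝐑[2](ncl (Um L') L) = 𝐑[2](L) := pResidualOf_eq_of_le h.res_le h.ncl_le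

theorem bp (hd : Dd d) (l : B ≤ Sy d) : 𝐁[2](Sy d ⊓ 𝐍(Um L)) = B := h.l.bp hd l

theorem data : ∃ (F : Type) (_ : Field F) (_ : Fintype F) (ρ : G → SL(2, F)) (ψ : G → Fin 2 → F),
    Hb F (Um L) (Um L') L ρ ψ ∧ Hb F (Um L) (Um L') (ncl (Um L') L) ρ ψ ∧ (∀ g ∈ L, ρ g 1 0 = 0 → g ∈ 𝐍(B)) ∧
    (∀ g ∈ L, ρ g 1 0 ≠ 0 → Um L' ⊔ cj[g] (Um L') = ncl (Um L') L) ∧ 𝐎[2](L) ≤ Um L ⊔ 𝐂(ncl (Um L') L) := by
  obtain ⟨F, _, k, M, ρ, ψ, b, um, nB, m⟩ := h.l.hb h.l'.ea_Um h.sup_eq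
  have n : Um L ≤ 𝐍(Um L') := h.l.Um_le_B.trans (h.l'.le.trans h.l'.norm_Um)
  have cen := fun g hg g0 => b.cen_of (g := g) hg g0 h.l.Um_le_core (le_normalizer_pCoreOf 2 L hg) fun w hw =>
    let ⟨u, hu, c⟩ := h.l'.exists_mul h.symm.sup_eq (h.l.core_le hw); ⟨u, hu, h.l'.core_cent c⟩
  have gen : ∀ g ∈ L, ρ g 1 0 ≠ 0 → Um L' ⊔ cj[g] (Um L') = ncl (Um L') L := fun g hg g0 => by
    refine le_antisymm (sup_le (le_ncl _ _) (cj_le_ncl hg)) (Loc.ncl_le le_sup_left ?_)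
    have k := (cen g hg g0).trans (sup_le ((b.sub hg g0 n).le.trans le_normalizer) (centralizer_le_normalizer _))
    obtain ⟨a, ha, a0⟩ := SetLike.not_le_iff_exists.1 h.nc
    have aL := cj_le_of_mem hg h.l.le (conj_mem_cj g (h.l'.Um_le_B ha))
    have e := um.eq_of_not_le le_sup_left (sup_le h.l.le (cj_le_of_mem hg h.l.le)) fun c =>
      b.nat.ρ_conj_ne ha a0 hg g0 ((m _ aL).1 (c (mem_sup_right (conj_mem_cj g (h.l'.Um_le_B ha)))))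
    conv_lhs => rw [← e, ← h.sup_eq, cj_sup, cj_eq_self (le_normalizer_pCoreOf 2 L hg)]
    exact sup_le (sup_le (le_sup_left.trans le_normalizer) k) (sup_le (le_sup_right.trans le_normalizer) k)
  obtain ⟨w, hw, w0⟩ := b.exists_w
  exact ⟨F, _, k, ρ, ψ, b, gen w hw w0 ▸ b.sub hw w0 n, fun g hg c => nB ((m g hg).2 c), gen, gen w hw w0 ▸ cen w hw w0⟩

theorem hb : HB (Um L) (Um L') (ncl (Um L') L) := let ⟨F, _, k, ρ, ψ, _, b, _⟩ := h.data; ⟨F, _, k, ρ, ψ, b⟩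

theorem core_le : 𝐎[2](L) ≤ Um L ⊔ 𝐂(ncl (Um L') L) := let ⟨_, _, _, _, _, _, _, _, _, c⟩ := h.data; c

theorem sup_core : ncl (Um L') L ⊔ 𝐎[2](L) = L :=
  le_antisymm (sup_le h.ncl_le (pCoreOf_le 2 L)) (h.l.sup.ge.trans (sup_le (le_sup_of_le_left h.res_le)
    (h.sup_eq.ge.trans (sup_le_sup_right (le_ncl _ _) _))))

/-- the partner module is unique -/
theorem uniq₁ (h₁ : SP B L₁ L₁') (e : Um L = Um L₁) : Um L' = Um L₁' := by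
  obtain ⟨d, hd, m, l⟩ := h.l.dd
  have c : Um L₁' ≤ 𝐂(Um L') := (h.hb.inv' h₁.l'.ea_Um ((h₁.l'.Um_le_B.trans h.sup_eq.ge).trans
    (sup_le_sup_left h.core_le _))).resolve_left (e ▸ h₁.nc)
  have l1 := (inf_le_inf_left B (centralizer_anti (le_sup_left : Um L' ≤ Um L' ⊔ Um L₁'))).trans h.l'.cent_Um.le
  have l2 := (inf_le_inf_left B (centralizer_anti (le_sup_right : Um L₁' ≤ Um L' ⊔ Um L₁'))).trans h₁.l'.cent_Um.le
  have l3 : 𝐔[2](L') ≤ B ⊓ 𝐂(Um L' ⊔ Um L₁') := le_inf h.l'.U_le_B (le_centralizer_iff.1 ((sup_le h.l'.Um_le_core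
    ((le_inf h₁.l'.Um_le_B c).trans h.l'.cent_Um.le)).trans (core_cent_U 2 L')))
  have l4 : Um L₁' ≤ B ⊓ 𝐂(Um L' ⊔ Um L₁') := le_inf h₁.l'.Um_le_B (by
    rw [centralizer_sup]; exact le_inf c (isElemAb_le_centralizer h₁.l'.ea_Um))
  refine (f2c hd (h.l.pg.to_le inf_le_left) (hd.cen h.l.th (l3 (h.l'.memU hd l)) (inf_le_left.trans l) (le_inf
    ((inf_le_inf_left _ (centralizer_anti l3)).trans (h.l'.centric hd l h.l'.U_le_B h.l'.omega_le h.l'.norm_U))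
    (inf_le_right.trans (centralizer_anti (sup_le (h.l'.Um_le.trans l3) l4))))) h.symm.hb h₁.symm.hb (h.l'.Um_le.trans l3) l4
    (l1.trans h.symm.core_le) (l2.trans h₁.symm.core_le)).resolve_right fun k => h.nc (k.1.trans (centralizer_anti ?_))
  exact e ▸ h₁.symm.hb.le'

theorem nb₁ : 𝐍(B) ⊓ 𝐍(Um L) ≤ 𝐍(Um L') := fun g hg => by
  have k := h.cj g
  rw [cj_eq_self hg.1] at k
  rw [← cj_eq_self_iff, cj_Um, k.uniq₁ h (by rw [← cj_Um, cj_eq_self hg.2])]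

theorem uk (h₁ : HB (Um L) (Um L') P₁) (g : P₁ ≤ ncl (Um L') P₁) (he : Dd e) (m : e ∈ X) (l : X ≤ Sy e) (c : 𝐂(X) ≤ X)
    (hU : Um L ≤ X) (x : X ≤ Um L ⊔ 𝐂(ncl (Um L') L)) (x₁ : X ≤ Um L ⊔ 𝐂(P₁)) (n : B ≤ 𝐍(X)) : P₁ ≤ ncl (Um L') L := by
  have n0 := (h.hb.norm_of_le hU x).2
  have n1 : L ≤ 𝐍(X) := h.sup_core.ge.trans (sup_le n0 (h.l.core_le.trans n))
  obtain ⟨T, hT, BT⟩ := exists_isSyl_ge h.l.pg (le_inf n (h.l.le.trans h.l.norm_Um))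
  obtain ⟨f, hf, lT⟩ := he.exists_dd hT.isPGroup
  have b := h.l.st e X T he m l n1 hT.isPGroup BT (hT.le.trans inf_le_left)
  obtain ⟨-, C, l1, l2, l3⟩ := (f2h hf ((Sy_pg e).to_le l) c (le_inf le_normalizer ((x.trans h.hb.sup_le_cent).trans
    (centralizer_le_normalizer _))) inf_le_left hT lT h.hb h₁ (le_inf n0 h.hb.norm)
    (le_inf (h₁.norm_of_le hU x₁).2 h₁.norm) x x₁).resolve_right fun k => h₁.nR (inf_le_left.trans k.1)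
  have l4 : C ≤ 𝐍(Um L') := (le_inf (b ▸ (l1.trans inf_le_right).trans (norm_baumann 2 T))
    (l1.trans (inf_le_left.trans inf_le_right))).trans h.nb₁
  refine g.trans (ncl_le_iff.2 fun y hy => ?_)
  obtain ⟨a, ha, k, hk, rfl⟩ := (mem_sup_of_le_normalizer' ((le_inf n0 h.hb.norm).trans l2)).1 (l3 hy)
  rw [cj_mul, cj_eq_self (l4 hk)]
  exact cj_le_of_mem ha (le_ncl _ _)

theorem ncl_ncl : ncl (Um L') L ≤ ncl (Um L') (ncl (Um L') L) := by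
  obtain ⟨F, _, _, ρ, ψ, -, b, -, gen, -⟩ := h.data
  obtain ⟨w, hw, w0⟩ := b.exists_w
  exact (gen w (h.ncl_le hw) w0).ge.trans (sup_le (le_ncl _ _) (cj_le_ncl hw))

theorem uniq₂ (h₁ : SP B L₁ L₁') (e : Um L = Um L₁) : ncl (Um L₁') L₁ ≤ ncl (Um L') L := by
  obtain ⟨d, hd, -, l⟩ := h.l.dd
  have e' := h.uniq₁ h₁ e
  have o : 𝐎[2](L) = 𝐎[2](L₁) := by rw [← h.l.cent_Um, e, h₁.l.cent_Um]
  exact h.uk (by rw [e, e']; exact h₁.hb) (e' ▸ h₁.ncl_ncl) hd (h.l.gy hd l).mem (h.l.core_le.trans l) h.l.cent_core h.l.Um_le_core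
    h.core_le (by rw [e, o]; exact h₁.core_le) (h.l.le.trans (le_normalizer_pCoreOf 2 L))

theorem uniq (h₁ : SP B L₁ L₁') (e : Um L = Um L₁) :
    Um L' = Um L₁' ∧ ncl (Um L') L = ncl (Um L₁') L₁ ∧ ncl (Um L) L' = ncl (Um L₁) L₁' :=
  have e' := h.uniq₁ h₁ e
  ⟨e', le_antisymm (h₁.uniq₂ h e.symm) (h.uniq₂ h₁ e), le_antisymm (h₁.symm.uniq₂ h.symm e'.symm) (h.symm.uniq₂ h₁.symm e')⟩

theorem nb : 𝐍(B) ⊓ 𝐍(Um L) ≤ 𝐍(Um L') ⊓ (𝐍(ncl (Um L') L) ⊓ 𝐍(ncl (Um L) L')) := fun g hg => by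
  have k := h.cj g
  rw [cj_eq_self hg.1] at k
  obtain ⟨-, e1, e2⟩ := k.uniq h (by rw [← cj_Um, cj_eq_self hg.2])
  exact ⟨h.nb₁ hg, cj_eq_self_iff.1 (by rw [cj_ncl, cj_Um, e1]), cj_eq_self_iff.1 (by rw [cj_ncl, cj_Um, e2])⟩

theorem nor (hd : Dd d) (l : B ≤ Sy d) : Sy d ⊓ 𝐍(Um L) ≤ 𝐍(Um L') ⊓ (𝐍(ncl (Um L') L) ⊓ 𝐍(ncl (Um L) L')) :=
  (le_inf (h.bp hd l ▸ le_normalizer.trans (norm_baumann 2 _)) inf_le_right).trans h.nb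

theorem hf (hd : Dd d) (l : B ≤ Sy d) : HF (Sy d) (Um L) (Um L') (ncl (Um L') L) := by
  obtain ⟨F, _, k, ρ, ψ, b, b', nB, gen, -⟩ := h.data
  obtain ⟨w, hw, w0⟩ := b.exists_w
  have l1 := h.l.Um_le_B.trans l
  refine ⟨F, _, k, ρ, ψ, b', fun g hg => gen g (h.ncl_le hg), fun g hg c => h.nb₁ ⟨nB g (h.ncl_le hg) c, b'.nat.norm hg⟩,
    l1, h.l'.Um_le_B.trans l, gen w hw w0 ▸ b.cen_of hw w0 (le_inf l1 b.ab) (h.l.norm_cent hd l hw) fun x hx => ?_,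
    (h.nor hd l).trans (le_inf (inf_le_right.trans inf_le_left) inf_le_left)⟩
  have n := centralizer_le_normalizer _ hx.2
  have m := h.nor hd l ⟨hx.1, n⟩
  exact h.symm.hb.split ⟨m.1, m.2.2⟩ n ((Sy_pg d).to_le (zpowers_le.2 hx.1)) (Or.inl hx.2)

theorem bor : L ⊓ 𝐍(Um L') ≤ 𝐍(B) := fun g hg => by
  obtain ⟨F, _, _, ρ, ψ, b, -, nB, -⟩ := h.data
  obtain ⟨a, ha, a0⟩ := SetLike.not_le_iff_exists.1 h.nc
  obtain ⟨t, e⟩ := b.nat.up _ (conj_mem_of_mem_normalizer hg.2 ha)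
  exact nB g hg.1 (by_contra fun c => b.nat.ρ_conj_ne ha a0 hg.1 c (by rw [e]; rfl))

end SP

namespace Pa
variable (h : Pa d U A P P')
include h

theorem dd : Dd d := h.1

theorem th : TH G := let ⟨_, _, _, _, _, s, _⟩ := h; s.l.th

theorem gy : GY d (Sy d) := h.dd.gy h.th

theorem py : PY (Sy d) U A P P' := by
  obtain ⟨hd, B, L, L', l, s, rfl, rfl, rfl, rfl⟩ := h
  exact ⟨s.hf hd l, s.symm.hf hd l⟩

protected theorem symm : Pa d A U P' P := by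
  obtain ⟨hd, B, L, L', l, s, rfl, rfl, rfl, rfl⟩ := h
  exact s.symm.pa hd l

protected theorem cj (g : G) : Pa (g * d * g⁻¹) (cj[g] U) (cj[g] A) (cj[g] P) (cj[g] P') := by
  obtain ⟨hd, B, L, L', l, s, rfl, rfl, rfl, rfl⟩ := h
  simpa only [cj_ncl, cj_Um] using (s.cj g).pa (hd.cj g) (cj_Sy g d ▸ cj_mono g l)

theorem tr (he : Dd e) (l : 𝐁[2](Sy d ⊓ 𝐍(U)) ≤ Sy e) : Pa e U A P P' := by
  obtain ⟨hd, B, L, L', l', s, rfl, rfl, rfl, rfl⟩ := h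
  exact s.pa he (s.bp hd l' ▸ l)

theorem nb : 𝐍(𝐁[2](Sy d ⊓ 𝐍(U))) ⊓ 𝐍(U) ≤ 𝐍(A) ⊓ (𝐍(P) ⊓ 𝐍(P')) := by
  obtain ⟨hd, B, L, L', l, s, rfl, rfl, rfl, rfl⟩ := h
  rw [s.bp hd l]; exact s.nb

theorem uniq (h' : Pa d U A₁ P₁ P₁') : A = A₁ ∧ P = P₁ ∧ P' = P₁' := by
  obtain ⟨hd, B, L, L', l, s, rfl, rfl, rfl, rfl⟩ := h
  obtain ⟨-, B₁, L₁, L₁', l₁, s₁, e, rfl, rfl, rfl⟩ := h'
  obtain rfl : B = B₁ := by rw [← s.bp hd l, e, s₁.bp hd l₁]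
  have := s.uniq s₁ e
  rwa [← e] at this

theorem bor : P ⊓ 𝐍(A) ≤ 𝐍(P') := by
  obtain ⟨hd, B, L, L', l, s, rfl, rfl, rfl, rfl⟩ := h
  exact (le_inf ((inf_le_inf_right _ s.ncl_le).trans s.bor) (inf_le_left.trans s.hb.norm)).trans
    (s.nb.trans (inf_le_right.trans inf_le_right))

theorem uk (h₁ : HF Y U A P₁) (he : Dd e) (m : e ∈ X) (l : X ≤ Sy e) (c : 𝐂(X) ≤ X) (hU : U ≤ X)
    (x : X ≤ U ⊔ 𝐂(P)) (x₁ : X ≤ U ⊔ 𝐂(P₁)) (n : 𝐁[2](Sy d ⊓ 𝐍(U)) ≤ 𝐍(X)) : P₁ ≤ P := by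
  obtain ⟨hd, B, L, L', l', s, rfl, rfl, rfl, rfl⟩ := h
  exact s.uk h₁.hb h₁.ncl.ge he m l c hU x x₁ (s.bp hd l' ▸ n)

end Pa

end CF.Bm
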