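-- copy of `Bm.S1` avoiding a name clash (`Comp.syl_inf`) with `Sig.S4D`
import Cfsg.Agent.NCz.BmL2

/-! Baumann's theorem: small pairs. -/

set_option autoImplicit false
set_option linter.unusedSectionVars false

namespace CF.Bm

open Cfsg Subgroup CF.Loc CF.FF CF.GC
open CF.PLocal (maxAb thompson_le le_thompson upT)
open scoped commutatorElement MatrixGroups

universe u
variable {G : Type u} [Group G] [Finite G]
variable {A A' A₁ B E H K L L' M P P' P₁ P₁' Q S T U U' U₁ V W X Y : Subgroup G}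
  {a a₁ b d e f g r s t u u₁ v w x z z₁ τ : G}

namespace Sx
open Lx

theorem mem_c2 : x ∈ 𝐂(zpowers u ⊔ zpowers z) ↔ u * x = x * u ∧ z * x = x * z := by
  rw [centralizer_sup, mem_inf, mem_cz, mem_cz]

theorem mem_n2 (c : g * u * g⁻¹ ∈ zpowers u ⊔ zpowers z) (c' : g * z = z * g) : g ∈ 𝐍(zpowers u ⊔ zpowers z) :=
  mem_normalizer_of_cj_le (by
    rw [cj_sup, cj_zpowers, cj_zpowers, c', mul_inv_cancel_right]; exact sup_le (zpowers_le.2 c) le_sup_right)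

theorem four (p : ∃ k, τ ^ 2 ^ k = 1) (n : τ * τ ≠ 1) : ∃ g ∈ zpowers τ, g * g ≠ 1 ∧ g * g * (g * g) = 1 := by
  obtain ⟨k, hk⟩ := p
  induction k generalizing τ with
  | zero => exact absurd (by rw [show τ = 1 by simpa using hk, mul_one]) n
  | succ k ih =>
    by_cases c : τ * τ * (τ * τ) = 1
    · exact ⟨τ, mem_zpowers τ, n, c⟩
    obtain ⟨g, hg, e⟩ := ih c (by rw [← sq, ← pow_mul, ← pow_succ', hk])
    exact ⟨g, zpowers_le.2 (mul_mem (mem_zpowers τ) (mem_zpowers τ)) hg, e⟩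

theorem inv_zp (c : u * τ * u⁻¹ = τ⁻¹) (hg : g ∈ zpowers τ) : u * g * u⁻¹ = g⁻¹ := by
  obtain ⟨i, rfl⟩ := hg
  rw [← conj_zpow, c, inv_zpow]

theorem comm_zp (c : τ * z = z * τ) (hg : g ∈ zpowers τ) : g * z = z * g := (zpowers_le.2 (mem_cz.2 c.symm) hg z (mem_zpowers z)).symm

theorem pel (pY : IsPGroup 2 Y) (hx : x ∈ Y) : ∃ k, x ^ 2 ^ k = 1 := let ⟨k, e⟩ := pY ⟨x, hx⟩; ⟨k, congrArg Subtype.val e⟩

theorem uniq (hx : x ∈ zpowers τ) (hz : z ∈ zpowers τ) (sx : x * x = 1) (sz : z * z = 1) (x1 : x ≠ 1) (z1 : z ≠ 1) : x = z :=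
  CF.GW.eq_of_cyc (K := zpowers τ) (inferInstanceAs (IsCyclic (zpowers τ))) hx hz (.mk' x1 sx) (.mk' z1 sz)

theorem fixo (o : Odd (orderOf g)) (p : ∃ k, s ^ 2 ^ k = 1) (e : g * x * g⁻¹ = x * s) (c : g * s = s * g) : s = 1 := by
  have it : ∀ n : ℕ, g ^ n * x * (g ^ n)⁻¹ = x * s ^ n := fun n => by
    induction n with
    | zero => simp
    | succ n ih =>
      rw [pow_succ', mul_inv_rev, mul_assoc g, mul_assoc g, ← mul_assoc (_ * x), ih, ← mul_assoc, ← conj_mul, e, ← conj_pow, c,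
        mul_inv_cancel_right, pow_succ', mul_assoc]
  have := it (orderOf g)
  rw [pow_orderOf_eq_one, one_mul, inv_one, mul_one, left_eq_mul] at this
  obtain ⟨k, hk⟩ := p
  exact (pow_eq_one_iff_of_coprime ((Nat.coprime_two_right.2 o).pow_right k)).1 ⟨this, hk⟩

theorem oddc (o : Odd (orderOf g)) (p : ∃ k, τ ^ 2 ^ k = 1) (e : g * τ * g⁻¹ ∈ zpowers τ) : g * τ = τ * g := by
  obtain ⟨k, hk⟩ := p
  induction k generalizing τ with
  | zero => rw [show τ = 1 by simpa using hk, mul_one, one_mul]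
  | succ k ih =>
    obtain ⟨i, hi⟩ := e
    have hk' : (τ * τ) ^ 2 ^ k = 1 := by rw [← sq, ← pow_mul, ← pow_succ', hk]
    have c := ih (τ := τ * τ) ⟨i, by rw [← conj_mul, ← hi]; exact (Commute.refl τ).mul_zpow i⟩ hk'
    have c' : ∀ j : ℤ, g * (τ * τ) ^ j = (τ * τ) ^ j * g := fun j => (Commute.zpow_right c j :)
    replace hi : τ ^ i = _ := hi
    obtain ⟨j, rfl | rfl⟩ := Int.even_or_odd' i
    · rw [zpow_mul, zpow_two, eq_mul_inv_iff_mul_eq, ← c', mul_right_inj] at hi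
      rw [← hi, c']
    · rw [add_comm, zpow_add, zpow_one, zpow_mul, zpow_two] at hi
      have := fixo o ⟨k, by rw [← zpow_natCast, ← zpow_mul, mul_comm, zpow_mul, zpow_natCast, hk', one_zpow]⟩ hi.symm (c' j)
      rw [this, mul_one, eq_mul_inv_iff_mul_eq] at hi
      exact hi.symm

section
variable (h : Ps Y z u a P P')
include h

theorem mu : u ∈ Y := h.l.lU (Ps.mu u z)
theorem mz : z ∈ Y := h.l.lU (Ps.mz u z)
theorem ui : u⁻¹ = u := inv_eq_of_mul_eq_one_right h.uu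
theorem zi : z⁻¹ = z := inv_eq_of_mul_eq_one_right h.zz

theorem cjz (hg : g ∈ 𝐍(Y)) (c : g * z = z * g) : Ps Y z (g * u * g⁻¹) (g * a * g⁻¹) (cj[g] P) (cj[g] P') := by
  have := h.cj' hg
  rwa [c, mul_inv_cancel_right] at this

theorem of_mem (h₁ : Ps Y z v b P₁ P₁') (m : v ∈ zpowers u ⊔ zpowers z) : v = u ∨ v = u * z :=
  ((h.mem_iff.1 m).resolve_left h₁.u1).resolve_left h₁.uz'

theorem sq_ua : u * a * (u * a) = z := by
  nth_rw 1 [h.ua]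
  rw [mul_assoc, mul_assoc, ← mul_assoc u, h.uu, one_mul, h.aa, mul_one]

theorem inv_ua : (u * a)⁻¹ = u * a * z := by
  rw [inv_eq_iff_mul_eq_one, ← mul_assoc, sq_ua h, h.zz]

theorem zua : u * a * z = z * (u * a) := by rw [mul_assoc, h.az, ← mul_assoc, h.uz, mul_assoc]

theorem inv_mul (h₁ : Ps Y z₁ u₁ a₁ P₁ P₁') : u * (u * u₁) * u⁻¹ = (u * u₁)⁻¹ ∧ u₁ * (u * u₁) * u₁⁻¹ = (u * u₁)⁻¹ := by
  rw [← mul_assoc, h.uu, one_mul, mul_inv_rev, mul_assoc, mul_inv_cancel_right, ui h₁, ui h]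
  exact ⟨rfl, rfl⟩

theorem sq_ne (s : v * v = 1) (c : u * v ≠ v * u) : u * v * (u * v) ≠ 1 := fun e => c (by
  rw [eq_inv_of_mul_eq_one_left e, mul_inv_rev, ui h, inv_eq_of_mul_eq_one_right s])

theorem cjv (h₁ : Ps Y z u₁ a₁ P₁ P₁') (hs : s ∈ zpowers (u * u₁)) : ∃ a P P', Ps Y z (u * s) a P P' := by
  have k : ∀ {v b Q Q'}, Ps Y z v b Q Q' → v * (u * u₁) * v⁻¹ = (u * u₁)⁻¹ → ∀ j : ℤ,
      ∃ a P P', Ps Y z (v * (u * u₁) ^ (2 * j)) a P P' := fun {v b Q Q'} k e j => by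
    have m : ((u * u₁) ^ j)⁻¹ ∈ zpowers (u * u₁) := inv_mem (zpow_mem (mem_zpowers _) j)
    have := cjz k (le_normalizer (zpowers_le.2 (mul_mem (mu h) (mu h₁)) m)) (comm_zp (by
      rw [mul_assoc, h₁.uz, ← mul_assoc, h.uz, mul_assoc]) m)
    rw [← inv_zp e (zpow_mem (mem_zpowers _) j), inv_mul_cancel_right, inv_zp e (zpow_mem (mem_zpowers _) j), inv_inv,
      mul_assoc, ← zpow_add, ← two_mul] at this
    exact ⟨_, _, _, this⟩
  obtain ⟨i, rfl⟩ := hs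
  obtain ⟨j, rfl | rfl⟩ := Int.even_or_odd' i
  · exact k h (inv_mul h h₁).1 j
  · have := k h₁ (inv_mul h h₁).2 j
    rwa [show u₁ * (u * u₁) ^ (2 * j) = u * (u * u₁) ^ (2 * j + 1) by
      rw [add_comm, zpow_add, zpow_one, ← mul_assoc, ← mul_assoc, h.uu, one_mul]] at this

end

variable (y : GY d Y)
include y

theorem nomove (h : HF Y U A P) (h₁ : Ps Y z v b P₁ P₁') : ¬ cj[v] P ≤ 𝐂(P) := fun c => h.hb.dg (h₁.dd y).1 (by
  rwa [cj_mul, cj_eq_self (h.nor ⟨y.mem, centralizer_le_normalizer _ (centralizer_anti h.lU y.mem_zc.2)⟩).1,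
    le_centralizer_comm])

variable (h : Ps Y z u a P P')
include h

theorem sz0 (h₁ : Ps Y z u₁ a₁ P₁ P₁') (c : u * u₁ = u₁ * u) : u₁ = u ∨ u₁ = u * z :=
  of_mem h h₁ (((y.f2b h.l h₁.l (sup_le (zpowers_le.2 (mem_c2.2 ⟨c, h₁.uz.symm⟩))
    (zpowers_le.2 (mem_c2.2 ⟨h.uz, rfl⟩)))).resolve_right fun k => h₁.zc (k.1 (Ps.mz u z))).ge (Ps.mu u₁ z))

theorem sz4 (hτ : τ ∈ Y) (c : τ * z = z * τ) (i : u * τ * u⁻¹ = τ⁻¹) (n : τ * τ ≠ 1) : ∃ g ∈ zpowers τ, g * g = z := by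
  obtain ⟨g, hg, n, e⟩ := four (pel y.pg hτ) n
  have i' := inv_zp i (mul_mem hg hg)
  rw [inv_eq_of_mul_eq_one_right e, mul_inv_eq_iff_eq_mul] at i'
  have e' : g * u * g⁻¹ = u * (g * g) := by
    rw [← inv_eq_of_mul_eq_one_right e, mul_inv_rev, ← mul_assoc, mul_left_inj, ← inv_zp i hg, ← mul_assoc, ← mul_assoc, h.uu,
      one_mul, ui h]
  have := sz0 y h (cjz h (le_normalizer (zpowers_le.2 hτ hg)) (comm_zp c hg)) (by rw [e', mul_assoc, ← i'])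
  rw [e', mul_eq_left, mul_right_inj] at this
  exact ⟨g, hg, this.resolve_left n⟩

theorem szi (hτ : τ ∈ Y) (c : τ * z = z * τ) (i : u * τ * u⁻¹ = τ⁻¹) (n : τ * τ ≠ 1) : z ∈ zpowers (τ * τ) := by
  obtain ⟨_, ⟨j, rfl⟩, e⟩ := sz4 y h hτ c i n
  exact ⟨j, ((Commute.refl τ).mul_zpow j).trans e⟩

theorem szp (h₁ : Ps Y z v b P₁ P₁') (c : v * u = z * (u * v)) : v = a ∨ v = a * z := by
  refine of_mem h.symm h₁ ((y.lp1 h.toPY h₁.toPY (sup_le (zpowers_le.2 (mem_n2 ?_ h₁.uz)) (le_sup_right.trans le_normalizer))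
    (sup_le (zpowers_le.2 (mem_n2 ?_ h.uz)) (le_sup_right.trans le_normalizer)) fun k => h.ne ?_).1.le (Ps.mu v z))
  · rw [c, ← mul_assoc, mul_inv_cancel_right]; exact mul_mem (Ps.mz u z) (Ps.mu u z)
  · rw [show u * v = z⁻¹ * (v * u) by rw [c, inv_mul_cancel_left], ← mul_assoc, mul_inv_cancel_right]
    exact mul_mem (inv_mem (Ps.mz v z)) (Ps.mu v z)
  · rwa [← (mem_c2.1 (k (Ps.mu v z))).1, right_eq_mul] at c

theorem cm2 (h₁ : Ps Y z₁ u₁ a₁ P₁ P₁') (n : z ≠ z₁) (c : u * z₁ = z₁ * u) (c₁ : u₁ * z = z * u₁) : u * u₁ = u₁ * u := by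
  by_contra k
  have m := mul_mem (mu h) (mu h₁)
  exact n (uniq (szi y h m (by rw [mul_assoc, c₁, ← mul_assoc, h.uz, mul_assoc]) (inv_mul h h₁).1 (sq_ne h h₁.uu k))
    (szi y h₁ m (by rw [mul_assoc, h₁.uz, ← mul_assoc, c, mul_assoc]) (inv_mul h h₁).2 (sq_ne h h₁.uu k)) h.zz h₁.zz h.ne h₁.ne)

omit h in
theorem cross0 (T : Subgroup G) : T ≤ Y → ∀ {z u a P P' z₁ u₁ a₁ P₁ P₁'}, Ps Y z u a P P' → Ps Y z₁ u₁ a₁ P₁ P₁' → z ≠ z₁ →
    u ∈ T → a ∈ T → u₁ ∈ T → a₁ ∈ T → P₁ ⊔ P₁' ≤ 𝐂(P ⊔ P') := by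
  induction T using WellFoundedLT.induction with | ind T ih => ?_
  intro l z u a P P' z₁ u₁ a₁ P₁ P₁' h h₁ n hu ha hu₁ ha₁
  have key : ∀ {z u a P P' z₁ u₁ a₁ P₁ P₁'}, Ps Y z u a P P' → Ps Y z₁ u₁ a₁ P₁ P₁' → u ∈ T → a ∈ T → u₁ ∈ T →
      u₁ * z = z * u₁ := fun {z u a P P' z₁ u₁ a₁ P₁ P₁'} h h₁ hu ha hu₁ => by_contra fun c => by
    have lD : zpowers u ⊔ zpowers a ≤ T := sup_le (zpowers_le.2 hu) (zpowers_le.2 ha)
    have lt := (sn_of_isPGroup (y.pg.to_le l) lD).ncl_lt fun e => c (mem_cz.1 (sup_le (zpowers_le.2 (mem_cz.2 h.uz.symm))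
      (zpowers_le.2 (mem_cz.2 h.az.symm)) (e.ge hu₁))).symm
    exact nomove y h.l h₁ (le_sup_left.trans ((ih _ lt (lt.le.trans l) h (h.cj' (le_normalizer (l hu₁)))
      (fun e => c (mul_inv_eq_iff_eq_mul.1 e.symm)) (le_ncl _ _ (Ps.mu u a)) (le_ncl _ _ (Ps.mz u a))
      (cj_le_ncl hu₁ (conj_mem_cj _ (Ps.mu u a))) (cj_le_ncl hu₁ (conj_mem_cj _ (Ps.mz u a)))).trans (centralizer_anti le_sup_left)))
  have k1 := key h h₁ hu ha hu₁
  have k2 := key h h₁.symm hu ha ha₁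
  have k3 := key h₁ h hu₁ ha₁ hu
  have k4 := key h₁ h.symm hu₁ ha₁ ha
  have k5 : z * z₁ = z₁ * z := by
    rw [← h₁.cm]; exact mem_cz.1 (cm_mem (le_normalizer (mem_cz.2 k1.symm)) (mem_cz.2 k2.symm))
  refine y.kl h.toPY h₁.toPY ?_
  simp only [sup_le_iff, zpowers_le, centralizer_sup, mem_inf, mem_cz]
  exact ⟨⟨⟨⟨cm2 y h h₁ n k3 k1, k1.symm⟩, cm2 y h.symm h₁ n k4 k1, k1.symm⟩, ⟨k3, k5⟩, k4, k5⟩,
    ⟨⟨cm2 y h h₁.symm n k3 k2, k2.symm⟩, cm2 y h.symm h₁.symm n k4 k2, k2.symm⟩, ⟨k3, k5⟩, k4, k5⟩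

end Sx

open Lx Sx

namespace GY
variable (y : GY d Y) (h : Ps Y z u a P P')
include y h

theorem sz (h₁ : Ps Y z u₁ a₁ P₁ P₁') (n : u ≠ u₁) : z ∈ zpowers (u * u₁) := by
  by_cases c : u * u₁ = u₁ * u
  · rw [(sz0 y h h₁ c).resolve_left n.symm, ← mul_assoc, h.uu, one_mul]; exact mem_zpowers z
  exact zpowers_le.2 (mul_mem (mem_zpowers _) (mem_zpowers _)) (szi y h (mul_mem (mu h) (mu h₁))
    (by rw [mul_assoc, h₁.uz, ← mul_assoc, h.uz, mul_assoc]) (inv_mul h h₁).1 (sq_ne h h₁.uu c))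

theorem sinv (he : e ∈ Y) (s : e * e = 1) (c : e * z = z * e) :
    (e * u = u * e ∧ e * a = a * e) ∨ e * (u * a) * e⁻¹ = (u * a)⁻¹ := by
  have h₁ := cjz h (le_normalizer he) c
  by_cases k : u * (e * u * e⁻¹) = e * u * e⁻¹ * u
  · have k1 := sz0 y h h₁ k
    have n : e ∈ Y ⊓ 𝐍(zpowers u ⊔ zpowers z) := ⟨he, mem_n2 (h.mem_iff.2 (.inr (.inr k1))) c⟩
    have k2 := of_mem h.symm h₁.symm (conj_mem_of_mem_normalizer (h.l.nor n).2 (Ps.mu a z))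
    rw [← conj_mul, inv_ua h]
    rcases h.l.hb.inv (h.toPY.lin y.pg n (.inr fun r hr => by
      rw [cm_one (comm_zp c.symm (h.inf_eq.le hr)).symm]; exact one_mem _)) s with m | m
    · have m' := (mem_c2.1 m).1.symm
      exact k2.imp (fun e => ⟨m', mul_inv_eq_iff_eq_mul.1 e⟩) fun e => by rw [e, m', mul_inv_cancel_right, mul_assoc]
    · have m' := (mem_c2.1 m).1.symm
      exact k1.imp (fun e => ⟨mul_inv_eq_iff_eq_mul.1 e, m'⟩) fun e => by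
        rw [e, m', mul_inv_cancel_right, mul_assoc, ← h.az, mul_assoc]
  obtain ⟨g, hg, eg⟩ := sz4 y h (mul_mem (mu h) (mu h₁)) (by rw [mul_assoc u, h₁.uz, ← mul_assoc, h.uz, mul_assoc z])
    (inv_mul h h₁).1 (sq_ne h h₁.uu k)
  obtain ⟨b, Q, Q', h₂⟩ := cjv h h₁ hg
  have i : e * g * e⁻¹ = g⁻¹ := inv_zp (by
    rw [← conj_mul, mul_inv_rev, ui h, ui h₁, mul_right_inj,
      show e * (e * u * e⁻¹) * e⁻¹ = e * e * u * (e * e)⁻¹ by group, s, one_mul, inv_one, mul_one]) hg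
  have := szp y h h₂ (by
    rw [← mul_assoc u u, h.uu, one_mul, ← eg]
    nth_rw 2 [← ui h]
    rw [inv_zp (inv_mul h h₁).1 hg, inv_eq_iff_mul_eq_one, ← mul_assoc, ← mul_assoc, mul_assoc (g * g), eg, h.zz])
  right
  rcases this with e' | e'
  · rw [← e', ← mul_assoc u u, h.uu, one_mul, i]
  · rw [show u * a = g * z by rw [← mul_inv_eq_iff_eq_mul, zi h, mul_assoc, ← e', ← mul_assoc, h.uu, one_mul], ← conj_mul, i, c,
      mul_inv_cancel_right, ← eg]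
    nth_rw 2 [eg]
    rw [← zi h, ← eg]; group

theorem cross (h₁ : Ps Y z₁ u₁ a₁ P₁ P₁') (n : z ≠ z₁) : P₁ ⊔ P₁' ≤ 𝐂(P ⊔ P') :=
  cross0 y Y le_rfl h h₁ n (mu h) (mu h.symm) (mu h₁) (mu h₁.symm)

theorem sinv' (ea : IsElementaryAbelian 2 E) (l : E ≤ Y ⊓ 𝐂(zpowers z)) :
    Nat.card E ≤ 2 * Nat.card ↥(E ⊓ 𝐂(zpowers (u * a))) ∧
      E ⊓ 𝐂(zpowers (u * a)) ≤ 𝐂((zpowers u ⊔ zpowers z) ⊔ (zpowers a ⊔ zpowers z)) := by
  have k := fun x (hx : x ∈ E) => y.sinv h (l hx).1 (sq_of_ea ea hx) (mem_cz.1 (l hx).2).symm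
  have k' : ∀ x ∈ E, x ∉ 𝐂(zpowers (u * a)) → x * (u * a) * x⁻¹ = (u * a)⁻¹ := fun x hx x0 =>
    (k x hx).resolve_left fun c => x0 (mem_cz.2 (by rw [mul_assoc, ← c.2, ← mul_assoc, ← c.1, mul_assoc]))
  refine ⟨two_mul' fun x hx w hw x0 w0 => mem_cz.2 (mul_inv_eq_iff_eq_mul.1 ?_).symm, fun x hx => ?_⟩
  · rw [mul_inv_rev, mul_assoc x, mul_assoc x, ← mul_assoc (w * _), k' w hw w0, ← mul_assoc, ← conj_inv, k' x hx x0, inv_inv]
  · obtain ⟨c1, c2⟩ := (k x hx.1).resolve_right fun c => h.ne (by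
      rwa [← mem_cz.1 hx.2, mul_inv_cancel_right, inv_ua h, left_eq_mul] at c)
    rw [centralizer_sup]
    exact ⟨mem_c2.2 ⟨c1.symm, mem_cz.1 (l hx.1).2⟩, mem_c2.2 ⟨c2.symm, mem_cz.1 (l hx.1).2⟩⟩

theorem cnt (ea : IsElementaryAbelian 2 E) (he : e ∈ E) (n : e ∈ 𝐍(Y))
    (c : e * z * e⁻¹ ≠ z) (k : ∀ x ∈ E, x ∈ Y ⊓ 𝐂(zpowers z) ∨ e * x ∈ Y ⊓ 𝐂(zpowers z)) :
    ∃ E' ≤ Y, IsElementaryAbelian 2 E' ∧ Nat.card E < Nat.card E' := by
  have ab := isElemAb_le_centralizer ea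
  have c1 : Nat.card E ≤ 2 * Nat.card ↥(E ⊓ (Y ⊓ 𝐂(zpowers z))) := two_mul' fun x hx w hw x0 w0 => by
    rw [show x * w = e * x * (e * w) by rw [← ab he x hx, mul_assoc, ← mul_assoc e, sq_of_ea ea he, one_mul]]
    exact mul_mem ((k x hx).resolve_left x0) ((k w hw).resolve_left w0)
  obtain ⟨c2, c3⟩ := y.sinv' h (isElemAb_of_le ea inf_le_left) (inf_le_right (a := E))
  have h₁ := h.cj' n
  have cr := y.cross h h₁ c.symm
  generalize hB : E ⊓ (Y ⊓ 𝐂(zpowers z)) ⊓ 𝐂(zpowers (u * a)) = B at c2 c3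
  have BE : B ≤ E := hB.ge.trans (inf_le_left.trans inf_le_left)
  have BY : B ≤ Y := hB.ge.trans (inf_le_left.trans (inf_le_right.trans inf_le_left))
  have c4 := cj_mono e c3
  rw [cj_eq_self (centralizer_le_normalizer _ (centralizer_anti BE (ab he))), cj_centralizer, cj_sup, cj_sup, cj_sup,
    cj_zpowers, cj_zpowers, cj_zpowers, centralizer_sup] at c4
  rw [centralizer_sup] at c3
  have c5 : B ⊓ (zpowers u ⊔ zpowers z) = ⊥ := le_bot_iff.1 (le_trans (le_inf inf_le_right fun x hx => by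
    rw [← conj_fix he (ab (BE hx.1))]
    exact centralizer_anti le_sup_left (cr (mem_sup_left (conj_mem_cj e (h.l.hb.le hx.2))))) h.inf_cent.le)
  have c6 := card_sup_mul_card_inf ((c3.trans inf_le_left).trans (centralizer_le_normalizer _))
  rw [c5, card_bot, mul_one, h.card] at c6
  have c7 := (le_centralizer_comm.1 cr).trans' (h.l.hb.le.trans le_sup_left)
  refine ⟨(B ⊔ (zpowers u ⊔ zpowers z)) ⊔ (zpowers (e * u * e⁻¹) ⊔ zpowers (e * z * e⁻¹)),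
    sup_le (sup_le BY h.l.lU) h₁.l.lU, isElemAb_sup (isElemAb_sup (isElemAb_of_le ea BE) h.l.hb.ea (c3.trans inf_le_left))
      h₁.l.hb.ea (sup_le (c4.trans inf_le_left) (c7.trans (centralizer_anti (h₁.l.hb.le.trans le_sup_left)))), ?_⟩
  have := card_lt_card_of_lt (lt_of_le_of_ne (le_sup_left : B ⊔ (zpowers u ⊔ zpowers z) ≤ _) fun e' => h₁.r.hb.nc
    (le_sup_right.trans (e'.ge.trans (sup_le (c4.trans inf_le_right) (c7.trans (centralizer_anti (h₁.l.hb.le'.trans le_sup_left)))))))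
  omega

theorem rcs : z ∈ 𝐂(𝐉[2](Y)) ∧ ∃ E ∈ maxAb 2 Y, zpowers u ⊔ zpowers z ≤ E := by
  have mv : ∀ x ∈ Y, x * z * x⁻¹ ≠ z → x * z * x⁻¹ ∈ 𝐂(P) := fun x hx c => centralizer_anti le_sup_left
    (y.cross h (h.cj' (le_normalizer hx)) c.symm (mem_sup_left (conj_mem_cj x (h.l.hb.le (Ps.mz u z)))))
  have zY := zpowers_le.2 (mz h)
  have a1 : ncl (zpowers z) Y ≤ 𝐂(zpowers z) := ncl_le_iff.2 fun g hg => by
    rw [cj_zpowers, zpowers_le]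
    by_cases c : g * z * g⁻¹ = z
    · rw [c, mem_cz]
    · exact centralizer_anti (zpowers_le.2 (h.l.hb.le (Ps.mz u z))) (mv g hg c)
  have ea : IsElementaryAbelian 2 (ncl (zpowers z) Y) := isElemAb_of_le (isElemAb_omegaOneCenter 2 _) (ncl_le
    (le_omegaOneCenter (ea_zpowers h.zz) (le_ncl _ _) (le_centralizer_comm.1 a1))
    ((le_normalizer_ncl _ _).trans (normalizer_le_normalizer_omegaOneCenter 2 _)))
  have key : 𝐉[2](Y) ≤ 𝐂(ncl (zpowers z) Y) := by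
    by_contra hJ
    obtain ⟨E, hE, q, q0⟩ := CF.PLocal.exists_quadratic_maxAb y.pg (ncl_le_of_le zY) ea (le_normalizer_ncl _ _) hJ
    obtain ⟨g, hg, c⟩ : ∃ g ∈ Y, ¬ cj[g] (zpowers z) ≤ 𝐂(E) := by
      by_contra! c
      exact q0 (commutator_eq_bot_iff_le_centralizer'.2 (le_centralizer_comm.1 (ncl_le_iff.2 c)))
    have hE' := CF.PLocal.conj_mem_maxAb hE (le_normalizer (inv_mem hg))
    rw [cj_le_iff, cj_centralizer, le_centralizer_comm] at c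
    have q' := congrArg (cj[g⁻¹] ·) q
    simp only [cj_commutator, cj_bot, cj_eq_self (le_normalizer_ncl (zpowers z) Y (inv_mem hg))] at q'
    obtain ⟨e, he, e0⟩ := SetLike.not_le_iff_exists.1 c
    have ne : ∀ {x}, x ∉ 𝐂(zpowers z) → x * z * x⁻¹ ≠ z := fun x0 e => x0 (mem_cz.2 (mul_inv_eq_iff_eq_mul.1 e).symm)
    obtain ⟨E', l, ea', lt⟩ := y.cnt h hE'.2.1 he (le_normalizer (hE'.1 he)) (ne e0) fun x hx => by
      by_contra! k
      refine h.zc ((𝐂(P)).inv_mem_iff.1 ?_)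
      rw [show z⁻¹ = (x * z * x⁻¹)⁻¹ * ⁅x, z⁆ by rw [commutatorElement_def]; group, ← conj_fix he (le_centralizer_comm.1
        (commutator_eq_bot_iff_le_centralizer'.1 q') ((commutator_comm _ _).le (commutator_mem_commutator hx
          (le_ncl _ _ (mem_zpowers z))))),
        show e * ⁅x, z⁆ * e⁻¹ = e * x * z * (e * x)⁻¹ * (e * z * e⁻¹)⁻¹ by rw [commutatorElement_def]; group]
      exact mul_mem (inv_mem (mv x (hE'.1 hx) (ne fun m => k.1 ⟨hE'.1 hx, m⟩))) (mul_mem (mv _ (hE'.1 (mul_mem he hx))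
        (ne fun m => k.2 ⟨hE'.1 (mul_mem he hx), m⟩)) (inv_mem (mv e (hE'.1 he) (ne e0))))
    exact lt.not_ge (hE'.2.2 E' l ea')
  replace key := key.trans (centralizer_anti (le_ncl _ _))
  refine ⟨le_cz_iff.1 key, ?_⟩
  obtain ⟨E, hE⟩ := CF.PLocal.maxAb_nonempty 2 Y
  obtain ⟨c2, c3⟩ := y.sinv' h hE.2.1 (le_inf hE.1 ((le_thompson hE).trans key))
  refine ⟨(E ⊓ 𝐂(zpowers (u * a))) ⊔ (zpowers u ⊔ zpowers z), CF.PLocal.mem_maxAb_of_card_le hE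
    (sup_le (inf_le_left.trans hE.1) h.l.lU) (isElemAb_sup (isElemAb_of_le hE.2.1 inf_le_left) h.l.hb.ea
      (c3.trans (centralizer_anti le_sup_left))) (c2.trans (two_mul_lt (lt_of_le_of_ne le_sup_left fun e => h.r.hb.nc ?_))),
    le_sup_right⟩
  exact le_sup_right.trans (e.ge.trans (c3.trans (centralizer_anti le_sup_right)))

end GY

end CF.Bm
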