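-- copy of `Bm.C1` avoiding a name clash (`Comp.syl_inf`) with `Sig.S4D`
import Cfsg.Agent.NCz.BmS2
import Cfsg.Agent.NCz.BmB1

/-! Baumann's theorem: rank one groups over the Baumann subgroup of a Sylow subgroup. -/

set_option autoImplicit false
set_option linter.unusedSectionVars false

namespace CF.Bm

open Cfsg Subgroup CF.Loc CF.FF CF.GC
open CF.PLocal (maxAb thompson_le le_thompson upT)
open scoped commutatorElement MatrixGroups

universe u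
variable {G : Type u} [Group G] [Finite G]
variable {A A₁ B E K L L' P P' P₁ P₁' U U₁ V Y : Subgroup G} {a a₁ d e g t u u₁ v z : G}

theorem PY.R_le (h : PY Y U A P P') : U ⊓ A ≤ P ⊔ P' := inf_le_left.trans (h.l.hb.le.trans le_sup_left)

theorem PY.cent_or (h : PY Y U A P P') (pY : IsPGroup 2 Y) (ea : IsElementaryAbelian 2 V) (l : V ≤ Y ⊓ 𝐍(U))
    (c : V ≤ 𝐂(U ⊓ A)) : V ≤ 𝐂(U) ∨ V ≤ 𝐂(A) :=
  h.l.hb.inv' ea fun _ hv => h.lin pY (l hv) (Or.inr fun r hr => by rw [cm_one (c hv r hr).symm]; exact one_mem _)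

theorem PY.small_of (h : PY Y U A P P') (c : ∀ a ∈ U ⊓ A, ∀ b ∈ U ⊓ A, a ∉ 𝐂(P) → b ∉ 𝐂(P) → a * b ∈ 𝐂(P)) :
    Nat.card U = 4 := by
  have k := (Lx.two_mul' c).trans (Nat.mul_le_mul_left 2 (card_le_card_of_le (inf_le_inf_right _ inf_le_left)))
  rw [← h.inf_eq] at k
  obtain ⟨F, _, _, ρ, ψ, n⟩ := h.l
  have c1 := n.nat.card_V
  have c2 := n.nat.card_V'
  have := n.two_le
  have p : 0 < Nat.card ↥(U ⊓ 𝐂(P)) := Nat.card_pos
  refine n.small.2 (le_antisymm (Nat.le_of_mul_le_mul_right (Nat.le_of_mul_le_mul_left ?_ (two_pos.trans_le this)) p) this)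
  rw [← mul_assoc, ← sq, ← c2, c1]
  exact Nat.mul_le_mul_left _ k

theorem Ps.norm_of (h : Ps Y z u a P P') (hz : g * z * g⁻¹ = z) (hu : g * u * g⁻¹ = u ∨ g * u * g⁻¹ = u * z) :
    g ∈ 𝐍(zpowers u ⊔ zpowers z) := by
  rw [← cj_eq_self_iff, cj_sup, cj_zpowers, cj_zpowers, hz]
  rcases hu with e | e <;> rw [e]
  exact h.sup_eq

namespace GY
variable (y : GY d Y)
include y

theorem dich (h : PY Y U A P P') (h₁ : PY Y U₁ A₁ P₁ P₁') : U₁ ⊓ A₁ = U ⊓ A ∨ P₁ ⊔ P₁' ≤ 𝐂(P ⊔ P') := by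
  by_cases b : Nat.card U = 4
  · by_cases b₁ : Nat.card U₁ = 4
    · obtain ⟨z, u, a, s, -, -, e⟩ := h.ps b
      obtain ⟨z₁, u₁, a₁, s₁, -, -, e₁⟩ := h₁.ps b₁
      exact (em (z = z₁)).imp (fun n => by rw [e, e₁, n]) (y.cross s s₁)
    · rcases y.big h₁ b₁ h with ⟨rfl, rfl⟩ | ⟨rfl, rfl⟩ | c
      exacts [Or.inl rfl, Or.inl (inf_comm _ _), Or.inr (le_centralizer_comm.1 c)]
  · rcases y.big h b h₁ with ⟨rfl, rfl⟩ | ⟨rfl, rfl⟩ | c
    exacts [Or.inl rfl, Or.inl (inf_comm _ _), Or.inr c]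

theorem fixR (h : PY Y U A P P') (hg : g ∈ 𝐍(Y)) : g ∈ 𝐍(U ⊓ A) ∨ cj[g] (U ⊓ A) ≤ 𝐂(P) :=
  (y.dich h (h.cj' hg)).imp (fun e => cj_eq_self_iff.1 (by rw [cj_inf, e])) fun c =>
    (cj_inf g U A).le.trans ((h.cj' hg).R_le.trans (c.trans (centralizer_anti le_sup_left)))

theorem big' (h : PY Y U A P P') (b : Nat.card U ≠ 4) (h₁ : PY Y U₁ A₁ P₁ P₁') (e : U₁ ⊓ A₁ = U ⊓ A) :
    (U₁ = U ∧ A₁ = A) ∨ (U₁ = A ∧ A₁ = U) :=
  (or_assoc.2 (y.big h b h₁)).resolve_right fun c =>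
    h.nR (e.ge.trans (h₁.R_le.trans (c.trans (centralizer_anti le_sup_left))))

theorem res_norm (h : PY Y U A P P') (n : L ≤ 𝐍(Y)) (n' : L ≤ 𝐍(U ⊓ A)) : 𝐑[2](L) ≤ 𝐍(U) := by
  by_cases b : Nat.card U = 4
  · obtain ⟨z, u, a, s, rfl, rfl, e⟩ := h.ps b
    refine pResidualOf_le_iff.2 fun x hx o => ?_
    have c : x * z * x⁻¹ = z :=
      (eq_or_of_mem_zpowers s.zz (conj_mem_of_mem_normalizer (e ▸ n' hx) (mem_zpowers z))).resolve_left
        fun k => s.ne (by simpa [mul_inv_eq_one] using k)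
    exact s.norm_of c (Or.inl (mul_inv_eq_of_eq_mul (y.odd s (n hx) (mul_inv_eq_iff_eq_mul.1 c) (Nat.coprime_two_right.1 o))))
  · refine pResidualOf_le_of_pow_mem fun x hx => ⟨1, cj_eq_self_iff.1 ?_⟩
    rw [pow_one, sq, cj_mul]
    rcases y.big' h b (h.cj' (n hx)) (by rw [← cj_inf, cj_eq_self (n' hx)]) with ⟨e, -⟩ | ⟨e, e'⟩
    exacts [by rw [e, e], by rw [e, e']]

theorem eq_or (h : Ps Y z u a P P') (h₁ : Ps Y z u₁ a₁ P₁ P₁') (hv : v ∈ Y ⊓ 𝐍(zpowers a ⊔ zpowers z))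
    (c : v * u = u * v) (c₁ : v * u₁ = u₁ * v) (cz : v * z = z * v) (n : v * a ≠ a * v) : u₁ = u ∨ u₁ = u * z := by
  refine or_iff_not_imp_left.2 fun n₁ => ?_
  obtain ⟨k, hk⟩ := (mem_powers_iff_mem_zpowers.2 (y.sz h h₁ (Ne.symm n₁)))
  have uY := h.l.lU (Ps.mu u z)
  have xY := mul_mem uY (h₁.l.lU (Ps.mu u₁ z))
  have ui := inv_eq_of_mul_eq_one_right h.uu
  rcases Nat.even_or_odd k with ⟨m, rfl⟩ | o
  · exfalso
    set g := (u * u₁) ^ m with hg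
    have gg : g * g = z := by rw [hg, ← pow_add]; exact hk
    have iv : u * g * u⁻¹ = g⁻¹ := by
      rw [hg, ← conj_pow, ← inv_pow, mul_inv_rev, ui, inv_eq_of_mul_eq_one_right h₁.uu, ← mul_assoc, h.uu, one_mul]
    have e : g * u * g⁻¹ = u * z := by
      rw [← inv_eq_of_mul_eq_one_right h.zz, ← gg, mul_inv_rev, ← mul_assoc, mul_left_inj, ← iv, ui, ← mul_assoc, ← mul_assoc,
        h.uu, one_mul]
    have gz : g * z * g⁻¹ = z := by rw [← gg]; group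
    have wY : u * g ∈ Y := mul_mem uY (pow_mem xY m)
    have nU : u * g ∉ 𝐂(zpowers u ⊔ zpowers z) := fun k => h.ne (by
      have := k u (Ps.mu u z)
      rw [mul_assoc, mul_right_inj, eq_comm, ← mul_inv_eq_iff_eq_mul, e] at this
      simpa using this)
    have w := (h.l.hb.inv (h.toPY.lin y.pg ⟨wY, mul_mem (le_normalizer (Ps.mu u z)) (h.norm_of gz (Or.inr e))⟩
      (Or.inr fun r hr => ?_)) (by rw [← mul_assoc, ← inv_mul_cancel g, ← iv, ui])).resolve_left nU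
    · obtain ⟨b, hb, f, hf, e'⟩ := h.r.hb.exists_mul' (h.r.cen ⟨wY, w⟩)
      have vw : v * (u * g) * v⁻¹ = u * g := mul_inv_eq_of_eq_mul
        ((show Commute v u from c).mul_right (((show Commute v u from c).mul_right c₁).pow_right m)).eq
      have vb : v * b * v⁻¹ = b := by
        have k : b⁻¹ * (v * b * v⁻¹) = f * (v * f * v⁻¹)⁻¹ := by
          rw [eq_mul_inv_iff_mul_eq, mul_assoc, conj_mul, ← e', vw, e', inv_mul_cancel_left]
        exact (inv_mul_eq_one.1 (mem_bot.1 (h.symm.inf_cent.le (mem_inf.2 ⟨mul_mem (inv_mem hb) (conj_mem_of_mem_normalizer hv.2 hb),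
          k ▸ mul_mem hf (inv_mem (conj_mem_of_mem_normalizer (normalizer_le_normalizer_centralizer _ (h.r.nor hv).1) hf))⟩)))).symm
      have fU := centralizer_anti h.r.hb.le' hf
      rcases h.symm.mem_iff.1 hb with rfl | rfl | rfl | rfl
      · exact nU (by rwa [e', one_mul])
      · exact nU (e' ▸ mul_mem (h.l.hb.ab (Ps.mz u b)) fU)
      · exact n (mul_inv_eq_iff_eq_mul.1 vb)
      · rw [← conj_mul, mul_inv_eq_of_eq_mul cz, mul_left_inj] at vb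
        exact n (mul_inv_eq_iff_eq_mul.1 vb)
    · rw [h.inf_eq] at hr
      rcases eq_or_of_mem_zpowers h.zz hr with rfl | rfl
      · simp
      · rw [cm_one (show u * g * r = r * (u * g) by rw [mul_assoc, mul_inv_eq_iff_eq_mul.1 gz, ← mul_assoc, h.uz, mul_assoc])]
        exact one_mem _
  · obtain ⟨j, hj⟩ := (IsPGroup.iff_orderOf.1 y.pg) ⟨_, xY⟩
    have m : u * u₁ ∈ zpowers z := mem_of_pow_mem_of_coprime (by
      rw [← orderOf_mk _ xY, hj]; exact (Nat.coprime_two_left.2 o).pow_left j) ((congrArg (· ∈ zpowers z) hk).mpr (mem_zpowers z))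
    rcases eq_or_of_mem_zpowers h.zz m with e | e
    · exact absurd (by rw [← ui, inv_eq_of_mul_eq_one_right e]) n₁
    · rw [← e, ← mul_assoc, h.uu, one_mul]

end GY

theorem Pa.le_bau (h : Pa d U A P P') : U ≤ 𝐁[2](Sy d) :=
  let ⟨_, hE, l⟩ := (h.gy.rc h.py).2.1; l.trans ((le_thompson hE).trans (thompson_le_baumann 2 _))

theorem Pa.R_le (h : Pa d U A P P') : U ⊓ A ≤ 𝛀[2](𝐁[2](Sy d)) :=
  have ea := isElemAb_of_le h.py.l.hb.ea (inf_le_left : U ⊓ A ≤ U)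
  le_omegaOneCenter ea (inf_le_left.trans h.le_bau) (le_centralizer_comm.1 (inf_le_right.trans
    (centralizer_anti (le_omegaJ ea (inf_le_left.trans h.py.l.lU) (h.gy.rc h.py).1))))

namespace Lb

theorem normA (h : Lb 𝐁[2](Sy d) L) (m : Pa d U A P P') (c : ¬ U ≤ 𝐎[2](L)) : 𝐁[2](Sy d) ≤ 𝐍(U) := by
  have y := m.gy
  have p := m.py
  have BS := baumann_le 2 (Sy d)
  have VS := h.U_le_B.trans BS
  have RV := m.R_le.trans h.omega_le
  have cR : 𝐁[2](Sy d) ≤ 𝐂(U ⊓ A) := le_centralizer_comm.1 (m.R_le.trans (omegaOneCenter_le_centralizer _ _))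
  have nc : ¬ 𝐔[2](L) ≤ 𝐂(U) := fun k => c ((le_inf m.le_bau (le_centralizer_comm.1 k)).trans h.cent_U.le)
  have AQ : 𝐔[2](L) ≤ 𝐍(U) → A ≤ 𝐎[2](L) := fun k => (le_inf m.symm.le_bau (le_centralizer_comm.1
    ((p.cent_or y.pg (isElemAb_omegaOneCenter _ _) (le_inf VS k) (h.U_le_B.trans cR)).resolve_left nc))).trans h.cent_U.le
  have nQ := h.le.trans (le_normalizer_pCoreOf 2 L)
  by_cases b : Nat.card U = 4
  · obtain ⟨z, u, a, s, rfl, rfl, e⟩ := p.ps b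
    have cz : ∀ x ∈ 𝐁[2](Sy d), x * z * x⁻¹ = z := fun x hx => conj_eq_of_mem_centralizer (cR hx) (e.ge (mem_zpowers z))
    have k : 𝐔[2](L) ≤ 𝐍(zpowers u ⊔ zpowers z) := fun v hv => s.norm_of (cz v (h.U_le_B hv)) (or_iff_not_imp_left.2 fun n => by
      have s' := s.cj' (le_normalizer (VS hv))
      rw [cz v (h.U_le_B hv)] at s'
      have m' : u * (v * u * v⁻¹) ∈ 𝐔[2](L) := by
        simpa only [commutatorElement_def, inv_eq_of_mul_eq_one_right s.uu, mul_assoc] using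
          cm_mem (h.norm_U (h.le (m.le_bau (Ps.mu u z)))) hv
      rw [(eq_or_of_mem_zpowers (sq_of_ea (isElemAb_omegaOneCenter _ _) m') (y.sz s s' (Ne.symm n))).resolve_left s.ne,
        ← mul_assoc u, s.uu, one_mul])
    obtain ⟨v, hv, v0⟩ := SetLike.not_le_iff_exists.1 nc
    have aQ := AQ k (Ps.mu a z)
    refine (le_inf BS fun x hx => ?_).trans (p.nor.ge.trans inf_le_right)
    have s' := s.symm.cj' (le_normalizer (BS hx))
    rw [cz x hx] at s'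
    have cv := core_cent_U 2 L
    refine s.symm.norm_of (cz x hx) (y.eq_or s.symm s' ⟨VS hv, k hv⟩ (cv aQ v hv) (cv (conj_mem_of_mem_normalizer (nQ hx) aQ) v hv)
      (mul_inv_eq_iff_eq_mul.1 (cz v (h.U_le_B hv))) fun n => v0 ?_)
    rw [centralizer_sup]
    exact ⟨mem_cz.2 n.symm, mem_cz.2 (mul_inv_eq_iff_eq_mul.1 (cz v (h.U_le_B hv))).symm⟩
  · have k := AQ (h.U_le_J.trans ((PLocal.thompson_eq_of_le (thompson_le_baumann 2 _) BS).le.trans (y.rcb p b)))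
    intro x hx
    rcases y.big' p b (p.cj' (le_normalizer (BS hx))) (by
      rw [← cj_inf, cj_eq_self (centralizer_le_normalizer _ (cR hx))]) with ⟨e, -⟩ | ⟨-, e⟩
    · exact cj_eq_self_iff.1 e
    · exact absurd (e.ge.trans (cj_le_of_mem_normalizer (nQ hx) k)) c

theorem caseA (h : Lb 𝐁[2](Sy d) L) (m : Pa d U A P P') (c : ¬ U ≤ 𝐎[2](L)) : ∃ L', SP 𝐁[2](Sy d) L L' := by
  have n := h.normA m c
  have l := m.le_bau
  obtain ⟨hd, B, L₁, L₂, l₁, s, rfl, -⟩ := m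
  rw [← s.bp hd l₁, baumann_eq (le_inf (baumann_le 2 _) n) inf_le_left] at s
  exact ⟨L₁, h, s.l, fun k => c ((le_inf l k).trans h.cent_Um.le)⟩

theorem normR (h : Lb B L) (y : GY d 𝐎[2](L)) (p : PY 𝐎[2](L) U A P P') (r : U ⊓ A ≤ 𝛀[2](B)) : L ≤ 𝐍(U ⊓ A) := by
  have nQ := le_normalizer_pCoreOf 2 L
  by_cases k : U ⊓ A ⊓ 𝐂(L) ≤ 𝐂(P)
  swap
  · obtain ⟨r, hr, r0⟩ := SetLike.not_le_iff_exists.1 k
    exact fun x hx => (y.fixR p (nQ hx)).resolve_right fun c =>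
      r0 (c (conj_eq_of_mem_centralizer (le_centralizer_comm.1 le_rfl hx : x ∈ 𝐂(𝐂(L))) hr.2 ▸ conj_mem_cj x hr.1))
  have RV := r.trans h.omega_le
  have cR : U ⊓ A ≤ 𝐂(B) := r.trans (omegaOneCenter_le_centralizer _ _)
  obtain ⟨F, _, _, M, ρ, ψ, w, -⟩ := h.data
  have n := w.nat
  obtain ⟨x, hx, xM⟩ := SetLike.exists_of_lt w.um.lt
  have x0 : ρ x 1 0 ≠ 0 := fun e => xM ((w.mem x hx).2 e)
  have p' := p.cj' (nQ (inv_mem hx))
  by_cases c : ∀ a ∈ B, ∀ b ∈ B, a ∉ 𝐎[2](L) → b ∉ 𝐎[2](L) → a * b ∈ 𝐎[2](L)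
  · exfalso
    have q : Nat.card F ≤ 2 := by
      have := Lx.two_mul' c
      rw [n.card_A, h.cent_U, inf_eq_right.2 h.core_le] at this
      exact Nat.le_of_mul_le_mul_right this Nat.card_pos
    obtain ⟨z, u, a, s, rfl, rfl, e⟩ := p.ps (p.small_of fun a ha b hb a0 b0 => k ⟨mul_mem ha hb, by_contra fun c0 => by
      have t := Lx.three (K := 𝐔[2](L) ⊓ 𝐂(B)) ⟨RV ha, cR ha⟩ ⟨RV hb, cR hb⟩ (fun e => a0 (k ⟨ha, e⟩)) (fun e => b0 (k ⟨hb, e⟩)) c0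
      have c1 := Lx.rel_card 𝐂(L) (𝐔[2](L) ⊓ 𝐂(B))
      have c2 := n.card_V
      rw [inf_left_comm, inf_eq_left.2 (centralizer_anti h.le)] at c1
      rw [n.card_V', ← c1, sq, mul_assoc] at c2
      have := Nat.eq_of_mul_eq_mul_right Nat.card_pos (Nat.eq_of_mul_eq_mul_left Nat.card_pos c2)
      omega⟩)
    have zR := e.ge (mem_zpowers z)
    have zV := n.conj_mem (inv_mem hx) (RV zR)
    have cz : ∀ b ∈ 𝐎[2](L), b ∈ 𝐎[2](L) ⊓ 𝐂(zpowers (x⁻¹ * z * x⁻¹⁻¹)) := fun b hb => ⟨hb, mem_cz.2 (core_cent_U 2 L hb _ zV)⟩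
    obtain ⟨E, hE, E0⟩ := h.exists_not_le
    obtain ⟨f, hf, f0⟩ := SetLike.not_le_iff_exists.1 E0
    obtain ⟨E', l, ea, lt⟩ := y.cnt (s.cj' (nQ (inv_mem hx))) hE.2.1 hf (nQ (h.le (hE.1 hf))) (fun e' => s.zc (k ⟨zR,
      n.cent_of_opp hx x0 (RV zR) (cR zR) (by
        rw [← cj_centralizer, mem_cj, ← inv_inv x, inv_inv x⁻¹]
        exact n.mem_cent (hE.1 hf) (fun e => f0 (h.cent_U.le ⟨hE.1 hf, e⟩)) zV
          (by rw [cm_one (mul_inv_eq_iff_eq_mul.1 e')]; exact one_mem _))⟩))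
      fun b hb => (em _).imp (cz b) fun b0 => cz _ (c f (hE.1 hf) b (hE.1 hb) f0 b0)
    exact absurd (hE.2.2 E' (l.trans h.core_le) ea) lt.not_ge
  push Not at c
  obtain ⟨a, ha, b, hb, a0, b0, c⟩ := c
  by_contra c'
  have l : L ⊓ 𝐍(U ⊓ A) ≤ M := w.um.le_of_ne (le_inf h.le ((le_centralizer_comm.1 cR).trans (centralizer_le_normalizer _)))
    inf_le_left fun e => c' (e.ge.trans inf_le_right)
  have key : ∀ a ∈ B, a ∉ 𝐎[2](L) → cj[a] (cj[x⁻¹] U ⊓ cj[x⁻¹] A) ≤ 𝐂(cj[x⁻¹] P) := fun a ha a0 =>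
    (y.fixR p' (nQ (h.le ha))).resolve_left fun e => n.ρ_conj_ne ha (fun e => a0 (h.cent_U.le ⟨ha, e⟩)) hx x0
      ((w.mem _ (mul_mem (mul_mem hx (h.le ha)) (inv_mem hx))).1 (l (mem_inf.2 ⟨mul_mem (mul_mem hx (h.le ha)) (inv_mem hx), by
        rwa [← cj_inf, ← cj_normalizer, mem_cj, inv_inv] at e⟩)))
  refine p'.nR fun v hv => ?_
  have vV : v ∈ 𝐔[2](L) := cj_le_of_mem_normalizer (n.norm (inv_mem hx)) RV (cj_inf x⁻¹ U A ▸ hv)
  have e : v = a * v * a⁻¹ * (a * b * v * (a * b)⁻¹)⁻¹ * (b * v * b⁻¹) := by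
    have c1 := n.comm_mem_cent hb vV a ha
    have c2 := U_ab 2 L (n.conj_mem (h.le hb) vV) v vV
    rw [commutatorElement_def] at c1
    calc v = (b * v * b⁻¹ * v⁻¹)⁻¹ * (b * v * b⁻¹) := by group
      _ = (a * (b * v * b⁻¹ * v⁻¹) * a⁻¹)⁻¹ * (b * v * b⁻¹) := by rw [c1, mul_inv_cancel_right]
      _ = _ := by group
  rw [e]
  exact mul_mem (mul_mem (key a ha a0 (conj_mem_cj a hv)) (inv_mem (key _ (mul_mem ha hb) c (conj_mem_cj _ hv))))
    (key b hb b0 (conj_mem_cj b hv))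

theorem caseB (h : Lb 𝐁[2](Sy d) L) (m : Pa d U A P P') (c : U ≤ 𝐎[2](L)) (c' : A ≤ 𝐎[2](L)) :
    𝐑[2](L) ≤ 𝐍(U) ⊓ 𝐍(P) := by
  have y := h.gy m.1 (baumann_le 2 _)
  have p := m.py.restrict y.le c c'
  have nQ := le_normalizer_pCoreOf 2 L
  have n := h.normR y p m.R_le
  have k := y.res_norm p nQ n
  refine le_inf k fun x hx => mem_normalizer_of_cj_le ?_
  have p' := (p.cj' (nQ (pResidualOf_le 2 L hx))).l
  rw [cj_eq_self (k hx), cj_eq_self (y.res_norm p.symm nQ (inf_comm U A ▸ n) hx)] at p'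
  exact m.uk p' m.1 (mem_inf.2 ⟨y.mem, mem_cent (c.trans y.le)⟩) (inf_le_left.trans y.le) (y.centric c p.l.hb.ab) (le_inf c p.l.hb.ab) p.l.cen
    p'.cen (le_normalizer_inf ((m.gy.rc m.py).2.2.trans (h.le.trans nQ))
      (le_normalizer_centralizer ((baumann_le 2 _).trans inf_le_right)))

theorem caseC (hd : Dd d) (h : Lb 𝐁[2](Sy d) L) :
    (∃ L', SP 𝐁[2](Sy d) L L') ∨ ∀ U A P P', Pa d U A P P' → 𝐑[2](L) ≤ 𝐍(U) ⊓ 𝐍(P) :=
  have _ := hd
  or_iff_not_imp_left.2 fun k _ _ _ _ m =>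
    h.caseB m (by_contra fun c => k (h.caseA m c)) (by_contra fun c => k (h.caseA m.symm c))

end Lb

end CF.Bm
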