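-- copy of `Bm.M1` avoiding a name clash (`Comp.syl_inf`) with `Sig.S4D`
import Cfsg.Agent.NCz.BmA

/-! Baumann's theorem: the generation theorem. -/

set_option autoImplicit false
set_option linter.unusedSectionVars false

namespace CF.Bm

open Cfsg Subgroup CF.Loc CF.FF CF.GC
open CF.PLocal (maxAb thompson_le le_thompson upT)
open scoped commutatorElement MatrixGroups

universe u
variable {G : Type u} [Group G] [Finite G] {B Q T X Y : Subgroup G} {d e f g n : G} {r : G → G → Prop}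

theorem comm_cj (g : G) (c : d * e = e * d) : g * d * g⁻¹ * (g * e * g⁻¹) = g * e * g⁻¹ * (g * d * g⁻¹) := by
  rw [conj_mul, conj_mul, c]

/-- bad configurations -/
structure WB (r : G → G → Prop) (d : G) (Q : Subgroup G) (n : G) : Prop where
  dd : Dd d
  mem : d ∈ Q
  le : Q ≤ Sy d
  nm : n ∈ 𝐍(Q)
  nr : ¬ r d (n * d * n⁻¹)

namespace Rl
variable (h : Rl r)
include h

theorem refl (hd : Dd d) : r d d := h.bau d d hd hd rfl

theorem sw (hd : Dd d) (hf : Dd f) (c1 : d * f = f * d) (c2 : f * (n * f * n⁻¹) = n * f * n⁻¹ * f)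
    (c3 : d * (n * f * n⁻¹) = n * f * n⁻¹ * d) (c4 : d * (n * d * n⁻¹) = n * d * n⁻¹ * d) (r1 : r d f) (r2 : r f (n * f * n⁻¹)) :
    r d (n * d * n⁻¹) :=
  h.trans _ _ _ hd (hf.cj n) (hd.cj n) c3 (comm_cj n c1.symm) c4 (h.trans _ _ _ hd hf (hf.cj n) c1 c2 c3 r1 r2)
    (h.cj n _ _ hf hd c1.symm (h.symm _ _ hd hf c1 r1))

theorem wb (hd : Dd d) (he : Dd e) (c : d * e = e * d) (nr : ¬ r d e) (l : X ≤ Sy d ⊓ Sy e) : ∃ d Q n, WB r d Q n ∧ X ≤ Q := by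
  haveI := Nat.fact_prime_two
  obtain ⟨⟨d, e⟩, ⟨hd, he, c, nr, l⟩, mx⟩ := Set.exists_max_image
    {x : G × G | Dd x.1 ∧ Dd x.2 ∧ x.1 * x.2 = x.2 * x.1 ∧ ¬ r x.1 x.2 ∧ X ≤ Sy x.1 ⊓ Sy x.2}
    (fun x => Nat.card ↥(Sy x.1 ⊓ Sy x.2)) (Set.toFinite _) ⟨(d, e), hd, he, c, nr, l⟩
  dsimp only at hd he c nr l mx
  have ne : Sy d ≠ Sy e := fun k => nr (h.bau d e hd he (by rw [k]))
  have m1 : d ∈ Sy d ⊓ Sy e := ⟨hd.mem, he.mem_of_comm hd.sq c.symm⟩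
  have m2 : e ∈ Sy d ⊓ Sy e := ⟨hd.mem_of_comm he.sq c, he.mem⟩
  have l1 := lt_inf_normalizer (Sy_pg d) (inf_lt_left.2 fun k => ne (hd.Sy_eq he k))
  have l2 := lt_inf_normalizer (Sy_pg e) (inf_lt_right.2 fun k => ne (he.Sy_eq hd k).symm)
  have a := (inf_le_left : Sy d ⊓ Sy e ≤ _)
  generalize Sy d ⊓ Sy e = Q at *
  have k : ∀ {a b Y}, Dd a → Dd b → a ∈ Sy b → Q < Y → Y ≤ Sy a → Y ≤ Sy b → r a b := fun {a b Y} ha hb m q y1 y2 =>
    by_contra fun nr => (card_lt_card_of_lt (q.trans_le (le_inf y1 y2))).not_ge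
      (mx (a, b) ⟨ha, hb, (comm_of_mem m).symm, nr, l.trans (q.le.trans (le_inf y1 y2))⟩)
  obtain ⟨T, hT, lT⟩ := exists_isSyl_ge ((Sy_pg d).to_le inf_le_left) (inf_le_right : Sy d ⊓ 𝐍(Q) ≤ _)
  obtain ⟨n, hn, lT'⟩ := hT.exists_cj_le ((Sy_pg e).to_le inf_le_left) (inf_le_right : Sy e ⊓ 𝐍(Q) ≤ _)
  obtain ⟨f, hf, lf⟩ := hd.exists_dd hT.isPGroup
  have Qf := l1.le.trans (lT.trans lf)
  have m3 := conj_mem_of_mem_normalizer hn m2
  have m4 := conj_mem_of_mem_normalizer hn m1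
  have r1 := k hd hf (Qf m1) l1 inf_le_left (lT.trans lf)
  have r2 := k (he.cj n) hf (Qf m3) ((cj_eq_self hn).ge.trans_lt (cj_lt_cj_iff.2 l2)) (cj_Sy n e ▸ cj_mono n inf_le_left) (lT'.trans lf)
  have r3 := h.trans _ _ _ hd hf (he.cj n) (comm_of_mem (Qf m1)).symm (comm_of_mem (Qf m3)) (comm_of_mem (a m3)) r1
    (h.symm _ _ (he.cj n) hf (comm_of_mem (Qf m3)).symm r2)
  refine ⟨d, Q, n, ⟨hd, m1, a, hn, fun r4 => nr ?_⟩, l⟩
  simpa [mul_assoc] using h.cj n⁻¹ _ _ (hd.cj n) (he.cj n) (comm_cj n c) (h.trans _ _ _ (hd.cj n) hd (he.cj n)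
    (comm_of_mem (a m4)).symm (comm_of_mem (a m3)) (comm_cj n c) (h.symm _ _ hd (hd.cj n) (comm_of_mem (a m4)) r4) r3)

theorem z1 (mx : ∀ d Q n, WB r d Q n → B ≤ Sy d ⊓ 𝐍(Q) → 𝐁[2](Sy d ⊓ 𝐍(Q)) = B) (hd : Dd d) (he : Dd e) (c : d * e = e * d)
    (l : B ≤ Sy d) (l' : B ≤ Sy e) : r d e := by_contra fun nr => by
  haveI := Nat.fact_prime_two
  obtain ⟨d, Q, n, w, l⟩ := h.wb hd he c nr (le_inf l l')
  have a := le_inf w.le le_normalizer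
  have e1 := mx d Q n w (l.trans a)
  have e2 := (baumann_eq (e1.le.trans l) a).trans e1
  have nB : n ∈ 𝐍(B) := e2 ▸ norm_baumann 2 Q w.nm
  have e3 := mx d B n ⟨w.dd, e2 ▸ thompson_le_baumann 2 Q (omega_le_J 2 Q (w.dd.mem_omega w.mem w.le)), l.trans w.le, nB, w.nr⟩
    (le_inf (l.trans w.le) le_normalizer)
  have e4 : Sy d ⊓ 𝐍(B) = Sy d := by_contra fun k => (lt_inf_normalizer (Sy_pg d) (inf_le_left.lt_of_ne k)).not_ge
    (inf_le_inf_left _ ((norm_baumann 2 _).trans (by rw [e3])))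
  rw [e4] at e3
  exact w.nr (h.bau _ _ w.dd (w.dd.cj n) (by rw [← cj_Sy, ← cj_baumann, e3, cj_eq_self nB]))

theorem all (th : TH G) (hd : Dd d) (he : Dd e) (c : d * e = e * d) : r d e := by_contra fun nr => by
  haveI := Nat.fact_prime_two
  obtain ⟨d, Q, n, w, -⟩ := h.wb hd he c nr bot_le
  obtain ⟨⟨d, Q, n⟩, w, mx⟩ := Set.exists_max_image {x : G × Subgroup G × G | WB r x.1 x.2.1 x.2.2}
    (fun x => wt (Sy x.1 ⊓ 𝐍(x.2.1))) (Set.toFinite _) ⟨(d, Q, n), w⟩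
  replace mx := fun d' Q' n' (w' : WB r d' Q' n') l => of_wt l (mx (d', Q', n') w')
  dsimp only at mx
  replace w : WB r d Q n := w
  have z := fun {d e} => h.z1 (d := d) (e := e) fun d Q n w l => (mx d Q n w l).1
  have hd := w.dd
  obtain ⟨X, a1, a2, a3, a4, -⟩ := hd.tilde th w.mem w.le
  have lT := inf_le_inf_left (Sy d) a4
  have w' : WB r d X n := ⟨hd, a1 w.mem, a2, a4 w.nm, w.nr⟩
  have eT := eq_of_le_of_card_le lT (mx d X n w' ((baumann_le 2 _).trans lT)).2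
  rw [eT] at mx z
  clear w lT a4 a1 eT Q
  have XT := le_inf a2 le_normalizer
  have Td := (inf_le_left : Sy d ⊓ 𝐍(X) ≤ _)
  have TH := (inf_le_right : Sy d ⊓ 𝐍(X) ≤ _)
  generalize Sy d ⊓ 𝐍(X) = T at mx z XT Td TH
  have BT := baumann_le 2 T
  have pT := (Sy_pg d).to_le Td
  have zc : ∀ {x y g k}, X ≤ Sy x → X ≤ Sy y → g ∈ 𝐍(X) → k ∈ 𝐍(X) →
      g * x * g⁻¹ * (k * y * k⁻¹) = k * y * k⁻¹ * (g * x * g⁻¹) := fun a b hg hk =>
    have nc := normalizer_le_normalizer_centralizer X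
    mem_centralizer_iff'.1 (conj_mem_of_mem_normalizer (nc hk) (mem_cent b)) _
      (a3 (conj_mem_of_mem_normalizer (nc hg) (mem_cent a)))
  have zc' : ∀ {x y k}, X ≤ Sy x → X ≤ Sy y → k ∈ 𝐍(X) → x * (k * y * k⁻¹) = k * y * k⁻¹ * x := fun a b hk => by
    simpa using zc a b (one_mem _) hk
  have sy : IsSyl 2 T 𝐍(X) := by
    obtain ⟨S, hS, l⟩ := exists_isSyl_ge pT TH
    obtain ⟨f, hf, lf⟩ := hd.exists_dd hS.isPGroup
    have Xf := XT.trans (l.trans lf)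
    have c := (comm_of_mem (Xf w'.mem)).symm
    exact hS.of_card_le pT TH ((card_le_card_of_le (le_inf lf hS.le)).trans (mx f X n ⟨hf, hf.mem_of_cen a3 Xf, Xf, w'.nm, fun k =>
      w'.nr (h.sw hd hf c (zc' Xf Xf w'.nm) (zc' a2 Xf w'.nm) (zc' a2 a2 w'.nm) (z hd hf c (BT.trans Td) (BT.trans (l.trans lf))) k)⟩
      (BT.trans (l.trans (le_inf lf hS.le)))).2)
  let M : Subgroup G :=
    { carrier := {g | g ∈ 𝐍(X) ∧ r d (g * d * g⁻¹)}
      one_mem' := ⟨one_mem _, by simpa using h.refl hd⟩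
      mul_mem' := fun {g k} hg hk => ⟨mul_mem hg.1 hk.1, h.trans _ _ _ hd (hd.cj g) (hd.cj _) (zc' a2 a2 hg.1)
        (zc a2 a2 hg.1 (mul_mem hg.1 hk.1)) (zc' a2 a2 (mul_mem hg.1 hk.1)) hg.2 (by
          simpa only [_root_.mul_inv_rev, mul_assoc] using h.cj g _ _ hd (hd.cj k) (zc' a2 a2 hk.1) hk.2)⟩
      inv_mem' := fun {g} hg => ⟨inv_mem hg.1, h.symm _ _ (hd.cj _) hd (zc' a2 a2 (inv_mem hg.1)).symm (by
        simpa [mul_assoc] using h.cj g⁻¹ _ _ hd (hd.cj g) (zc' a2 a2 hg.1) hg.2)⟩ }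
  have fx : ∀ g ∈ 𝐍(X), d * g = g * d → g ∈ M := fun g hg c => ⟨hg, by rw [← c, mul_inv_cancel_right]; exact h.refl hd⟩
  have dZ := hd.mem_omega (XT w'.mem) Td
  have dJ := omega_le_J 2 T dZ
  have dB := thompson_le_baumann 2 T dJ
  have nJ : 𝐍(X) ⊓ 𝐍(𝐉[2](T)) ≤ M := fun g hg => ⟨hg.1, z hd (hd.cj g) (zc' a2 a2 hg.1) (BT.trans Td)
    ((hd.cj g).le' (pT.to_le BT) (le_centralizer_comm.1 (inf_le_right : 𝐁[2](T) ≤ 𝐂(𝛀[2](𝐉[2](T))))
      (conj_mem_of_mem_normalizer (normalizer_le_normalizer_omegaOneCenter 2 _ hg.2)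
        (hd.mem_omega dJ ((thompson_le 2 T).trans Td)))))⟩
  obtain ⟨P, PH, um⟩ := exists_uMax (X := M) (fun g hg => fx g (TH hg) (comm_of_mem (Td hg))) TH fun k => w'.nr (k w'.nm).2
  have TP := um.le.trans inf_le_left
  have XO := le_pCoreOf (pT.to_le XT) (XT.trans TP) PH
  obtain ⟨L, LP, LM, ch, F, _, _, ρ, ψ, pw⟩ := pm_pw ⟨rfl, sy.mono TP PH, um, inf_le_right.trans ((centralizer_anti XO).trans
    (a3.trans XO)), le_inf inf_le_left fun g hg => fx g (PH hg.1) (mem_centralizer_iff'.1 hg.2 d dZ),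
    le_inf inf_le_left ((inf_le_inf_right _ PH).trans nJ)⟩
  have LH := LP.trans PH
  have OB := pw.syl.pCoreOf_le
  refine LM fun l hl => ⟨LH hl, h.good _ L d ⟨th, ch, ⟨F, _, ‹_›, _, ρ, ψ, pw⟩, fun c => LM ((le_inf LH ?_).trans nJ),
    ⟨d, hd, dB, BT.trans Td⟩, fun e Q S he m l n pS BS SQ => ?_⟩ hd dB (BT.trans Td) l hl⟩
  · rw [← PLocal.thompson_eq_of_le (thompson_le_baumann 2 T) BT, ← PLocal.thompson_eq_of_le c OB]
    exact (le_normalizer_pCoreOf 2 L).trans (norm_thompson 2 _)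
  obtain ⟨Y, -, b2, b3, b4, -⟩ := he.tilde th m l
  obtain ⟨S', hS, lS⟩ := exists_isSyl_ge pS (SQ.trans b4)
  obtain ⟨f, hf, lf⟩ := hd.exists_dd hS.isPGroup
  have Yf := (hS.le_of_le_normalizer ((Sy_pg e).to_le b2) le_normalizer hS.le).trans lf
  have fY := hf.mem_of_cen b3 Yf
  have Bf := BS.trans (lS.trans lf)
  have c := (comm_of_mem (Bf dB)).symm
  obtain ⟨k, hk, kM⟩ := SetLike.not_le_iff_exists.1 LM
  have kY := b4 (n hk)
  have lS' := lS.trans (le_inf lf hS.le)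
  have e1 := (mx f Y k ⟨hf, fY, Yf, kY, fun r1 => kM ⟨LH hk, h.sw hd hf c (comm_of_mem (Yf (conj_mem_of_mem_normalizer kY fY))) ?_
    (zc' a2 a2 (LH hk)) (z hd hf c (BT.trans Td) Bf) r1⟩⟩ (BS.trans lS')).1
  · exact (baumann_eq (e1.le.trans BS) lS').trans e1
  simpa [mul_assoc] using comm_cj k (comm_of_mem (Bf (OB (U_le_core 2 L (conj_mem_of_mem_normalizer' (norm_omega 2 L hk)
    (ch.omegaOneCenter_le pw.syl (hd.mem_omega dB (BT.trans Td)))))))).symm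

end Rl

end CF.Bm
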