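-- copy of `Bm.P1` avoiding a name clash (`Comp.syl_inf`) with `Sig.S4D`
import Cfsg.Agent.NCz.BmA3
import Cfsg.Agent.PLocal.PushL
import Cfsg.Agent.BG.B5

/-! Baumann's theorem: pushing up for one and for two rank one groups. -/

set_option autoImplicit false
set_option linter.unusedSectionVars false

namespace CF.Bm.Pu

open Cfsg Subgroup CF.Loc CF.FF
open CF.PLocal (maxAb thompson_le le_thompson)
open CF.BG (Quo qt qp qe qmk)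
open scoped commutatorElement MatrixGroups

universe u
variable {G : Type u} [Group G] [Finite G] {B K L M M' N P P' Q S U U' W X Y Z : Subgroup G} {g : G}

local notation "ZJ(" S ")" => centerThompsonOf 0 S
local notation "𝐓(" S ")" => S ⊓ 𝐂(centerThompsonOf 0 S)

theorem V_le (h : Pan 2 P S M) (l : U ≤ 𝐕[2](P)) (n : P ≤ 𝐍(U)) (c : ¬ U ≤ 𝐂(P)) : 𝐕[2](P) ≤ U ⊔ 𝐙[S] := by
  obtain ⟨F, _, _, ρ, ψ, m, -⟩ := h.nat
  exact ((m.sec.irred (le_normalizer_sup n m.sec.norm₀) le_sup_right (sup_le l inf_le_left)).resolve_left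
    fun e => c (le_sup_left.trans (e.le.trans inf_le_right))).ge.trans
    (sup_le_sup_left (inf_le_inf h.V_le (centralizer_anti h.syl.le)) _)

/-- pushing up for one group -/
theorem one (h : PU 2 P S M) (ch : IsCharP 2 P) (hN : S ≤ N) (hN' : N ≤ 𝐍(S))
    (nc : ∀ Y ≤ S, N ≤ 𝐍(Y) → P ≤ 𝐍(Y) → Y = ⊥) (l : U ≤ 𝐕[2](P)) (n : P ≤ 𝐍(U)) (c : ¬ U ≤ 𝐂(P)) :
    ∃ g ∈ N, ¬ cj[g] U ≤ 𝐎[2](P) := by
  obtain ⟨k, -, b⟩ := h.single ch hN' nc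
  obtain ⟨g, hg, e⟩ := k.exists_cj_V (b.resolve_right fun b => absurd b.three (by decide)) hN hN' nc
  refine ⟨g, hg, fun m => e ((cj_mono g (V_le k l n c)).trans ?_)⟩
  rw [cj_sup, cj_eq_self (le_norm_zc hN' hg)]
  exact sup_le m (k.zc_le.trans inf_le_left)

theorem res_le (h : PU 2 P S M) (n : P ≤ 𝐍(X)) (c : ¬ S ⊓ X ≤ 𝐎[2](P)) : 𝐑[2](P) ≤ X :=
  by_contra fun k => c (inf_le_core h.syl h.um n k)

theorem inf_sup (h : PU 2 P S M) (n : P ≤ 𝐍(X)) (c : ¬ S ⊓ X ≤ 𝐎[2](P)) : (S ⊓ X) ⊔ 𝐎[2](P) = S := by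
  have o := h.syl.pCoreOf_le
  rcases h.gen with e | e
  · refine le_antisymm (sup_le inf_le_left o) ((le_inf (e.trans (sup_le_sup_right (res_le h n c) _)) le_rfl).trans ?_)
    rw [sup_inf_of_le_normalizer_right ((pCoreOf_le 2 P).trans n) o, inf_comm]
  · exact eq_of_relIndex_prime e le_sup_right (sup_le inf_le_left o) fun k => c (le_sup_left.trans k)

theorem sub (h : PU 2 P S M) (ch : IsCharP 2 P) (e : B ⊔ 𝐎[2](P) = S) (s : IsSyl 2 B (ncl B P)) :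
    PU 2 (ncl B P) B (ncl B P ⊓ M) ∧ IsCharP 2 (ncl B P) ∧ 𝐎[2](ncl B P) = B ⊓ 𝐎[2](P) ∧ 𝐑[2](ncl B P) = 𝐑[2](P) := by
  have BS : B ≤ S := le_sup_left.trans e.le
  have n := le_normalizer_ncl B P
  have l : ncl B P ≤ P := ncl_le_of_le (BS.trans h.syl.le)
  have eO := pCoreOf_eq_inf_of_normal (p := 2) l n
  refine ⟨PU.sub (by rwa [inf_of_le_right h.um.lt.le]) e s, ch.of_normal l n,
    le_antisymm (le_inf s.pCoreOf_le (eO.le.trans inf_le_right)) ((inf_le_inf_right _ s.le).trans eO.ge),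
    pResidualOf_eq_of_le (res_le h n fun c => h.ne (e.ge.trans (sup_le ((le_inf BS s.le).trans c) le_rfl))) l⟩

/-- one side of the situation with two groups -/
structure Sx (S P M U : Subgroup G) : Prop where
  pu : PU 2 P S M
  ch : IsCharP 2 P
  l : U ≤ 𝐕[2](P)
  n : P ≤ 𝐍(U)
  c : ¬ U ≤ 𝐂(𝐑[2](P))
  z : ¬ 𝐙[S] ≤ 𝐂(P)

/-- the asymmetric configuration -/
structure AS (S P P' U Y Z : Subgroup G) : Prop where
  le : Y ≤ 𝐎[2](P)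
  nY : P ≤ 𝐍(Y)
  nZ : P ≤ 𝐍(Z)
  lU : U ≤ Y
  nR : 𝐑[2](P') ≤ 𝐍(Y ⊓ 𝐎[2](P'))
  lZ : Z ≤ Y ⊓ 𝐎[2](P')
  cZ : S ⊓ 𝐂(Z) ≤ Y
  ex : ∃ g ∈ P, ¬ cj[g] U ≤ 𝐎[2](P')

omit [Finite G] in
theorem ZJ_le (S : Subgroup G) : ZJ(S) ≤ 𝐙[𝐓(S)] :=
  le_inf (le_inf (PLocal.centerThompson_le 0 S) (inf_le_right.trans (centralizer_anti inf_le_left)))
    (le_centralizer_comm.1 inf_le_right)

omit [Finite G] in
theorem cent_le (h : 𝐙[𝐓(S)] ≤ Z) : S ⊓ 𝐂(Z) ≤ 𝐓(S) := inf_le_inf_left _ (centralizer_anti ((ZJ_le S).trans h))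

theorem norm_T (S : Subgroup G) : 𝐍(S) ≤ 𝐍(𝐓(S)) := le_normalizer_inf le_rfl (le_normalizer_centralizer (norm_ZJ S))

namespace Sx
variable (h : Sx S P M U)
include h

theorem nc' : ¬ U ≤ 𝐂(P) := fun c => h.c (c.trans (centralizer_anti (pResidualOf_le 2 P)))

theorem le_of (a : 𝐑[2](P) ≤ X) (b : S ≤ X) : P ≤ X := h.pu.syl.pResidualOf_sup.ge.trans (sup_le a b)

theorem zne : 𝐙[S] ≠ ⊥ := fun e => h.z (e.le.trans bot_le)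

theorem sub (a : ¬ P ≤ 𝐍(𝐓(S))) : Sx (𝐓(S)) (ncl (𝐓(S)) P) (ncl (𝐓(S)) P ⊓ M) U ∧
    𝐎[2](ncl (𝐓(S)) P) = 𝐓(S) ⊓ 𝐎[2](P) ∧ 𝐑[2](ncl (𝐓(S)) P) = 𝐑[2](P) ∧ U ≤ 𝐓(S) := by
  obtain ⟨A, hA, e, k⟩ := ((h.pu.cases h.ch).resolve_left h.z).resolve_left a
  have o := h.pu.syl.pCoreOf_le
  have e' : 𝐓(S) ⊔ 𝐎[2](P) = S := le_antisymm (sup_le inf_le_left o) (e.ge.trans (sup_le_sup_right (le_inf hA.1
    ((le_thompson hA).trans (le_centralizer_comm.1 inf_le_right))) _))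
  have s := h.pu.baumann h.ch h.z
  obtain ⟨p, c, eO, eR⟩ := Pu.sub h.pu h.ch e' s
  have u : U ≤ 𝐓(S) := h.l.trans (inf_le_inf o (centralizer_anti (k.norm_ZJ_sup hA e).1))
  refine ⟨⟨p, c, ?_, (ncl_le_of_le (inf_le_left.trans h.pu.syl.le)).trans h.n, eR ▸ h.c, fun z => h.z ?_⟩, eO, eR, u⟩
  · rw [eO]
    exact le_inf (le_inf u (h.l.trans inf_le_left)) (h.l.trans (inf_le_right.trans (centralizer_anti inf_le_right)))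
  · refine le_centralizer_comm.1 (h.le_of (eR.ge.trans ((pResidualOf_le 2 _).trans (le_centralizer_comm.1
      (((zc_le_ZJ S).trans (ZJ_le S)).trans z)))) (le_centralizer_comm.1 inf_le_right))

variable (h' : Sx S P' M' U') (nc : ∀ Y ≤ S, P ≤ 𝐍(Y) → P' ≤ 𝐍(Y) → Y = ⊥)
include h' nc

theorem two_a (a : P ≤ 𝐍(𝐓(S))) : AS S P P' U' (𝐓(S)) 𝐙[𝐓(S)] := by
  have pS := h.pu.syl.isPGroup
  have a' : ¬ P' ≤ 𝐍(𝐓(S)) := fun a' => h.zne (le_bot_iff.1 ((((zc_le_ZJ S).trans (ZJ_le S)).trans inf_le_left).trans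
    (nc _ inf_le_left a a').le))
  obtain ⟨k, eO, eR, u⟩ := h'.sub a'
  obtain ⟨g, hg, e⟩ := one k.pu k.ch (inf_le_left.trans h.pu.syl.le) a (fun Y l n n' => nc Y (l.trans inf_le_left) n
    (h'.le_of (eR.ge.trans ((pResidualOf_le 2 _).trans n')) (h.pu.syl.le.trans n))) k.l k.n k.nc'
  refine ⟨le_pCoreOf (pS.to_le inf_le_left) (inf_le_left.trans h.pu.syl.le) a, a, le_norm_zc a, u, ?_, ?_, cent_le le_rfl,
    g, hg, fun c => e (eO ▸ le_inf ((cj_mono g u).trans (cj_eq_self (a hg)).le) c)⟩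
  · rw [← eO, ← eR]; exact (pResidualOf_le 2 _).trans (le_normalizer_pCoreOf 2 _)
  · rw [← eO]; exact (inf_le_inf_right _ k.pu.syl.le).trans (k.ch.centralizer_syl_le k.pu.syl)

omit nc in
theorem two_b (a : ¬ P ≤ 𝐍(𝐓(S))) (a' : ¬ P' ≤ 𝐍(𝐓(S))) (r : Red 2 (𝐓(S))) (j : thompsonSubgroupOf 0 (𝐓(S)) = 𝐓(S))
    (c : 𝐕[2](ncl (𝐓(S)) P') ≤ 𝐎[2](ncl (𝐓(S)) P))
    (ar : ¬ ncl (𝐓(S)) P ≤ 𝐍(𝐕[2](ncl (𝐓(S)) P') ⊔ 𝐕[2](ncl (𝐓(S)) P)))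
    (n : ncl (𝐓(S)) P' ≤ 𝐍(𝐕[2](ncl (𝐓(S)) P') ⊔ 𝐕[2](ncl (𝐓(S)) P))) :
    AS S P P' U' 𝐎[2](ncl (𝐓(S)) P) 𝐕[2](ncl (𝐓(S)) P) := by
  obtain ⟨k, eO, eR, u⟩ := h.sub a
  obtain ⟨k', eO', eR', u'⟩ := h'.sub a'
  have p := k.pu.pan_of_red k.ch k.z j
  have p' := k'.pu.pan_of_red k'.ch k'.z j
  have c' := p.V_le_core (h' := p') c
  have nO := (le_normalizer_ncl (𝐓(S)) P).trans (normalizer_le_normalizer_pCoreOf 2 _)
  have eI : 𝐎[2](ncl (𝐓(S)) P) ⊓ 𝐎[2](P') = 𝐎[2](ncl (𝐓(S)) P') ⊓ 𝐎[2](ncl (𝐓(S)) P) := by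
    rw [eO', inf_right_comm, inf_of_le_right p.syl.pCoreOf_le]
  obtain ⟨g, hg, e⟩ := p.exists_cj_not_le r p' c ar
  refine ⟨eO.le.trans inf_le_right, nO, le_norm_zc nO, k'.l.trans c, ?_, le_inf inf_le_left (c'.trans (eO'.le.trans
    inf_le_right)), (le_inf (cent_le p.zc_le) inf_le_right).trans p.cent_V.le, g,
    ncl_le_of_le (inf_le_left.trans h.pu.syl.le) hg, fun m => e ((cj_mono g (V_le p' k'.l k'.n k'.nc')).trans ?_)⟩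
  · rw [eI, ← eR', show 𝐎[2](ncl (𝐓(S)) P') ⊓ 𝐎[2](ncl (𝐓(S)) P) = 𝐎[2](ncl (𝐓(S)) P') ⊓
      𝐂(𝐕[2](ncl (𝐓(S)) P') ⊔ 𝐕[2](ncl (𝐓(S)) P)) from le_antisymm (le_inf inf_le_left ((p.cent_U r p' c).ge.trans
        inf_le_right)) ((inf_le_inf_right _ p'.syl.pCoreOf_le).trans (p.cent_U r p' c).le)]
    exact (pResidualOf_le 2 _).trans (le_normalizer_inf (le_normalizer_pCoreOf 2 _) (le_normalizer_centralizer n))
  · rw [cj_sup]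
    refine sup_le (eO'.ge.trans' (le_inf ?_ m)) (((cj_mono g p.zc_le).trans (cj_eq_self (norm_V 2 _ hg)).le).trans c')
    exact ((cj_mono g (k'.l.trans c)).trans (cj_eq_self (le_normalizer_pCoreOf 2 _ hg)).le).trans p.syl.pCoreOf_le

/-- pushing up for two groups -/
theorem two (u : U' ≤ 𝐎[2](P)) : ∃ Y Z, AS S P P' U' Y Z ∨ AS S P' P U Y Z := by
  have pS := h.pu.syl.isPGroup
  have nc' : ∀ Y ≤ S, P' ≤ 𝐍(Y) → P ≤ 𝐍(Y) → Y = ⊥ := fun Y a b c => nc Y a c b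
  by_cases a : P ≤ 𝐍(𝐓(S))
  · exact ⟨_, _, Or.inl (h.two_a h' nc a)⟩
  by_cases a' : P' ≤ 𝐍(𝐓(S))
  · exact ⟨_, _, Or.inr (h'.two_a h nc' a')⟩
  obtain ⟨Q, hQ⟩ := exists_mclo 2 S
  have ea : IsElementaryAbelian 2 Q := (CF.Solv.map_frattini_eq_bot_iff (pS.to_le hQ.1.1.1)).1 (le_bot_iff.1
    ((le_iSup (fun Q : {Q // MCLo 2 S Q} => 𝚽(Q.1)) ⟨Q, hQ⟩).trans (nc (sPhi 2 S)
      (iSup_le fun Q => (map_subtype_le _).trans Q.2.1.1.1) (h.pu.norm_sPhi h.ch h.z) (h'.pu.norm_sPhi h'.ch h'.z)).le))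
  have ab := isElemAb_le_centralizer ea
  have jT : thompsonSubgroupOf 0 S ≤ 𝐓(S) := le_inf (thompson_le 0 S) (le_centralizer_comm.1 inf_le_right)
  have QT := (le_thompson ((hQ.1.iff_max ab).1 hQ.1)).trans jT
  have m := hQ.1.of_le QT inf_le_left
  obtain ⟨r, j⟩ := red_of (p := 2) (by
      rw [PLocal.centerThompson_eq_of_le jT inf_le_left]; exact le_centralizer_comm.1 inf_le_right)
    (isElemAb_of_le ea m.1.cd.zc_le) m ab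
  obtain ⟨k, eO, eR, v⟩ := h.sub a
  obtain ⟨k', eO', eR', v'⟩ := h'.sub a'
  have p := k.pu.pan_of_red k.ch k.z j
  have p' := k'.pu.pan_of_red k'.ch k'.z j
  have c : 𝐕[2](ncl (𝐓(S)) P') ≤ 𝐎[2](ncl (𝐓(S)) P) := (V_le p' k'.l k'.n k'.nc').trans
    (sup_le (eO ▸ le_inf v' u) (p.zc_le.trans inf_le_left))
  have c' := p.V_le_core (h' := p') c
  by_cases n : ncl (𝐓(S)) P ≤ 𝐍(𝐕[2](ncl (𝐓(S)) P') ⊔ 𝐕[2](ncl (𝐓(S)) P)) <;>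
    by_cases n' : ncl (𝐓(S)) P' ≤ 𝐍(𝐕[2](ncl (𝐓(S)) P') ⊔ 𝐕[2](ncl (𝐓(S)) P))
  · have s : S ≤ 𝐍(𝐕[2](ncl (𝐓(S)) P') ⊔ 𝐕[2](ncl (𝐓(S)) P)) := le_normalizer_sup
      (le_norm_zc (h'.pu.syl.le.trans ((le_normalizer_ncl _ _).trans (normalizer_le_normalizer_pCoreOf 2 _))))
      (le_norm_zc (h.pu.syl.le.trans ((le_normalizer_ncl _ _).trans (normalizer_le_normalizer_pCoreOf 2 _))))
    exact absurd (le_bot_iff.1 ((p.zc_le.trans le_sup_right).trans (nc _ ((sup_le p'.V_le p.V_le).trans inf_le_left)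
      (h.le_of (eR.ge.trans ((pResidualOf_le 2 _).trans n)) s)
      (h'.le_of (eR'.ge.trans ((pResidualOf_le 2 _).trans n')) s)).le)) k.zne
  · exact ⟨_, _, Or.inr (h'.two_b h a' a r j c' (by rwa [sup_comm]) (by rwa [sup_comm]))⟩
  · exact ⟨_, _, Or.inl (h.two_b h' a a' r j c n n')⟩
  · exact absurd rfl (Two.ne_two ⟨p, p', r, c, n, n'⟩ p'.exists_not_mem.choose_spec.1 p'.exists_not_mem.choose_spec.2)

end Sx

/-! ### passing to a quotient -/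

omit [Finite G] in
theorem qt_map (X : Subgroup 𝐍(Q)) : qt Q (X.map 𝐍(Q).subtype) = X.map (qmk Q) := by
  rw [qt, subgroupOf, comap_map_eq_self_of_injective (subtype_injective _)]

theorem qt_res (n : L ≤ 𝐍(Q)) : qt Q 𝐑[2](L) = 𝐑[2](qt Q L) := by
  obtain ⟨L, rfl⟩ := exists_map_eq n
  rw [← pResidualOf_map_subtype, qt_map, qt_map, map_pResidualOf]

omit [Finite G] in
theorem qt_core (pQ : IsPGroup 2 Q) (n : L ≤ 𝐍(Q)) : qt Q 𝐎[2](L) = 𝐎[2](qt Q L) := by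
  obtain ⟨L, rfl⟩ := exists_map_eq n
  rw [← pCoreOf_map_subtype, qt_map, qt_map, map_pCoreOf_of_ker (BG.qmk_ker Q ▸ isPGroup_subgroupOf pQ)]

theorem qt_syl (h : IsSyl 2 S L) (n : L ≤ 𝐍(Q)) : IsSyl 2 (qt Q S) (qt Q L) := by
  obtain ⟨S, rfl⟩ := exists_map_eq (h.le.trans n)
  obtain ⟨L, rfl⟩ := exists_map_eq n
  have i := subtype_injective 𝐍(Q)
  rw [qt_map, qt_map]
  exact IsSyl.map _ ⟨(map_le_map_iff_of_injective i).1 h.le, isPGroup_map_subtype_iff.1 h.isPGroup, fun X a b c =>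
    map_injective i (h.eq_of_le (a.map _) (map_mono b) (map_mono c))⟩

omit [Finite G] in
theorem qt_umax (h : UMax S M L) (n : L ≤ 𝐍(Q)) (l : Q ≤ S) : UMax (qt Q S) (qt Q M) (qt Q L) := by
  obtain ⟨S, rfl⟩ := exists_map_eq ((h.le.trans h.lt.le).trans n)
  obtain ⟨M, rfl⟩ := exists_map_eq (h.lt.le.trans n)
  obtain ⟨L, rfl⟩ := exists_map_eq n
  rw [qt_map, qt_map, qt_map]
  refine (uMax_map_subtype_iff.1 h).map _ fun x hx => ?_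
  have := (l.trans h.le) (mem_subgroupOf.1 (BG.qmk_ker Q ▸ hx.2))
  exact (mem_map_iff_mem (subtype_injective _)).1 this

section
variable (l : Q ≤ S) (n : P ≤ 𝐍(Q))
include l n

theorem qt_pu (h : PU 2 P S M) : PU 2 (qt Q P) (qt Q S) (qt Q M) := by
  have pQ := h.syl.isPGroup.to_le l
  have o : Q ≤ 𝐎[2](P) := le_pCoreOf pQ (l.trans h.syl.le) n
  have nS := h.syl.le.trans n
  refine ⟨qt_syl h.syl n, qt_umax h.um n l, ?_, ?_, ?_⟩ <;> rw [← qt_core pQ n]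
  · exact mt (BG.qt_le_qt_iff' nS o).1 h.ne
  · rw [← BG.qt_comm nS nS]; exact BG.qt_mono _ h.ab
  · rw [← qt_res n, ← BG.qt_sup ((pResidualOf_le 2 P).trans n) ((pCoreOf_le 2 P).trans n), BG.relIndex_qt o nS]
    exact h.gen.imp_left (BG.qt_mono _)

theorem qt_ch (s : IsSyl 2 S P) (h : IsCharP 2 P) (c : 𝐑[2](P) ≤ 𝐂(Q)) : IsCharP 2 (qt Q P) := by
  have pQ := s.isPGroup.to_le l
  have nO := (pCoreOf_le 2 P).trans n
  have e : ∀ X ≤ P, X ≤ qp Q 𝐂(qt Q 𝐎[2](P)) ↔ ⁅X, 𝐎[2](P)⁆ ≤ Q := fun X a => by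
    rw [← BG.qt_le_iff (a.trans n), BG.qt_cent_iff (a.trans n) nO]
  have r := pResidualOf_le 2 (P ⊓ qp Q 𝐂(qt Q 𝐎[2](P)))
  have k : IsPGroup 2 ↥(P ⊓ qp Q 𝐂(qt Q 𝐎[2](P))) := isPGroup_of_pResidualOf_le
    (h.isPGroup_of_quadratic (r.trans inf_le_left) (commutator_eq_bot_iff_le_centralizer.2 (by
      rw [commutator_comm]
      exact ((e _ (r.trans inf_le_left)).1 (r.trans inf_le_right)).trans
        (le_centralizer_comm.1 ((pResidualOf_mono inf_le_left).trans c))))) le_rfl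
  rw [IsCharP, ← qt_core pQ n, ← BG.qt_inf_qp]
  exact BG.qt_mono _ (le_pCoreOf k inf_le_left (le_normalizer_inf le_normalizer (BG.norm_qp n
    (le_normalizer_centralizer (BG.qt_norm _ (le_normalizer_pCoreOf 2 P))))))

/-- the data for passing to the quotient -/
theorem qt_sx (h : PU 2 P S M) (ch : IsCharP 2 P) (c : 𝐑[2](P) ≤ 𝐂(Q)) (u : U ≤ 𝐕[2](P)) (m : P ≤ 𝐍(U))
    (e : ¬ U ⊓ 𝐂(S) ≤ 𝐂(P)) : Sx (qt Q S) (qt Q P) (qt Q M) (qt Q U) := by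
  have pQ := h.syl.isPGroup.to_le l
  have US : U ≤ S := u.trans (inf_le_left.trans h.syl.pCoreOf_le)
  have r := pResidualOf_le 2 P
  have k : ¬ qt Q (U ⊓ 𝐂(S)) ≤ 𝐂(qt Q 𝐑[2](P)) := fun k => not_res_le h.syl (W := U ⊓ 𝐂(S)) (by rwa [inf_assoc, inf_idem]) (by
    have k1 := (BG.qt_cent_iff ((inf_le_left.trans US).trans (h.syl.le.trans n)) (r.trans n)).1 k
    have := commutator_pResidualOf_eq_bot (p := 2) (pQ.to_le k1) (commutator_eq_bot_iff_le_centralizer.2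
      (k1.trans (le_centralizer_comm.1 c)))
    rw [pResidualOf_pResidualOf] at this
    exact le_centralizer_comm.1 (commutator_eq_bot_iff_le_centralizer.1 this))
  refine ⟨qt_pu l n h, qt_ch l n h.syl ch c, ?_, BG.qt_norm _ m, fun z => k ?_, fun z => k ?_⟩
  · rw [← qt_core pQ n]
    exact le_inf (BG.qt_mono _ (u.trans inf_le_left)) (BG.qt_cent _ (u.trans inf_le_right))
  · rw [qt_res n]; exact (BG.qt_mono _ inf_le_left).trans z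
  · exact (le_inf (BG.qt_mono _ (inf_le_left.trans US)) (BG.qt_cent _ inf_le_right)).trans
      (z.trans (centralizer_anti (BG.qt_mono _ r)))

omit [Finite G] in
theorem qt_nc (s : S ≤ P) (n' : N ≤ 𝐍(Q)) (nc : ∀ Y ≤ S, N ≤ 𝐍(Y) → P ≤ 𝐍(Y) → Y ≤ Q) :
    ∀ Y ≤ qt Q S, qt Q N ≤ 𝐍(Y) → qt Q P ≤ 𝐍(Y) → Y = ⊥ := fun Y a b c => BG.qp_eq_self.1 (le_antisymm
  (nc _ (BG.qp_le_of_le_qt ⟨l, s.trans n⟩ a) (BG.norm_qp n' b) (BG.norm_qp n c)) (BG.le_qp Y))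

omit [Finite G] l in
theorem qt_ex (pQ : IsPGroup 2 Q) (n' : N ≤ 𝐍(Q)) (h : ∃ g ∈ qt Q N, ¬ cj[g] (qt Q U) ≤ 𝐎[2](qt Q P)) :
    ∃ g ∈ N, ¬ cj[g] U ≤ 𝐎[2](P) := by
  obtain ⟨_, k, e⟩ := h
  obtain ⟨g, hg, -, rfl⟩ := BG.mem_qt.1 k
  refine ⟨g, hg, fun c => e ?_⟩
  rw [← qt_core pQ n]
  exact (BG.qt_cj (n' hg) U).ge.trans (BG.qt_mono _ c)

/-- pushing up for one group modulo `Q` -/
theorem one' (h : PU 2 P S M) (ch : IsCharP 2 P) (c : 𝐑[2](P) ≤ 𝐂(Q)) (u : U ≤ 𝐕[2](P)) (m : P ≤ 𝐍(U))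
    (e : ¬ U ⊓ 𝐂(S) ≤ 𝐂(P)) (n' : N ≤ 𝐍(Q)) (hN : S ≤ N) (hN' : N ≤ 𝐍(S))
    (nc : ∀ Y ≤ S, N ≤ 𝐍(Y) → P ≤ 𝐍(Y) → Y ≤ Q) : ∃ g ∈ N, ¬ cj[g] U ≤ 𝐎[2](P) :=
  have k := qt_sx l n h ch c u m e
  qt_ex n (h.syl.isPGroup.to_le l) n' (one k.pu k.ch (BG.qt_mono _ hN) (BG.qt_norm _ hN') (qt_nc l n h.syl.le n' nc) k.l k.n k.nc')

theorem AS.lift {Y Z : Subgroup (Quo Q)} (s : IsSyl 2 S P) (s' : IsSyl 2 S P') (n' : P' ≤ 𝐍(Q)) (u : U ≤ S)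
    (h : AS (qt Q S) (qt Q P) (qt Q P') (qt Q U) Y Z) : AS S P P' U (qp Q Y) (qp Q Z) := by
  have pQ := s.isPGroup.to_le l
  have e : ∀ P, IsSyl 2 S P → P ≤ 𝐍(Q) → qp Q 𝐎[2](qt Q P) = 𝐎[2](P) := fun P s n => by
    rw [← qt_core pQ n, BG.qp_qt_of_normal ⟨le_pCoreOf pQ (l.trans s.le) n, (pCoreOf_le 2 P).trans n⟩]
  have r := (pResidualOf_le 2 P').trans n'
  refine ⟨e P s n ▸ BG.qp_mono h.le, BG.norm_qp n h.nY, BG.norm_qp n h.nZ, (BG.qt_le_iff (u.trans (s.le.trans n))).1 h.lU,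
    ?_, ?_, (BG.qt_le_iff (inf_le_left.trans (s.le.trans n))).1 (le_trans (le_inf (BG.qt_mono _ inf_le_left) ?_) h.cZ),
    qt_ex n' pQ n h.ex⟩
  · rw [← e P' s' n', ← BG.qp_inf]; exact BG.norm_qp r (qt_res n' ▸ h.nR)
  · rw [← e P' s' n', ← BG.qp_inf]; exact BG.qp_mono h.lZ
  · have := BG.qt_cent Q (inf_le_right : S ⊓ 𝐂(qp Q Z) ≤ _)
    rwa [BG.qt_qp] at this

end

end CF.Bm.Pu
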