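-- copy of `Bm.P2` avoiding a name clash (`Comp.syl_inf`) with `Sig.S4D`
import Cfsg.Agent.NCz.BmP1
import Cfsg.Agent.NCz.BmB1

/-! Baumann's theorem: partners and families of rank one groups. -/

set_option autoImplicit false
set_option linter.unusedSectionVars false

namespace CF.Bm

open Cfsg Subgroup CF.Loc CF.FF CF.Bm.Pu
open CF.PLocal (maxAb thompson_le le_thompson)
open CF.BG (Quo qt qp)
open scoped commutatorElement MatrixGroups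

universe u
variable {G : Type u} [Group G] [Finite G] {B H L L' Q X Y Z : Subgroup G} {d g : G}

namespace Pu

omit [Finite G] in
/-- the largest subgroup of `B` normalized by `H` and `L` -/
theorem exists_Q (B H L : Subgroup G) : ∃ Q ≤ B, H ≤ 𝐍(Q) ∧ L ≤ 𝐍(Q) ∧ ∀ Y ≤ B, H ≤ 𝐍(Y) → L ≤ 𝐍(Y) → Y ≤ Q :=
  ⟨⨆ Y : {Y // Y ≤ B ∧ H ≤ 𝐍(Y) ∧ L ≤ 𝐍(Y)}, Y.1, iSup_le fun Y => Y.2.1, le_normalizer_iSup fun Y => Y.2.2.1,
    le_normalizer_iSup fun Y => Y.2.2.2, fun Y a b c => le_iSup (fun Y : {Y // Y ≤ B ∧ H ≤ 𝐍(Y) ∧ L ≤ 𝐍(Y)} => Y.1) ⟨Y, a, b, c⟩⟩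

variable (h : Lb B L)
include h

theorem Um_V : Um L ≤ 𝐕[2](L) := le_inf h.Um_le_core (le_centralizer_comm.1 h.core_cent)

theorem Um_nc : ¬ Um L ⊓ 𝐂(B) ≤ 𝐂(L) := let ⟨_, _, _, _, _, _, _, n, _⟩ := h.data; n.not_le_cent

theorem norm_inf (n : L ≤ 𝐍(Q)) (c : B ⊓ 𝐂(Q) ≤ 𝐎[2](L)) : L ≤ 𝐍(B ⊓ 𝐂(Q)) := by
  rw [le_antisymm (le_inf c inf_le_right) (inf_le_inf_right _ h.core_le)]
  exact le_normalizer_inf (le_normalizer_pCoreOf 2 L) (le_normalizer_centralizer n)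

theorem res_cent (n : L ≤ 𝐍(Q)) (c : ¬ B ⊓ 𝐂(Q) ≤ 𝐎[2](L)) : 𝐑[2](L) ≤ 𝐂(Q) :=
  h.res_le (le_normalizer_centralizer n) inf_le_left c inf_le_right

theorem cj_lb (hg : g ∈ 𝐍(B)) : Lb B (cj[g] L) := by simpa only [cj_eq_self hg] using h.cj g

theorem inf_cent_Um (l : Y ≤ B) : Y ⊓ 𝐂(Um L) = Y ⊓ 𝐎[2](L) := by rw [← h.cent_Um, ← inf_assoc, inf_of_le_left l]

end Pu

theorem Lb.partner (h : Lb B L) : (∃ f, Dd f ∧ B = 𝐁[2](Sy f)) ∨ ∃ L', SP B L L' := by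
  obtain ⟨d, hd, m, l⟩ := h.dd
  obtain ⟨Q, QB, n, n', mx⟩ := exists_Q B 𝐍(B) L
  by_cases c : d ∈ Q
  · have e := h.st d Q (Sy d ⊓ 𝐍(B)) hd c (QB.trans l) n' ((Sy_pg d).to_le inf_le_left) (le_inf l le_normalizer)
      (inf_le_right.trans n)
    refine Or.inl ⟨d, hd, ?_⟩
    rw [← e]
    congr 1
    by_contra k
    refine (lt_inf_normalizer (Sy_pg d) (lt_of_le_of_ne inf_le_left k)).not_ge (inf_le_inf_left _ ?_)
    simpa only [e] using norm_baumann 2 (Sy d ⊓ 𝐍(B))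
  obtain ⟨F, _, _, M, ρ, ψ, -, -, -, -, p⟩ := h.data
  have k : ¬ B ⊓ 𝐂(Q) ≤ 𝐎[2](L) := fun k => c (mx _ inf_le_left (le_normalizer_inf le_rfl (le_normalizer_centralizer n))
    (norm_inf h n' k) ⟨m, mem_cent (QB.trans l)⟩)
  obtain ⟨g, hg, e⟩ := one' QB n' p h.ch (res_cent h n' k) (Um_V h) h.norm_Um (Um_nc h) n le_normalizer le_rfl mx
  refine Or.inr ⟨_, h, cj_lb h hg, fun c => e (le_trans (le_inf ?_ (cj_Um g L ▸ c)) h.cent_Um.le)⟩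
  exact (cj_mono g h.Um_le_B).trans (cj_eq_self hg).le

namespace Pu
variable (hd : Dd d) (h : Lb 𝐁[2](Sy d) L) (h' : Lb 𝐁[2](Sy d) L') (ns : ∀ L L', ¬ SP 𝐁[2](Sy d) L L')
include hd h h' ns

/-- the asymmetric configuration does not occur -/
theorem kill (a : AS 𝐁[2](Sy d) L L' (Um L') Y Z) : False := by
  obtain ⟨g, hg, e⟩ := a.ex
  have BS := baumann_le 2 (Sy d)
  have YB := a.le.trans h.core_le
  have ZY := a.lZ.trans inf_le_left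
  have cY : ∀ x ∈ L, cj[x] Y = Y := fun x hx => cj_eq_self (a.nY hx)
  have aY : ∀ x ∈ L, cj[x] (Um L') ≤ Y := fun x hx => (cj_mono x a.lU).trans (cY x hx).le
  have zC : ∀ x ∈ L, Z ≤ 𝐂(cj[x] (Um L')) := fun x hx => by
    rw [← cj_centralizer, ← cj_eq_self (a.nZ hx)]
    exact cj_mono x (a.lZ.trans (inf_le_right.trans h'.core_cent))
  have c : ¬ cj[g] (Um L') ≤ 𝐂(Um L') := fun c => e ((le_inf ((aY g hg).trans YB) c).trans h'.cent_Um.le)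
  have n : 𝐑[2](L') ≤ 𝐍(Y ⊓ 𝐂(Um L')) := inf_cent_Um h' YB ▸ a.nR
  have YB' : Y ≤ cj[g] 𝐁[2](Sy d) := (cY g hg).ge.trans (cj_mono g YB)
  obtain ⟨P₁, -, b₁, -, y₁, -⟩ := h'.pre (h'.cj g) YB YB' a.lU (cj_Um g L' ▸ aY g hg) (cj_Um g L' ▸ c) n
  obtain ⟨P₂, -, b₂, x₂, -, -⟩ := (h'.cj g).pre h' YB' YB (cj_Um g L' ▸ aY g hg) a.lU
    (cj_Um g L' ▸ mt le_centralizer_comm.1 c) (by
      rw [← cj_Um, ← cj_pResidualOf, ← cj_centralizer, ← cY g hg, ← cj_inf, ← cj_normalizer]; exact cj_mono g n)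
  rw [← cj_Um] at b₁ y₁ b₂ x₂
  have key : 𝐁[2](Sy d) ≤ 𝐍(cj[g] (Um L')) := fun b hb => by
    have bL := h.le hb
    have bU := cj_eq_self (h'.norm_Um (h'.le hb))
    have l'' : cj[b] (cj[g] (Um L')) ≤ Y := (cj_mono b (aY g hg)).trans (cY b bL).le
    have c'' : ¬ cj[b] (cj[g] (Um L')) ≤ 𝐂(Um L') := by rwa [← bU, ← cj_centralizer, cj_le_cj_iff, bU]
    have k := (b₁.inv' (isElemAb_cj b b₁.ea') (l''.trans y₁)).resolve_left c''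
    have b₃ := b₂.cj b
    have x₃ : Y ⊓ 𝐂(cj[b] (cj[g] (Um L'))) ≤ cj[b] (cj[g] (Um L')) ⊔ 𝐂(cj[b] P₂) := by
      simpa only [cj_inf, cj_sup, cj_centralizer, cY b bL] using cj_mono b x₂
    set X := Y ⊓ 𝐂(cj[g] (Um L')) ⊓ 𝐂(cj[b] (cj[g] (Um L'))) with hX
    have XY : X ≤ Y := inf_le_left.trans inf_le_left
    have ZX : Z ≤ X := le_inf (le_inf ZY (zC g hg)) (by rw [← cj_mul]; exact zC _ (mul_mem bL hg))
    have oc := omegaOneCenter_le_centralizer 2 𝐁[2](Sy d)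
    have OX : 𝛀[2](𝐁[2](Sy d)) ≤ X := le_inf (le_inf ((le_inf (omegaOneCenter_le _ _) (oc.trans (centralizer_anti
      (ZY.trans YB)))).trans a.cZ) (oc.trans (centralizer_anti ((aY g hg).trans YB)))) (oc.trans (centralizer_anti (l''.trans YB)))
    have AX : cj[g] (Um L') ≤ X := le_inf (le_inf (aY g hg) b₂.ab) (le_centralizer_comm.1 k)
    have AX' : cj[b] (cj[g] (Um L')) ≤ X := le_inf (le_inf l'' k) b₃.ab
    have cB : Sy d ⊓ 𝐂(X) ≤ 𝐁[2](Sy d) := inf_le_inf_left _ (centralizer_anti (H := 𝛀[2](𝐉[2](Sy d))) (by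
      rwa [← PLocal.thompson_eq_of_le (thompson_le_baumann 2 _) BS, h.omegaJ]))
    have cX := hd.cen h.th (OX (h.mem hd BS)) (XY.trans (YB.trans BS)) (le_inf (le_inf ((le_inf cB (inf_le_right.trans
      (centralizer_anti ZX))).trans a.cZ) (inf_le_right.trans (centralizer_anti AX))) (inf_le_right.trans (centralizer_anti AX')))
    obtain ⟨T, hT⟩ := exists_isSyl 2 𝐍(X)
    obtain ⟨e, he, l⟩ := hd.exists_dd hT.isPGroup
    have x : X ≤ cj[g] (Um L') ⊔ 𝐂(P₂) := inf_le_left.trans x₂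
    have x' : X ≤ cj[b] (cj[g] (Um L')) ⊔ 𝐂(cj[b] P₂) := (inf_le_inf_right _ inf_le_left).trans x₃
    rcases f2h he (h.pg.to_le (XY.trans YB)) cX le_normalizer le_rfl hT l b₂ b₃ (b₂.norm_of_le AX x).2 (b₃.norm_of_le AX' x').2
      x x' with k | k
    · exact cj_eq_self_iff.1 k.1.symm
    · exact absurd (k.2.trans (centralizer_anti b₂.le')) c''
  obtain ⟨F, _, _, M, ρ, ψ, -, -, -, MB, p⟩ := h.data
  by_cases m : g ∈ M
  · exact ns _ _ ⟨h', cj_lb h' (MB m), cj_Um g L' ▸ c⟩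
  have k : L ≤ 𝐍(cj[g] (Um L')) := (p.um.sup_cj (p.um.ncl_eq p.syl p.not_norm) hg m).ge.trans (sup_le key (by
    rw [← cj_normalizer]; exact cj_mono g (h'.le.trans h'.norm_Um)))
  exact c ((cj_eq_self (norm_of_cj hg k hg)).le.trans (isElemAb_le_centralizer h'.ea_Um))

theorem kill₁ (QB : Q ≤ 𝐁[2](Sy d)) (n : L ≤ 𝐍(Q)) (n' : L' ≤ 𝐍(Q))
    (mx : ∀ Y ≤ 𝐁[2](Sy d), L ≤ 𝐍(Y) → L' ≤ 𝐍(Y) → Y ≤ Q) (c : 𝐁[2](Sy d) ⊓ 𝐂(Q) ≤ 𝐎[2](L))
    (c' : ¬ 𝐁[2](Sy d) ⊓ 𝐂(Q) ≤ 𝐎[2](L')) : False := by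
  generalize hB : 𝐁[2](Sy d) = B at QB mx c c'
  have k : Lb B L := hB ▸ h
  have k' : Lb B L' := hB ▸ h'
  obtain ⟨F, _, _, M, ρ, ψ, -, -, -, -, p⟩ := k'.data
  have pQ := k.pg.to_le QB
  have o := le_pCoreOf pQ (QB.trans k.le) n
  have o' := le_pCoreOf pQ (QB.trans k'.le) n'
  have r := res_cent k' n' c'
  have nC := le_normalizer_centralizer n'
  have cQ : 𝐂(Q) ≤ 𝐍(Q) := centralizer_le_normalizer _
  have YB : Q ⊔ (B ⊓ 𝐂(Q)) ≤ B := sup_le QB inf_le_left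
  have u : Um L' ≤ Q ⊔ (B ⊓ 𝐂(Q)) := le_sup_of_le_right (le_inf k'.Um_le_B (k'.Um_le_res.trans r))
  have nY := le_normalizer_sup n (norm_inf k n c)
  have e : (Q ⊔ (B ⊓ 𝐂(Q))) ⊔ 𝐎[2](L') = B :=
    le_antisymm (sup_le YB k'.core_le) ((inf_sup p nC c').ge.trans (sup_le_sup_right le_sup_right _))
  have nN := le_normalizer_sup n' (le_normalizer_inf le_normalizer nC)
  have s := k'.syl.inf_of_le_normalizer (sup_le (QB.trans k'.le) inf_le_left) nN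
  rw [inf_comm, sup_inf_of_le_normalizer_left (inf_le_right.trans cQ) QB, inf_right_comm, inf_of_le_right k'.le] at s
  obtain ⟨p₁, ch, eO, eR⟩ := sub p k'.ch e (s.mono (le_ncl _ _) (ncl_le s.le nN))
  have l₁ : ncl (Q ⊔ (B ⊓ 𝐂(Q))) L' ≤ L' := ncl_le_of_le (YB.trans k'.le)
  have rl := eR.ge.trans (pResidualOf_le 2 _)
  obtain ⟨g, hg, m⟩ := one' le_sup_left (l₁.trans n') p₁ ch (eR ▸ r) (U := Um L')
    (by rw [eO]; exact le_inf (le_inf u k'.Um_le_core) ((Um_V k').trans (inf_le_right.trans (centralizer_anti inf_le_right))))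
    (l₁.trans k'.norm_Um) (fun z => Um_nc k' (le_centralizer_comm.1 (k'.sup.ge.trans (sup_le (rl.trans (le_centralizer_comm.1
      ((inf_le_inf_left _ (centralizer_anti YB)).trans z))) (le_centralizer_comm.1 inf_le_right))))) n (YB.trans k.le) nY
    fun W a b c => mx W (a.trans YB) b (k'.sup.ge.trans (sup_le (rl.trans c) (k.le.trans b)))
  subst hB
  refine kill hd h h' ns (Y := Q ⊔ (𝐁[2](Sy d) ⊓ 𝐂(Q))) (Z := Q) ⟨sup_le o c, nY, n, u, ?_, le_inf le_sup_left o', le_sup_right,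
    g, hg, fun z => m (eO ▸ le_inf ((cj_mono g u).trans (cj_eq_self (nY hg)).le) z)⟩
  rw [← eO]; exact rl.trans (le_normalizer_pCoreOf 2 _)

end Pu

theorem Lb.family (hd : Dd d) (h : Lb 𝐁[2](Sy d) L) (h' : Lb 𝐁[2](Sy d) L') (ns : ∀ L L', ¬ SP 𝐁[2](Sy d) L L') :
    ⁅Um L', 𝐑[2](L)⁆ ≤ Um L := by
  have BS := baumann_le 2 (Sy d)
  obtain ⟨Q, QB, n, n', mx⟩ := exists_Q 𝐁[2](Sy d) L L'
  by_cases m : d ∈ Q
  · obtain ⟨X, QX, XS, cX, nX, -⟩ := hd.tilde h.th m (QB.trans BS)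
    obtain ⟨T, hT, BT⟩ := exists_isSyl_ge h.pg (h.le.trans (n.trans nX))
    have b := h.st d X T hd (QX m) XS (n.trans nX) hT.isPGroup BT hT.le
    obtain ⟨e, he, l⟩ := hd.exists_dd hT.isPGroup
    have pX := (Sy_pg d).to_le XS
    rw [← h.vcomm he pX cX le_normalizer le_rfl hT l (n.trans nX) b, ← h'.vcomm he pX cX le_normalizer le_rfl hT l (n'.trans nX) b]
    exact commutator_mono (commutator_le_left_of_le_normalizer (((pResidualOf_le 2 L').trans (n'.trans nX)).trans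
      (le_normalizer_ncl _ _))) le_rfl
  exfalso
  by_cases c : 𝐁[2](Sy d) ⊓ 𝐂(Q) ≤ 𝐎[2](L) <;> by_cases c' : 𝐁[2](Sy d) ⊓ 𝐂(Q) ≤ 𝐎[2](L')
  · exact m (mx _ inf_le_left (norm_inf h n c) (norm_inf h' n' c') ⟨h.memB hd BS, mem_cent (QB.trans BS)⟩)
  · exact kill₁ hd h h' ns QB n n' mx c c'
  · exact kill₁ hd h' h ns QB n' n (fun Y a b c => mx Y a c b) c' c
  obtain ⟨F, _, _, M, ρ, ψ, -, -, -, -, p⟩ := h.data
  obtain ⟨F', _, _, M', ρ', ψ', -, -, -, -, p'⟩ := h'.data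
  have u : Um L' ≤ 𝐎[2](L) := (le_inf h'.Um_le_B (by_contra fun c => ns _ _ ⟨h, h', c⟩)).trans h.cent_Um.le
  obtain ⟨Y, Z, a | a⟩ := (qt_sx QB n p h.ch (res_cent h n c) (Um_V h) h.norm_Um (Um_nc h)).two
    (qt_sx QB n' p' h'.ch (res_cent h' n' c') (Um_V h') h'.norm_Um (Um_nc h')) (qt_nc QB n' h'.le n mx)
    (qt_core (h.pg.to_le QB) n ▸ BG.qt_mono Q u)
  · exact kill hd h h' ns (a.lift QB n h.syl h'.syl n' h'.Um_le_B)
  · exact kill hd h' h ns (a.lift QB n' h'.syl h.syl n h.Um_le_B)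

end CF.Bm
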