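-- copy of `Loc.SK1` avoiding a name clash (`Comp.syl_inf`) with `Sig.S4D`
/-
Strongly closed 2-subgroups and their direct decompositions.
-/
import Cfsg.Agent.NCz.SC2J
import Cfsg.Agent.NCz.SC2G
import Cfsg.Agent.SC2.H
import Cfsg.Agent.Loc.AB3
set_option autoImplicit false
set_option linter.unusedSectionVars false

namespace CF.Kz
open Subgroup Cfsg CF.BG CF.Sig CF.GW CF.Ab2 CF.SC2
open CF.ZD (LM LM_le mem_LM LM_le_iff LM_mono)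
open CF.Loc (ncl le_ncl ncl_le ncl_le_iff ncl_le_of_le le_normalizer_ncl map_ncl cj_le_ncl)
open CF.Cl2 (ncl_normal)
open scoped commutatorElement

universe u v
variable {G : Type u} {G' : Type*} [Group G] [Finite G] [Group G'] [Finite G']
variable {A B D E H K L M N P Q S T U V W X Y Z : Subgroup G} {a b d e g k s t u v w x y z : G} {f : G →* G'}

/-- `A` is a strongly closed 2-subgroup of `X` -/
structure SK (A X : Subgroup G) : Prop where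
  pi : P2 A
  le : A ≤ X
  cl : ∀ a ∈ A, ∀ g ∈ X, g * a * g⁻¹ ∈ 𝐍 A → g * a * g⁻¹ ∈ A

/-- the `X`-conjugates of the elements of `A` -/
def cx (X A : Subgroup G) : Set G := {x | ∃ g ∈ X, g * x * g⁻¹ ∈ A}

theorem mem_cx (h : x ∈ A) : x ∈ cx X A := ⟨1, one_mem _, by simpa using h⟩

theorem cx_conj (h : x ∈ cx X A) (hg : g ∈ X) : g * x * g⁻¹ ∈ cx X A :=
  let ⟨_, a, b⟩ := h; ⟨_, mul_mem a (inv_mem hg), mem_of_eq b (by group)⟩

theorem LM_cx (l : A ≤ X) : LM (cx X A) X = ncl A X :=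
  le_antisymm (LM_le_iff.2 fun _ ⟨_, a, b⟩ _ => cj_le_ncl (inv_mem a) (mem_cj_inv.2 b))
    (ncl_le_iff.2 fun _ hg => cj_le_of fun _ hy => mem_LM (cx_conj (mem_cx hy) hg) (cmem hg (l hy)))

theorem sk_of_syl (hS : Syl 2 S X) (l : A ≤ S) (h : ∀ a ∈ A, ∀ g ∈ X, g * a * g⁻¹ ∈ S → g * a * g⁻¹ ∈ A) :
    SK A X := by
  have p := hS.pi.le l
  refine ⟨p, l.trans hS.le, fun a ha g hg k => ?_⟩
  have hA := l.trans hS.le
  obtain ⟨y, hy, c⟩ := hS.syl_cj_le (K := A ⊔ zpowers (g * a * g⁻¹))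
    (sup_le hA (zpowers_le.2 (cmem hg (hA ha)))) (p.sup ((p.elt ha).conj g).zpowers (.inr (zpowers_le.2 k)))
  have n : y ∈ 𝐍 A := mem_norm_of fun b hb => h b hb y hy (c (conj_mem_cj.2 (mem_sup_left hb)))
  have := h a ha (y * g) (mul_mem hy hg)
    (mem_of_eq (c (conj_mem_cj.2 (mem_sup_right (mem_zpowers _)))) (by group))
  exact mem_of_eq (conj_mem_of_norm' n this) (by group)

theorem inj_od (o : Od f.ker) (k : P2 P) (hx : x ∈ P) (hy : y ∈ P) (e : f x = f y) : x = y :=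
  mul_inv_eq_one.1 (eq_one_of_mem_bot (k.inf_eq_bot o) (mi (mul_mem hx (inv_mem hy))
    (show f _ = 1 by rw [map_mul, map_inv, e, mul_inv_cancel])))

theorem mem_od (o : Od f.ker) (k : P2 P) (l : U ≤ P) (hx : x ∈ P) (e : f x ∈ U.map f) : x ∈ U :=
  let ⟨_, a, b⟩ := e; inj_od o k (l a) hx b ▸ a

namespace SK
variable (h : SK A X)
include h

theorem mono (a : A ≤ Y) (b : Y ≤ X) : SK A Y := ⟨h.pi, a, fun x hx g hg => h.cl x hx g (b hg)⟩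

theorem norm (k : P2 P) (a : A ≤ P) (b : P ≤ X) : P ≤ 𝐍 A := by
  refine inf_eq_left.1 (k.nil.eq_of_inf_norm_le inf_le_left fun x hx => ⟨hx.1, ?_⟩)
  exact mem_norm_of fun y hy => h.cl y hy x (b hx.1) (conj_mem_of_norm hx.2 ⟨a hy, le_norm_self A hy⟩).2

theorem mem (k : P2 P) (l : A ≤ P) (b : P ≤ X) (ha : a ∈ A) (hg : g ∈ X) (e : g * a * g⁻¹ ∈ P) :
    g * a * g⁻¹ ∈ A := h.cl a ha g hg (h.norm k l b e)

theorem mem' (k : P2 P) (l : A ≤ P) (b : P ≤ X) (ha : a ∈ cx X A) (e : a ∈ P) : a ∈ A :=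
  let ⟨g, c, d⟩ := ha
  mem_of_eq (h.mem k l b d (inv_mem c) (mem_of_eq e (by group))) (by group)

theorem mem_norm (hg : g ∈ X) (e : cj g A ≤ 𝐍 A) : g ∈ 𝐍 A :=
  mem_norm_of fun y hy => h.cl y hy g hg (e (conj_mem_cj.2 hy))

theorem conj (hY : Y ≤ X) (a : A ≤ Y) (hg : g ∈ X) (e : cj g A ≤ Y) : ∃ y ∈ Y, y⁻¹ * g ∈ 𝐍 A := by
  obtain ⟨T, hT, l⟩ := exists_syl_le a h.pi
  obtain ⟨y, hy, k⟩ := hT.syl_cj_le e (h.pi.cj g)
  rw [cj_cj] at k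
  exact ⟨y⁻¹, inv_mem hy, by
    simpa using h.mem_norm (mul_mem (hY hy) hg) (k.trans (h.norm hT.pi l (hT.le.trans hY)))⟩

theorem frat (hY : Y ⊴ X) (a : A ≤ Y) (hg : g ∈ X) : ∃ y ∈ Y, ∃ n ∈ X ⊓ 𝐍 A, y * n = g := by
  obtain ⟨y, hy, k⟩ := h.conj hY.le a hg (cj_le_of_norm (hY.norm hg) a)
  exact ⟨y, hy, _, mi (mul_mem (inv_mem (hY.le hy)) hg) k, by group⟩

theorem sub (l : U ≤ A) (k : ∀ u ∈ U, ∀ g ∈ X, g * u * g⁻¹ ∈ A → g * u * g⁻¹ ∈ U) : SK U X :=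
  let ⟨_, hT, a⟩ := exists_syl_le h.le h.pi
  sk_of_syl hT (l.trans a) fun u hu g hg e => k u hu g hg (h.mem hT.pi a hT.le (l hu) hg e)

theorem into2 (a : A ≤ Y) (b : Y ≤ X) (l : P ≤ Y) (k : P2 P) : ∃ g ∈ Y, ∀ s ∈ P, s ∈ cx X A → g * s * g⁻¹ ∈ A := by
  obtain ⟨T, hT, a⟩ := exists_syl_le a h.pi
  obtain ⟨g, hg, e⟩ := hT.syl_cj_le l k
  exact ⟨g, hg, fun s m n => h.mem' hT.pi a (hT.le.trans b) (cx_conj n (b hg)) (e (conj_mem_cj.2 m))⟩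

theorem into (l : P ≤ X) (k : P2 P) : ∃ g ∈ X, ∀ s ∈ P, s ∈ cx X A → g * s * g⁻¹ ∈ A := h.into2 h.le le_rfl l k

theorem e2 (hx : x ∈ cx X A) : E2 x := let ⟨_, _, b⟩ := hx; piElt_conj_iff.1 (h.pi.elt b)

theorem ss : SS (cx X A) X := ⟨mem_cx (one_mem _), h.e2, fun a _ c => cx_conj a c, fun l k a b c d =>
  let ⟨g, hg, e⟩ := h.into l k
  ⟨g, hg, mem_of_eq (mul_mem (e _ c a) (e _ d b)) (by group)⟩⟩

theorem full (l : H ≤ X) (m : P ≤ H) (k : P2 P) : ∃ g ∈ X, (∀ s ∈ P, s ∈ cx X A → g * s * g⁻¹ ∈ A) ∧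
    SK (A ⊓ cj g H) (cj g H) ∧ ∀ s ∈ cj g H, s ∈ cx X A → s ∈ cx (cj g H) (A ⊓ cj g H) := by
  obtain ⟨T, hT, a⟩ := exists_syl_le m k
  obtain ⟨g, hg, e⟩ := h.into (hT.le.trans l) hT.pi
  have l' := cj_le_of_mem hg l
  have q : ∀ y ∈ cj g T, y ∈ cx X A → y ∈ A ⊓ cj g H := fun y c d => ⟨mem_of_eq (e _ (mem_cj.1 c) (h.ss.conj' d
    (l' ((hT.cj g).le c)) hg)) (by group), (hT.cj g).le c⟩
  refine ⟨g, hg, fun s hs => e s (a hs), sk_of_syl (hT.cj g) (fun y hy => mem_cj.2 (LM_le ((h.ss.mono l).max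
    (P := H ⊓ cj g⁻¹ A) hT inf_le_left ((h.pi.cj _).le inf_le_right) (LM_le_iff.2 fun s c d =>
      mi (hT.le d) (mem_cj_inv.2 (e s d c))) (mem_LM ⟨g, hg, mem_of_eq hy.1 (by group)⟩
        (mi (mem_cj.1 hy.2) (mem_cj_inv.2 (mem_of_eq hy.1 (by group)))))))) fun y hy n hn c =>
          q _ c (cx_conj (mem_cx hy.1) (l' hn)), fun s c d => ?_⟩
  obtain ⟨n, hn, e⟩ := (h.ss.mono l').into (hT.cj g) d c
  exact ⟨n, hn, q _ e (cx_conj d (l' hn))⟩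

theorem pf (k : SK B X) (c : A ≤ 𝐂 B) (i : ∀ x ∈ A, x ∈ B → x = 1) : ⁅ncl A X, ncl B X⁆ ≤ 𝒪 X := by
  obtain ⟨T, hT, l⟩ := exists_syl_le (sup_le h.le k.le) (h.pi.sup k.pi (.inl (norm_of_cent c)))
  have q : ∀ {P}, P ≤ X → P2 P → ∃ g, (∀ s ∈ P, s ∈ cx X A → g * s * g⁻¹ ∈ A) ∧
      ∀ s ∈ P, s ∈ cx X B → g * s * g⁻¹ ∈ B := fun m p =>
    let ⟨g, hg, e⟩ := hT.syl_cj_le m p
    ⟨g, fun _ a b => h.mem' hT.pi (le_sup_left.trans l) hT.le (cx_conj b hg) (e (conj_mem_cj.2 a)),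
      fun _ a b => k.mem' hT.pi (le_sup_right.trans l) hT.le (cx_conj b hg) (e (conj_mem_cj.2 a))⟩
  rw [← LM_cx h.le, ← LM_cx k.le]
  refine (CP.pf ⟨h.ss, k.ss, fun m p a b c' d => ?_⟩ ly).trans (sup_le (LM_le_iff.2 fun x a m => ?_) le_rfl)
  · obtain ⟨g, e, e'⟩ := q m p
    simpa only [conj_mul, mul_left_inj, mul_right_inj] using (c (e _ c' a) _ (e' _ d b)).symm
  · obtain ⟨g, e, e'⟩ := q (zpowers_le.2 m) (h.e2 a.1).zpowers
    rw [conj_eq_one_iff.1 (i _ (e _ (mem_zpowers x) a.1) (e' _ (mem_zpowers x) a.2))]; exact one_mem _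

protected theorem map (f : G →* G') : SK (A.map f) (X.map f) := by
  obtain ⟨S, hS, l⟩ := exists_syl_le h.le h.pi
  refine sk_of_syl (hS.map f) (map_mono l) ?_
  rintro _ ⟨a, ha, rfl⟩ _ ⟨g, hg, rfl⟩ k
  rw [← map_inv, ← map_mul, ← map_mul] at k ⊢
  obtain ⟨y, hy, e, c⟩ := exists_conj_mem_map hS f (cmem hg (h.le ha)) ((h.pi.elt ha).conj g) k
  exact ⟨_, h.mem hS.pi l hS.le ha (mul_mem hy hg) (mem_of_eq c (by group)), by simp [e]⟩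

theorem top : SK (A.subgroupOf X) ⊤ :=
  ⟨(piGrp_map_iff X.subtype_injective).1 (by rw [map_subgroupOf h.le]; exact h.pi), le_top, fun a ha g _ e =>
    h.cl a ha g g.2 (map_subgroupOf h.le ▸ map_norm (zpowers_le.2 e) X.subtype (mem_map_of_mem _ (mem_zpowers _)))⟩
end SK

variable {ι : Type v} {I : Set ι} {R c : ι → Subgroup G} {i j : ι}

/-- a direct decomposition of a strongly closed subgroup respected by fusion -/
structure Dc (X B : Subgroup G) (I : Set ι) (R c : ι → Subgroup G) : Prop extends SK B X where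
  rb : ∀ {i}, i ∈ I → R i ≤ B
  cb : ∀ {i}, i ∈ I → c i ≤ B
  sup : ∀ {i}, i ∈ I → B ≤ R i ⊔ c i
  cm : ∀ {i}, i ∈ I → R i ≤ 𝐂 (c i)
  ne : ∀ {i j}, i ∈ I → j ∈ I → i ≠ j → R j ≤ c i
  inf : ∀ d ∈ B, (∀ i ∈ I, d ∈ c i) → d = 1
  na : ∀ {i}, i ∈ I → ∃ s ∈ R i, ∃ t ∈ R i, Iv s ∧ Iv t ∧ s * t ≠ t * s
  gen : ∀ K : Subgroup G, (∀ i ∈ I, ∀ s ∈ R i, s * s = 1 → s ∈ K) → B ≤ K
  fus : ∀ g ∈ X, ∀ i ∈ I, ∃ j ∈ I, ∀ d ∈ B, g * d * g⁻¹ ∈ B →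
    (d ∈ R i → g * d * g⁻¹ ∈ R j) ∧ (d ∈ c i → g * d * g⁻¹ ∈ c j)

/-- the factors commute -/
def Cm (X B : Subgroup G) (I : Set ι) (R c : ι → Subgroup G) : Prop :=
  ∀ i ∈ I, ⁅ncl (R i) (ncl B X), ncl (c i) (ncl B X)⁆ ≤ 𝒪 X

namespace Dc
variable (h : Dc X B I R c)
include h

theorem ri (hi : i ∈ I) (a : d ∈ R i) (b : d ∈ c i) : d = 1 :=
  h.inf d (h.rb hi a) fun j hj => (eq_or_ne j i).elim (fun e => e ▸ b) fun e => h.ne hj hi e a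

theorem uq (hi : i ∈ I) (hj : j ∈ I) (a : d ∈ R i) (b : d ∈ R j) (n : d ≠ 1) : i = j :=
  by_contra fun e => n (h.ri hi a (h.ne hi hj e b))

theorem dec (hi : i ∈ I) (hd : d ∈ B) : ∃ r ∈ R i, ∃ y ∈ c i, r * y = d :=
  (mem_sup_norm (norm_of_cent (h.cm hi))).1 (h.sup hi hd)

theorem cmm (hi : i ∈ I) (a : x ∈ R i) (b : y ∈ c i) : x * y = y * x := (h.cm hi a y b).symm

/-- an element of `B` centralizing `x y` centralizes both components -/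
theorem cmp (hi : i ∈ I) (a : x ∈ R i) (b : y ∈ c i) (hd : d ∈ B) (e : d * (x * y) = x * y * d) : d * x = x * d := by
  obtain ⟨r, hr, z, hz, rfl⟩ := h.dec hi hd
  have k : x⁻¹ * (r * x * r⁻¹) = y * (z * y * z⁻¹)⁻¹ := by
    have e1 : r * z * (x * y) * (r * z)⁻¹ = r * x * r⁻¹ * (z * y * z⁻¹) := by
      calc _ = r * (z * x) * (y * z⁻¹) * r⁻¹ := by group
        _ = r * x * (z * y * z⁻¹ * r⁻¹) := by rw [← h.cmm hi a hz]; group
        _ = _ := by rw [← h.cmm hi (inv_mem hr) (cmem hz b)]; group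
    rw [e, mul_inv_cancel_right] at e1
    rw [inv_mul_eq_iff_eq_mul, ← mul_assoc, e1, mul_inv_cancel_right]
  have := h.ri hi (mul_mem (inv_mem a) (cmem hr a)) (k ▸ mul_mem b (inv_mem (cmem hz b)))
  rw [inv_mul_eq_one, eq_mul_inv_iff_mul_eq] at this
  rw [mul_assoc, ← h.cmm hi a hz, ← mul_assoc, ← this, mul_assoc]

protected theorem map (o : Od f.ker) :
    Dc (X.map f) (B.map f) I (fun i => (R i).map f) fun i => (c i).map f := by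
  refine ⟨h.toSK.map f, fun hi => map_mono (h.rb hi), fun hi => map_mono (h.cb hi),
    fun hi => (map_mono (h.sup hi)).trans (map_sup _ _ f).le, fun hi => map_cent (h.cm hi) f,
    fun hi hj n => map_mono (h.ne hi hj n), ?_, fun hi => ?_, fun K k => map_le_iff_le_comap.2 (h.gen _
      fun i hi s hs e => k i hi _ (mem_map_of_mem f hs) (by rw [← map_mul, e, map_one])), ?_⟩
  · rintro _ ⟨d, hd, rfl⟩ k
    rw [h.inf d hd fun i hi => mem_od o h.pi (h.cb hi) hd (k i hi), map_one]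
  · obtain ⟨s, hs, t, ht, is, it, n⟩ := h.na hi
    have q : ∀ {s}, s ∈ R _ → Iv s → Iv (f s) := fun hs is => .mk' (fun e => is.ne_one (inj_od o h.pi (h.rb hi hs)
      (one_mem _) (e.trans f.map_one.symm))) (by rw [← map_mul, is.sq, map_one])
    exact ⟨_, mem_map_of_mem f hs, _, mem_map_of_mem f ht, q hs is, q ht it, fun e => n (inj_od o h.pi
      (h.rb hi (mul_mem hs ht)) (h.rb hi (mul_mem ht hs)) (by rwa [map_mul, map_mul]))⟩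
  rintro _ ⟨g, hg, rfl⟩ i hi
  have n : X ≤ 𝐍 (X ⊓ f.ker) := norm_inf (le_norm_self _) le_normalizer_of_normal
  obtain ⟨k, hk, e⟩ := exists_cj_le_of_le_sup (h.le.trans n) (inf_le_right : cj g B ⊓ (X ⊓ f.ker ⊔ B) ≤ _)
    (cop2 ((h.pi.cj g).le inf_le_left) (o.le inf_le_right)) (.inl ((h.pi.cj g).le inf_le_left).sol)
  obtain ⟨j, hj, q⟩ := h.fus _ (mul_mem hk.1 hg) i hi
  refine ⟨j, hj, ?_⟩
  rintro _ ⟨d, hd, rfl⟩ ⟨b, hb, m⟩
  have m' : k * g * d * (k * g)⁻¹ ∈ B := mem_of_eq (e (conj_mem_cj.2 (mi (conj_mem_cj.2 hd) (mem_of_eq (mul_mem_sup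
    (mi (mul_mem (cmem hg (h.le hd)) (inv_mem (h.le hb))) (show f _ = 1 by simp [m])) hb) (by group))))) (by group)
  have e' : f (k * g * d * (k * g)⁻¹) = f g * f d * (f g)⁻¹ := by simp [show f k = 1 from hk.2]
  exact ⟨fun a => ⟨_, (q d hd m').1 (mem_od o h.pi (h.rb hi) hd a), e'⟩,
    fun a => ⟨_, (q d hd m').2 (mem_od o h.pi (h.cb hi) hd a), e'⟩⟩

theorem top : Dc ⊤ (B.subgroupOf X) I (fun i => (R i).subgroupOf X) fun i => (c i).subgroupOf X := by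
  have v := X.subtype_injective
  refine ⟨h.toSK.top, fun hi _ a => h.rb hi a, fun hi _ a => h.cb hi a, fun hi => ?_,
    fun hi _ a _ b => Subtype.ext (h.cm hi a _ b), fun hi hj n _ a => h.ne hi hj n a,
    fun d a b => Subtype.ext (h.inf d a b), fun hi => ?_, fun K k d a => (mem_map_iff_mem v).1 (h.gen (K.map X.subtype)
      (fun i hi s hs e => ⟨⟨s, h.le (h.rb hi hs)⟩, k i hi _ hs (Subtype.ext e), rfl⟩) a), fun g _ i hi =>
      (h.fus g g.2 i hi).imp fun j a => ⟨a.1, fun d => a.2 d⟩⟩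
  · rw [← subgroupOf_sup ((h.rb hi).trans h.le) ((h.cb hi).trans h.le)]; exact fun _ a => h.sup hi a
  · obtain ⟨s, hs, t, ht, is, it, n⟩ := h.na hi
    exact ⟨⟨s, h.le (h.rb hi hs)⟩, hs, ⟨t, h.le (h.rb hi ht)⟩, ht, (iv_map_iff v).1 is, (iv_map_iff v).1 it,
      fun e => n (congrArg Subtype.val e)⟩

theorem reduce (k : ∀ (G : Type u) [Group G] [Finite G] (B : Subgroup G) (R c : ι → Subgroup G),
    𝒪 (⊤ : Subgroup G) = ⊥ → Dc ⊤ B I R c → Cm ⊤ B I R c) : Cm X B I R c := fun i hi => by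
  have d := h.top.map od_ker
  rw [bar_top] at d
  have := k _ _ _ _ O_bar d i hi
  rw [O_bar, ← bar_top, ← map_ncl, ← map_ncl, ← map_ncl,
    ← map_commutator, le_bot_iff, Subgroup.map_eq_bot_iff, QuotientGroup.ker_mk', oddCore, pPrimeCore_eq p2] at this
  have := map_mono (f := X.subtype) this
  rwa [map_commutator, map_ncl _ ((c i).subgroupOf X), map_ncl, map_ncl, map_O _ _ X.subtype_injective, map_top_subtype, map_subgroupOf h.le,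
    map_subgroupOf ((h.rb hi).trans h.le), map_subgroupOf ((h.cb hi).trans h.le)] at this

variable (hj : j ∈ I) (he : e ∈ R j) (e1 : e ≠ 1)
include hj he e1

theorem fix (hg : g ∈ X) (hi : i ∈ I) (m : g * e * g⁻¹ ∈ R i) (hd : d ∈ B) (n : g * d * g⁻¹ ∈ B) :
    (d ∈ R j → g * d * g⁻¹ ∈ R i) ∧ (d ∈ c j → g * d * g⁻¹ ∈ c i) := by
  obtain ⟨l, hl, q⟩ := h.fus g hg j hj
  obtain rfl := h.uq hl hi ((q e (h.rb hj he) (h.rb hi m)).1 he) m (conj_ne_one e1 g)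
  exact q d hd n

theorem fix' (hg : g ∈ X ⊓ 𝐂₁ e) (hd : d ∈ B) (n : g * d * g⁻¹ ∈ B) :
    (d ∈ R j → g * d * g⁻¹ ∈ R j) ∧ (d ∈ c j → g * d * g⁻¹ ∈ c j) :=
  h.fix hj he e1 hg.1 hj (by rwa [mem_cent1.1 hg.2, mul_inv_cancel_right]) hd n

theorem cc : c j ≤ B ⊓ 𝐂₁ e := le_inf (h.cb hj) (le_cent1_iff.2 (h.cm hj he))

variable (fl : SK (B ⊓ 𝐂₁ e) (X ⊓ 𝐂₁ e))
include fl

theorem skR : SK (R j ⊓ 𝐂₁ e) (X ⊓ 𝐂₁ e) := fl.sub (inf_le_inf_right _ (h.rb hj)) fun _ a _ hg n =>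
  ⟨(h.fix' hj he e1 hg (h.rb hj a.1) n.1).1 a.1, n.2⟩

theorem skc : SK (c j) (X ⊓ 𝐂₁ e) := fl.sub (h.cc hj he e1) fun _ a _ hg n =>
  (h.fix' hj he e1 hg (h.cb hj a) n.1).2 a

theorem sub : Dc (X ⊓ 𝐂₁ e) (c j) (I \ {j}) R fun i => c i ⊓ c j := by
  have r : ∀ {i}, i ∈ I \ {j} → R i ≤ c j := fun hi => h.ne hj hi.1 (Ne.symm hi.2)
  refine ⟨h.skc hj he e1 fl, r, fun _ => inf_le_right, fun hi => ?_, fun hi => (h.cm hi.1).trans (cent_anti inf_le_left),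
    fun hi hl n => le_inf (h.ne hi.1 hl.1 n) (r hl), fun d a b => h.inf d (h.cb hj a) fun i hi =>
      (eq_or_ne i j).elim (fun q => q ▸ a) fun q => (b i ⟨hi, q⟩).1, fun hi => h.na hi.1, fun K k => ?_, fun g hg i hi => ?_⟩
  · rw [← BG.sup_inf_left (r hi) (.inl (norm_of_cent (h.cm hi.1)))]
    exact le_inf ((h.cb hj).trans (h.sup hi.1)) le_rfl
  · intro d hd
    obtain ⟨x, hx, y, hy, rfl⟩ := (mem_sup_norm' (norm_of_cent' ((h.cm hj).trans (cent_anti inf_le_right)))).1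
      (h.gen (R j ⊔ K ⊓ c j) (fun i hi s hs q => (eq_or_ne i j).elim (fun a => mem_sup_left (a ▸ hs)) fun a =>
        mem_sup_right (mi (k i ⟨hi, a⟩ s hs q) (r ⟨hi, a⟩ hs))) (h.cb hj hd))
    rw [h.ri hj hx ((mul_mem_cancel_right (mi2 hy)).1 hd), one_mul]; exact hy.1
  obtain ⟨l, hl, q⟩ := h.fus g hg.1 i hi.1
  have m : g * e * g⁻¹ = e := by rw [mem_cent1.1 hg.2, mul_inv_cancel_right]
  refine ⟨l, ⟨hl, fun a => e1 (h.ri hj he ?_)⟩, fun d a b => ⟨(q d (h.cb hj a) (h.cb hj b)).1,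
    fun n => ⟨(q d (h.cb hj a) (h.cb hj b)).2 n.1, b⟩⟩⟩
  exact a ▸ m ▸ (q e (h.rb hj he) (m.symm ▸ h.rb hj he)).2 (h.ne hi.1 hj hi.2 he)
end Dc

end CF.Kz
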