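-- copy of `Loc.SK2` avoiding a name clash (`Comp.syl_inf`) with `Sig.S4D`
/-
Direct decompositions respected by fusion: components of involutions.
-/
import Cfsg.Agent.NCz.LocSK1
set_option autoImplicit false
set_option linter.unusedSectionVars false

namespace CF.Kz
open Subgroup Cfsg CF.BG CF.Sig CF.GW CF.Ab2 CF.SC2
open CF.ZD (LM LM_le mem_LM LM_le_iff LM_mono)
open CF.Loc (ncl le_ncl ncl_le ncl_le_iff ncl_le_of_le le_normalizer_ncl map_ncl cj_le_ncl ncl_mono)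
open CF.Cl2 (ncl_normal mem_of_ncl)
open scoped commutatorElement

universe u v
variable {G : Type u} [Group G] [Finite G]
variable {A B D E H K L M N P Q S T U V W X Y Z : Subgroup G} {a b d e f g k s t u v w x y z : G}
variable {ι : Type v} {I : Set ι} {R c : ι → Subgroup G} {i j : ι}

/-- `x` lies in a factor and `d` in the corresponding member of `c` -/
def Op (I : Set ι) (R c : ι → Subgroup G) (x d : G) : Prop := ∃ g, ∃ i ∈ I, g * x * g⁻¹ ∈ R i ∧ g * d * g⁻¹ ∈ c i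

theorem Op.mk' (hi : i ∈ I) (a : x ∈ R i) (b : d ∈ c i) : Op I R c x d := ⟨1, i, hi, by simpa, by simpa⟩

theorem Op.conj (h : Op I R c x d) (g : G) : Op I R c (g * x * g⁻¹) (g * d * g⁻¹) :=
  let ⟨k, i, a, b, e⟩ := h; ⟨k * g⁻¹, i, a, mem_of_eq b (by group), mem_of_eq e (by group)⟩

theorem Op.of_conj (h : Op I R c (g * x * g⁻¹) (g * d * g⁻¹)) : Op I R c x d := by
  simpa [mul_assoc] using h.conj g⁻¹

theorem Op.cc (h : Op I R c x d) (hg : g ∈ 𝐂₁ x) : Op I R c x (g * d * g⁻¹) := by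
  have := h.conj g; rwa [mem_cent1.1 hg, mul_inv_cancel_right] at this

theorem Op.wt (h : Op I R c x d) : Op I R R x x := let ⟨k, i, a, b, _⟩ := h; ⟨k, i, a, b, b⟩

theorem Op.one (h : Op I R R x x) : Op I R c x 1 := let ⟨k, i, a, b, _⟩ := h; ⟨k, i, a, b, by simp⟩

/-- `e` is a component of `t` -/
def Cp (I : Set ι) (R c : ι → Subgroup G) (t e : G) : Prop := Iv e ∧ Op I R c e (e * t)

theorem Cp.conj (h : Cp I R c t e) (g : G) : Cp I R c (g * t * g⁻¹) (g * e * g⁻¹) :=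
  ⟨h.1.conj g, by rw [conj_mul]; exact h.2.conj g⟩

theorem Cp.cc (h : Cp I R c t e) (hg : g ∈ 𝐂₁ t) : Cp I R c t (g * e * g⁻¹) := by
  have := h.conj g; rwa [mem_cent1.1 hg, mul_inv_cancel_right] at this

theorem cj_comm' (h : g * x * g⁻¹ * (g * y * g⁻¹) = g * y * g⁻¹ * (g * x * g⁻¹)) : x * y = y * x := by
  simpa only [conj_mul, mul_left_inj, mul_right_inj] using h

theorem P2.sup1 (k : P2 P) (e : E2 t) (l : P ≤ 𝐂₁ t) : P2 (P ⊔ zpowers t) :=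
  k.sup e.zpowers (.inl (norm_of_cent (cent_zpowers t ▸ l)))

namespace Dc
variable (h : Dc ⊤ B I R c)
include h

theorem σR (o : Op I R R x d) : d ∈ cx ⊤ B := let ⟨g, _, a, _, b⟩ := o; ⟨g, trivial, h.rb a b⟩
theorem σc (o : Op I R c x d) : d ∈ cx ⊤ B := let ⟨g, _, a, _, b⟩ := o; ⟨g, trivial, h.cb a b⟩

theorem op (x1 : x ≠ 1) (hi : i ∈ I) (m : g * x * g⁻¹ ∈ R i) (n : g * d * g⁻¹ ∈ B) :
    (Op I R R x d → g * d * g⁻¹ ∈ R i) ∧ (Op I R c x d → g * d * g⁻¹ ∈ c i) := by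
  constructor <;> rintro ⟨k, j, hj, a, b⟩
  · exact mem_of_eq ((h.fix hj a (conj_ne_one x1 k) (g := g * k⁻¹) trivial hi (mem_of_eq m (by group)) (h.rb hj b)
      (mem_of_eq n (by group))).1 b) (by group)
  · exact mem_of_eq ((h.fix hj a (conj_ne_one x1 k) (g := g * k⁻¹) trivial hi (mem_of_eq m (by group)) (h.cb hj b)
      (mem_of_eq n (by group))).2 b) (by group)

theorem op1 (x1 : x ≠ 1) (hi : i ∈ I) (m : x ∈ R i) (n : d ∈ B) :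
    (Op I R R x d → d ∈ R i) ∧ (Op I R c x d → d ∈ c i) := by
  simpa using h.op (g := 1) x1 hi (by simpa) (by simpa using n)

theorem wt (o : Op I R R x x) (n : g * x * g⁻¹ ∈ B) : ∃ i ∈ I, g * x * g⁻¹ ∈ R i := by
  obtain ⟨k, j, hj, a, -⟩ := o
  obtain ⟨i, hi, q⟩ := h.fus (g * k⁻¹) trivial j hj
  exact ⟨i, hi, mem_of_eq ((q _ (h.rb hj a) (mem_of_eq n (by group))).1 a) (by group)⟩

theorem into' (k : P2 P) (m : x ∈ P) (o : Op I R R x x) (x1 : x ≠ 1) : ∃ g, ∃ i ∈ I, g * x * g⁻¹ ∈ R i ∧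
    (∀ s ∈ P, s ∈ cx ⊤ B → g * s * g⁻¹ ∈ B) ∧ (∀ s ∈ P, Op I R R x s → g * s * g⁻¹ ∈ R i) ∧
      ∀ s ∈ P, Op I R c x s → g * s * g⁻¹ ∈ c i := by
  obtain ⟨g, -, e⟩ := h.into le_top k
  obtain ⟨i, hi, a⟩ := h.wt o (e x m (h.σR o))
  exact ⟨g, i, hi, a, e, fun s n q => (h.op x1 hi a (e s n (h.σR q))).1 q, fun s n q => (h.op x1 hi a (e s n (h.σc q))).2 q⟩

theorem into1 (k : P2 P) (m : P ≤ 𝐂₁ x) (o : Op I R R x x) (x1 : x ≠ 1) : ∃ g, ∃ i ∈ I, g * x * g⁻¹ ∈ R i ∧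
    (∀ s ∈ P, Op I R R x s → g * s * g⁻¹ ∈ R i) ∧ ∀ s ∈ P, Op I R c x s → g * s * g⁻¹ ∈ c i :=
  let ⟨g, i, a, b, _, d, e⟩ := h.into' (P2.sup1 k (h.e2 (h.σR o)) m) (mem_sup_right (mem_zpowers x)) o x1
  ⟨g, i, a, b, fun s n => d s (mem_sup_left n), fun s n => e s (mem_sup_left n)⟩

theorem cp (o : Op I R R x x) (x1 : x ≠ 1) : CP {d | Op I R R x d} {d | Op I R c x d} (𝐂₁ x) := by
  refine ⟨⟨o.one, fun a => h.e2 (h.σR a), fun a _ b => a.cc b, fun l k a b m n => ?_⟩,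
    ⟨o.one, fun a => h.e2 (h.σc a), fun a _ b => a.cc b, fun l k a b m n => ?_⟩, fun l k a b m n => ?_⟩ <;>
    obtain ⟨g, i, hi, p, q, r⟩ := h.into1 k l o x1
  · exact ⟨g, i, hi, p, mem_of_eq (mul_mem (q _ m a) (q _ n b)) (by group)⟩
  · exact ⟨g, i, hi, p, mem_of_eq (mul_mem (r _ m a) (r _ n b)) (by group)⟩
  · exact cj_comm' (h.cmm hi (q _ m a) (r _ n b))

theorem pfx (o : Op I R R x x) (x1 : x ≠ 1) :
    ⁅LM {d | Op I R R x d} (𝐂₁ x), LM {d | Op I R c x d} (𝐂₁ x)⁆ ≤ 𝒪 (𝐂₁ x) :=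
  ((h.cp o x1).pf ly).trans (sup_le (LM_le_iff.2 fun d a m => by
    obtain ⟨g, i, hi, -, q, r⟩ := h.into1 (h.e2 (h.σR a.1)).zpowers (zpowers_le.2 m) o x1
    rw [conj_eq_one_iff.1 (h.ri hi (q d (mem_zpowers d) a.1) (r d (mem_zpowers d) a.2))]; exact one_mem _) le_rfl)

theorem opc (o : Op I R c x d) : x * d = d * x := let ⟨_, _, a, b, e⟩ := o; cj_comm' (h.cmm a b e)

theorem cpc (k : Cp I R c t e) : e ∈ 𝐂₁ t := mem_cent1.2 (by
  have := h.opc k.2; rwa [mul_assoc, mul_right_inj] at this)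

theorem cpσ (k : Cp I R c t e) : t ∈ cx ⊤ B :=
  let ⟨g, _, a, b, d⟩ := k.2
  ⟨g, trivial, mem_of_eq (mul_mem (h.rb a b) (h.cb a d)) (by rw [conj_mul, ← mul_assoc e, k.1.sq, one_mul])⟩

theorem cen (k : Cp I R c t e) (p : P2 P) (l : P ≤ 𝐂₁ t) (he : e ∈ P) (hs : s ∈ P) (m : s ∈ cx ⊤ B) : s ∈ 𝐂₁ e := by
  obtain ⟨g, i, hi, a, b, -, d⟩ := h.into' (P2.sup1 p (h.e2 (h.cpσ k)) l) (mem_sup_left he) k.2.wt k.1.ne_one
  exact mem_cent1.2 (cj_comm' (h.cmp hi a (d _ (mul_mem_sup he (mem_zpowers t)) k.2) (b s (mem_sup_left hs) m) (by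
    simp only [conj_mul, ← mul_assoc e, k.1.sq, one_mul, mem_cent1.1 (l hs)])))

theorem exU (hi : i ∈ I) (he : e ∈ R i) : ∃ u ∈ R i, Iv u ∧ u ≠ e ∧ u * e = e * u := by
  obtain ⟨s, hs, t, ht, is, it, n⟩ := h.na hi
  by_cases z : e ∈ 𝐂 (R i)
  · exact (eq_or_ne s e).elim (fun q => (n (q ▸ (z t ht).symm)).elim) fun q => ⟨s, hs, is, q, z s hs⟩
  obtain ⟨u, hu, u1⟩ := exists_mem_ne_one (((h.pi.le (h.rb hi)).le inf_le_left).Om_ne_bot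
    ((h.pi.le (h.rb hi)).center_ne_bot (ne_bot_of_mem hs is.ne_one)))
  exact ⟨u, (Om_le _ _ hu).1, ab_iv (h.pi.le (h.rb hi)).abelem_Om_center hu u1, fun q => z (q ▸ (Om_le _ _ hu).2),
    ((Om_le _ _ hu).2 e he).symm⟩

section
variable (hT : Syl 2 T (𝐂₁ t))
include hT

theorem cE (p : P2 P) (l : P ≤ 𝐂₁ t) (m : LM {e | Cp I R c t e} T ≤ P) (hs : s ∈ P) (n : s ∈ cx ⊤ B) :
    s ∈ 𝐂 (LM {e | Cp I R c t e} T) :=
  le_cent1_iff.1 (LM_le_iff.2 fun _ a b => mem_cent1_comm.1 (h.cen a p l (m (mem_LM a b)) hs n))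

theorem Eσ (hs : s ∈ LM {e | Cp I R c t e} T) : s ∈ cx ⊤ B :=
  h.ss.mem le_top hT.pi (LM_mono' (fun _ a _ => h.σR a.2.wt) hs)

theorem scE : SC (LM {e | Cp I R c t e} T) (𝐂₁ t) := by
  set E := LM {e | Cp I R c t e} T
  have ab : Abel E := fun s hs => h.cE hT hT.pi hT.le LM_le (LM_le hs) (h.Eσ hT hs)
  have nE : ∀ g ∈ 𝐂₁ t, cj g E ≤ T → cj g E = E := fun g hg l => cj_of_norm (mem_norm_of_cj_le (cj_le_iff.2
    (LM_le_iff.2 fun e a b => mem_cj_inv.2 (mem_LM (a.cc hg) (l (conj_mem_cj.2 (mem_LM a b)))))))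
  refine sc_of_syl hT LM_le ((ab.abelem_Om p2).le (LM_le_iff.2 fun e a b => mem_Om (mem_LM a b) (by rw [sq, a.1.sq])))
    fun a ha g hg m => ?_
  obtain ⟨U, hU, l⟩ := exists_syl_le (le_inf (LM_le.trans hT.le) (le_cent1_iff.2 (h.cE hT hT.pi hT.le LM_le m
    (cx_conj (h.Eσ hT ha) trivial))) : E ≤ 𝐂₁ t ⊓ 𝐂₁ (g * a * g⁻¹)) (hT.pi.le LM_le)
  obtain ⟨k, hk, l'⟩ := hU.syl_cj_le (le_inf (cj_le_of_mem hg (LM_le.trans hT.le))
    (cj_cent1 g a ▸ cj_mono g (le_cent1_iff.2 (ab ha)))) ((hT.pi.le LM_le).cj g)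
  obtain ⟨n, hn, l''⟩ := hT.syl_cj_le (hU.le.trans inf_le_left) hU.pi
  have e1 := nE n hn ((cj_mono n l).trans l'')
  have e2 := nE (n * (k * g)) (mul_mem hn (mul_mem hk.1 hg)) (by rw [← cj_cj, ← cj_cj]; exact (cj_mono n l').trans l'')
  rw [← cj_cj, cj_eq_iff, eq_cj_iff.1 e1.symm] at e2
  exact mem_of_eq (e2 ▸ conj_mem_cj.2 ha : k * g * a * (k * g)⁻¹ ∈ E) (by
    rw [← mul_inv_cancel_right (g * a * g⁻¹) k, ← mem_cent1.1 hk.2]; group)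

theorem fixE (k : Cp I R c t e) (he : e ∈ T) :
    ncl (LM {e | Cp I R c t e} T) (𝐂₁ t) ⊓ 𝐍 (LM {e | Cp I R c t e} T) ≤ 𝐂₁ e := fun n hn => by
  have sc := h.scE hT
  set E := LM {e | Cp I R c t e} T
  have nn := ncl_normal sc.le
  have eE : e ∈ E := mem_LM k he
  obtain ⟨u, uT, iu, ue, su⟩ : ∃ u ∈ T, Iv u ∧ u ≠ e ∧ Op I R R e u := by
    have tT : t ∈ T := hT.mem_of_norm (self_mem_cent1 t) (norm_of_cent' (cent_zpowers t ▸ hT.le) (mem_zpowers t))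
      (h.e2 (h.cpσ k))
    obtain ⟨g, i, hi, a, b, -, d⟩ := h.into' hT.pi he k.2.wt k.1.ne_one
    obtain ⟨u, hu, iu, ue, cu⟩ := h.exU hi a
    refine ⟨g⁻¹ * u * g, LM_le ((h.ss.mono le_top).max (P := 𝐂₁ t ⊓ cj g⁻¹ B) hT inf_le_left
      ((h.pi.cj _).le inf_le_right) (LM_le_iff.2 fun s x y => mi (hT.le y) (mem_cj_inv.2 (b s y x))) (mem_LM
        ⟨g, trivial, by simpa [mul_assoc] using h.rb hi hu⟩ (mi (mem_cent1.2 (cj_comm' (g := g) ?_))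
          (mem_cj_inv.2 (by simpa [mul_assoc] using h.rb hi hu))))), iu.conj' g, fun q => ue (by rw [← q]; group),
      g, i, hi, a, by simpa [mul_assoc] using hu⟩
    have := h.cmm hi hu (d _ (mul_mem he tT) k.2)
    rw [← conj_mul, ← mul_assoc u, cu, mul_assoc, mul_assoc (g * e * g⁻¹), mul_right_inj] at this
    simpa [mul_assoc] using this
  have uE := h.cE hT hT.pi hT.le LM_le uT (h.σR su)
  have nu : zpowers u ≤ 𝐍 (ncl E (𝐂₁ t)) := (zpowers_le.2 (hT.le uT)).trans nn.norm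
  have lK : zpowers u ⊔ ncl E (𝐂₁ t) ≤ 𝐂₁ t := sup_le (zpowers_le.2 (hT.le uT)) nn.le
  obtain ⟨U, hU, l⟩ := exists_syl_le (le_inf (sup_le_sup_left (le_ncl _ _) _) (sup_le (zpowers_le.2 uE) sc.abel) :
    zpowers u ⊔ E ≤ (zpowers u ⊔ ncl E (𝐂₁ t)) ⊓ 𝐂 E) (hT.pi.le (sup_le (zpowers_le.2 uT) LM_le))
  obtain ⟨_, hd, q⟩ := hU.syl_cj_le (cj_le_of_norm (norm_inf_cent (zpowers_le.2 (le_norm_self _ (mem_sup_right hn.1)))
    (zpowers_le.2 hn.2) (mem_zpowers n)) hU.le) (hU.pi.cj n)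
  obtain ⟨v, hv, d, hd', rfl⟩ := (mem_sup_norm nu).1 hd.1
  have uU := le_sup_left.trans l
  rw [← cj_cj, cj_le_iff, cj_of_mem (inv_mem (uU hv)), cj_cj] at q
  have dE : d ∈ 𝐂 E := (mul_mem_cancel_left (zpowers_le.2 uE hv)).1 hd.2
  have m := mul_mem hd' hn.1
  have e1 : d * n * e * (d * n)⁻¹ = n * e * n⁻¹ := by
    rw [← mul_inv_cancel_right (n * e * n⁻¹) d, dE _ (conj_mem_of_norm hn.2 eE)]; group
  generalize d * n = n' at *
  have lU := hU.le.trans (inf_le_left.trans lK)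
  have EU := le_sup_right.trans l
  have u' := q (conj_mem_cj.2 (uU (mem_zpowers u)))
  have e' := q (conj_mem_cj.2 (EU eE))
  have k' := k.cc (nn.le m)
  obtain ⟨g, i, hi, a, b, r, o⟩ := h.into' (P2.sup1 hU.pi (h.e2 (h.cpσ k)) lU) (mem_sup_left (EU eE)) k.2.wt k.1.ne_one
  have et := o _ (mul_mem_sup (EU eE) (mem_zpowers t)) k.2
  have key : ∀ {f}, f ∈ U → Cp I R c t f → f = e ∨ (g * f * g⁻¹ ∈ c i ∧ ∀ y ∈ U, Op I R R f y → g * y * g⁻¹ ∈ c i) :=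
    fun {f} fU kf => by
      obtain ⟨j, hj, a'⟩ := h.wt kf.2.wt (b f (mem_sup_left fU) (h.σR kf.2.wt))
      refine (eq_or_ne i j).imp (fun q => ?_) fun q => ⟨h.ne hi hj q a', fun y m s => h.ne hi hj q
        ((h.op kf.1.ne_one hj a' (b y (mem_sup_left m) (h.σR s))).1 s)⟩
      subst q
      have := h.ri hi (mul_mem a' (inv_mem a)) (mem_of_eq (mul_mem ((h.op kf.1.ne_one hi a' (b _ (mul_mem_sup fU
        (mem_zpowers t)) (h.σc kf.2))).2 kf.2) (inv_mem et)) (by group))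
      simpa using mul_inv_eq_one.1 this
  refine mem_cent1.2 (mul_inv_eq_iff_eq_mul.1 (e1 ▸ (key e' k').resolve_right fun z => ?_))
  have uc := z.2 _ u' (su.conj n')
  have ur := r u (mem_sup_left (uU (mem_zpowers u))) su
  obtain ⟨S, hS, lS⟩ := exists_syl_le lU hU.pi
  have uu := mem_of_ncl sc hS (EU.trans lS) (lS (mul_mem (uU (mem_zpowers u)) u')) (mem_of_eq (mul_mem
    (nn.conj_mem (hT.le uT) m) (inv_mem m)) (by rw [iu.inv_eq]; group)) (by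
      rw [mul_assoc, ← mul_assoc _ u, ← cj_comm' (h.cmm hi ur uc), mul_assoc, (iu.conj n').sq, mul_one, iu.sq])
  obtain ⟨x, hx, y, hy, z⟩ := (mem_sup_norm (norm_of_cent ((zpowers_le.2 a).trans (h.cm hi)))).1
    ((cj_le_iff.2 (LM_le_iff.2 fun f kf m => mem_cj_inv.2 ((key (EU (mem_LM kf m)) kf).elim (fun q => mem_sup_left
      (q ▸ mem_zpowers _)) fun q => mem_sup_right q.1)) : cj g E ≤ zpowers (g * e * g⁻¹) ⊔ c i) (conj_mem_cj.2 uu))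
  have := h.ri hi (mul_mem (inv_mem (zpowers_le.2 a hx)) ur) (mem_of_eq (mul_mem hy (inv_mem uc)) (by
    rw [inv_mul_eq_iff_eq_mul, ← mul_assoc, z]; group))
  rw [inv_mul_eq_one] at this
  rcases (k.1.conj g).mem_zpowers.1 hx with x | x
  · exact (iu.conj g).ne_one (this ▸ x)
  · exact ue (by simpa using this.symm.trans x)
end

theorem cpt (k : Cp I R c t e) (hs : s ∈ cx ⊤ B) (m : s ∈ 𝐂₁ t) : ∃ o ∈ 𝒪 (𝐂₁ t), o * s * o⁻¹ ∈ 𝐂₁ e := by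
  obtain ⟨T, hT, l⟩ := exists_syl_le (zpowers_le.2 (h.cpc k)) k.1.piGrp
  have sc := h.scE hT
  have nn := ncl_normal sc.le
  have eE : e ∈ LM {e | Cp I R c t e} T := mem_LM k (l (mem_zpowers e))
  have z : ⁅LM {e | Cp I R c t e} T, ncl (LM {e | Cp I R c t e} T) (𝐂₁ t)⁆ ≤ 𝒪 (𝐂₁ t) :=
    (commutator_mono (LM_le_iff.2 fun f a b => mem_centMod.2 ⟨nO1 hT.le b, fun g hg => O_le_O_of_normal nn _
      ((sc.mono (le_ncl _ _) nn.le).zstar (mem_LM a b) (h.fixE hT a b) g hg)⟩) le_rfl).trans (comm_centMod_le _ _)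
  generalize LM {e | Cp I R c t e} T = E at *
  have nO := (O_normal {2}ᶜ (𝐂₁ t)).norm
  have n : 𝐂₁ t ≤ 𝐍 (𝒪 (𝐂₁ t) ⊔ E) := (sc.frat_le nn (le_ncl _ _)).trans (sup_le (norm_of_comm_le (comm_sup_le
    ((comm_le_left (nn.le.trans nO)).trans le_sup_left) (z.trans le_sup_left) (norm_of_le le_sup_left)
      (norm_of_le le_sup_right))) (norm_sup (inf_le_left.trans nO) inf_le_right))
  have lE : 𝒪 (𝐂₁ t) ⊔ E ≤ 𝐂₁ t := sup_le (BG.O_le _ _) sc.le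
  obtain ⟨P, hP, l⟩ := exists_syl_le (zpowers_le.2 m) (h.e2 hs).zpowers
  obtain ⟨_, hy, q⟩ := (hP.inf_normal ⟨lE, n⟩).syl_cj_le le_sup_right sc.pi
  obtain ⟨o, ho, a, ha, rfl⟩ := (mem_sup_norm' (sc.le.trans nO)).1 hy
  rw [← cj_cj, cj_of_mem ha] at q
  have := h.cen (k.cc (BG.O_le _ _ ho)) hP.pi hP.le (q (conj_mem_cj.2 eE)).1 (l (mem_zpowers s)) hs
  exact ⟨o⁻¹, inv_mem ho, by rwa [← cj_cent1, ← inv_inv o, mem_cj_inv] at this⟩
end Dc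

end CF.Kz
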