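-- copy of `Loc.SK3` avoiding a name clash (`Comp.syl_inf`) with `Sig.S4D`
/-
Direct decompositions respected by fusion: balance.
-/
import Cfsg.Agent.NCz.LocSK2
set_option autoImplicit false
set_option linter.unusedSectionVars false

namespace CF.Kz
open Subgroup Cfsg CF.BG CF.Sig CF.GW CF.Ab2 CF.SC2
open CF.ZD (LM LM_le mem_LM LM_le_iff LM_mono)
open CF.Loc (ncl le_ncl ncl_le ncl_le_iff ncl_le_of_le le_normalizer_ncl map_ncl cj_le_ncl ncl_mono)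
open CF.Cl2 (ncl_normal)
open scoped commutatorElement

universe u v
variable {G : Type u} [Group G] [Finite G] {σ : Set G}
variable {A B D E H K L M N O P Q S T U V W X Y Z : Subgroup G} {a b d e f g k s t u v w x y z : G}
variable {ι : Type v} {I : Set ι} {R c : ι → Subgroup G} {i j : ι}

/-- the normal closures of `A` and `D` in `⟨σ ∩ H⟩` commute modulo the core -/
def Sq (σ : Set G) (H A D : Subgroup G) : Prop := ⁅ncl A (LM σ H), ncl D (LM σ H)⁆ ≤ 𝒪 H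

theorem ncl_comm (a : K ≤ 𝐍 O) (b : K ≤ 𝐍 U) (c : A ≤ 𝐍 O) (h : ⁅A, U⁆ ≤ O) : ⁅ncl A K, U⁆ ≤ O :=
  (le_centMod.1 (ncl_le (le_centMod.2 ⟨c, h⟩) (norm_centMod b a))).2

theorem Sq.of_cj (s : SS σ ⊤) (h : Sq σ (cj g H) (cj g A) (cj g D)) : Sq σ H A D := by
  rw [Sq, ← s.cj_eq le_top trivial, ← cj_O, cj_def, cj_def, cj_def, ← map_ncl, ← map_ncl, ← map_commutator] at h
  exact (map_le_map_iff_of_injective (conj_inj g)).1 h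

theorem Sq.cs (s : SS σ ⊤) (h : Sq σ H A D) (a : A ≤ LM σ H) (d : D ≤ H) (k : PC L H) : A ≤ Cz L ∨ D ≤ Cz L :=
  (k.le_or_comm p2 ((ncl_normal a).subN.trans (s.normal le_top).subN)).symm.imp
    (fun e => pc_le_Cz k (a.trans LM_le) ((commutator_comm _ _).le.trans ((commutator_mono le_rfl (le_ncl _ _)).trans e)))
    fun e => pc_le_Cz k d ((commutator_comm _ _).le.trans ((commutator_mono e (le_ncl _ _)).trans h))

/-- noncyclic elementary abelian -/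
structure F4 (A : Subgroup G) : Prop where
  ab : Abelem 2 A
  c : 4 ≤ ♯A

theorem F4.cj (h : F4 A) (g : G) : F4 (cj g A) := ⟨h.ab.cj g, by rw [card_cj]; exact h.c⟩

theorem F4.ex (h : F4 A) : ∃ x ∈ A, Iv x :=
  let ⟨x, a, b⟩ := exists_mem_ne_one (one_lt_card.1 (lt_of_lt_of_le (by decide) h.c)); ⟨x, a, ab_iv h.ab a b⟩

theorem FP.f4 (h : FP x y) : F4 (V4 x y) := ⟨ab_mk fun _ => h.sq, h.card.ge⟩

theorem four (k : P2 P) (sP : s ∈ P) (tP : t ∈ P) (is : Iv s) (it : Iv t) (n : s * t ≠ t * s) :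
    ∃ z ∈ P, Iv z ∧ ∀ y ∈ P, Iv y → ∃ D ≤ P, F4 D ∧ y ∈ D ∧ z ∈ D := by
  obtain ⟨z, -, a, b, e⟩ := SS.four (σ := {x | E2 x}) (X := ⊤) ⟨piElt_one _, id, fun a _ _ => a.conj _,
    fun _ k _ _ a b => k.elt (mul_mem a b)⟩ le_top k is.piElt it.piElt sP tP is it fun e => n (by rw [e])
  exact ⟨z, a, b, fun y m i => let ⟨D, l, f, p⟩ := e y i.piElt m i; ⟨D, l.trans LM_le, ⟨f.ab, f.c⟩, p⟩⟩

theorem conn (k : P2 P) (sP : s ∈ P) (tP : t ∈ P) (is : Iv s) (it : Iv t) (n : s * t ≠ t * s)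
    (b : ∀ D ≤ P, F4 D → Bal A D) : ∃ W, ∀ D ≤ P, F4 D → Wc A D = W := by
  obtain ⟨z, hz, iz, e⟩ := four k sP tP is it n
  obtain ⟨D₀, l₀, f₀, -, z₀⟩ := e z hz iz
  refine ⟨Wc A D₀, fun D l f => ?_⟩
  obtain ⟨y, m, iy⟩ := f.ex
  obtain ⟨D', l', f', p, q⟩ := e y (l m) iy
  have s := b D l f
  have s' := b D' l' f'
  have s₀ := b D₀ l₀ f₀
  exact (le_antisymm (s'.Wc_le' s p m iy.ne_one) (s.Wc_le' s' m p iy.ne_one)).trans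
    (le_antisymm (s₀.Wc_le' s' z₀ q iz.ne_one) (s'.Wc_le' s₀ q z₀ iz.ne_one))

theorem Wc_symm (h : CS A D) : Wc A D = Wc D A :=
  have k : ∀ {A D : Subgroup G}, Bal A D → Wc D A ≤ Wc A D := fun h =>
    Wc_le fun _ ha a1 => (h.ThA ha).trans (h.Th_le (mem_sup_left ha) a1)
  le_antisymm (k h.symm.bal) (k h.bal)

namespace Dc
variable (h : Dc ⊤ B I R c)
include h

theorem exCp (ht : t ∈ B) (it : Iv t) : ∃ j ∈ I, ∃ e ∈ R j, Iv e ∧ e * t ∈ c j := by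
  obtain ⟨j, hj, n⟩ : ∃ j ∈ I, t ∉ c j := by by_contra! k; exact it.ne_one (h.inf t ht k)
  obtain ⟨r, hr, y, hy, rfl⟩ := h.dec hj ht
  have e : r * r = 1 := h.ri hj (mul_mem hr hr) (mem_of_eq (inv_mem (mul_mem hy hy)) (eq_inv_of_mul_eq_one_left (by
    rw [← it.sq, mul_assoc, mul_assoc, ← mul_assoc y, ← h.cmm hj hr hy, mul_assoc])))
  exact ⟨j, hj, r, hr, .mk' (fun q => n (by rwa [q, one_mul])) e, by rwa [← mul_assoc, e, one_mul]⟩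

theorem ex4 (hi : i ∈ I) (he : e ∈ R i) (ie : e * e = 1) : ∃ A ≤ R i ⊓ 𝐂₁ e, F4 A ∧ e ∈ A := by
  obtain ⟨x, hx, ix, cx⟩ : ∃ x ∈ R i, Iv x ∧ (e = 1 ∨ e = x) := (eq_or_ne e 1).elim
    (fun q => let ⟨s, a, _, _, b, _⟩ := h.na hi; ⟨s, a, b, .inl q⟩) fun q => ⟨e, he, .mk' q ie, .inr rfl⟩
  obtain ⟨u, hu, iu, n, q⟩ := h.exU hi hx
  have f : FP u x := ⟨iu, ix, q, n⟩
  have m : e ∈ V4 u x := cx.elim (fun a => a ▸ one_mem _) fun a => a ▸ mem_sup_right (mem_zpowers _)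
  exact ⟨_, le_inf (sup_le (zpowers_le.2 hu) (zpowers_le.2 hx)) (le_cent1_iff.2 (f.abel m)), FP.f4 f, m⟩

variable (ih : ∀ j ∈ I, ∀ X B c, Dc X B (I \ {j}) R c → Cm X B (I \ {j}) R c)
include ih

theorem sqe (hj : j ∈ I) (he : e ∈ R j) (e1 : e ≠ 1) (fl : SK (B ⊓ 𝐂₁ e) (𝐂₁ e))
    (fl' : ∀ s ∈ 𝐂₁ e, s ∈ cx ⊤ B → s ∈ cx (𝐂₁ e) (B ⊓ 𝐂₁ e)) (hi : i ∈ I) (a : A ≤ R i ⊓ 𝐂₁ e)
    (d : D ≤ c i ⊓ 𝐂₁ e) : Sq (cx ⊤ B) (𝐂₁ e) A D := by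
  have fl0 : SK _ (⊤ ⊓ 𝐂₁ e) := fl.mono (le_inf le_top inf_le_right) inf_le_right
  have k1 := h.skR hj he e1 fl0
  have k2 := h.skc hj he e1 fl0
  have k3 := ih j hj _ _ _ (h.sub hj he e1 fl0)
  rw [top_inf_eq] at k1 k2 k3
  have p := k1.pf k2 (inf_le_left.trans (h.cm hj)) fun x m => h.ri hj m.1
  have nM := ncl_normal k1.le
  have nN := ncl_normal k2.le
  have dc : ∀ s ∈ B ⊓ 𝐂₁ e, ∃ r ∈ R j ⊓ 𝐂₁ e, ∃ y ∈ c j, r * y = s := fun s m => by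
    obtain ⟨r, hr, y, hy, rfl⟩ := h.dec hj m.1
    exact ⟨r, mi hr ((mul_mem_cancel_right (k2.le hy)).1 (mi2 m)), y, hy, rfl⟩
  have l : LM (cx ⊤ B) (𝐂₁ e) ≤ ncl (R j ⊓ 𝐂₁ e) (𝐂₁ e) ⊔ ncl (c j) (𝐂₁ e) := LM_le_iff.2 fun s m n => by
    obtain ⟨g, hg, q⟩ := fl' s n m
    obtain ⟨r, hr, y, hy, q⟩ := dc _ q
    exact mem_of_eq ((nM.sup nN).conj_mem' hg (mul_mem_sup (le_ncl _ _ hr) (le_ncl _ _ hy))) (by rw [q]; group)
  have nO := (O_normal {2}ᶜ (𝐂₁ e)).norm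
  rcases eq_or_ne i j with rfl | n
  · exact (commutator_mono (ncl_le (a.trans (le_ncl _ _)) (LM_le.trans nM.norm))
      (ncl_le ((d.trans inf_le_left).trans (le_ncl _ _)) (LM_le.trans nN.norm))).trans p
  have z := k3 i ⟨hi, n⟩
  have lM := le_ncl (R j ⊓ 𝐂₁ e) (𝐂₁ e)
  have r := (h.ne hj hi n.symm).trans (le_ncl _ (𝐂₁ e))
  have lN := inf_le_right.trans (le_ncl (c j) (𝐂₁ e)) (a := c i ⊓ c j)
  generalize ncl (R j ⊓ 𝐂₁ e) (𝐂₁ e) = M at *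
  generalize ncl (c j) (𝐂₁ e) = N at *
  have m1 : M ≤ centMod (ncl (R i) N) (𝒪 (𝐂₁ e)) :=
    le_centMod.2 ⟨nM.le.trans nO, (commutator_mono le_rfl (ncl_le_of_le r)).trans p⟩
  have m2 : D ≤ centMod (ncl (R i) N) (𝒪 (𝐂₁ e)) := fun s m => by
    obtain ⟨r, hr, y, hy, rfl⟩ := dc s (inf_le_inf_right _ (h.cb hi) (d m))
    exact mul_mem (m1 (lM hr)) (le_centMod.2 ⟨(lN.trans nN.le).trans nO, (commutator_comm _ _).le.trans
      ((commutator_mono le_rfl (le_ncl _ _)).trans z)⟩ (mi ((mul_mem_cancel_left (h.ne hi hj n hr.1)).1 (d m).1) hy))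
  exact ncl_comm (LM_le.trans nO) (le_normalizer_ncl _ _) ((a.trans inf_le_right).trans nO) ((commutator_comm _ _).le.trans
    ((commutator_mono le_rfl ((a.trans inf_le_left).trans (le_ncl _ N))).trans (le_centMod.1 (ncl_le m2 (l.trans
      (sup_le (norm_of_le m1) (norm_centMod (le_normalizer_ncl _ _) (nN.le.trans nO)))))).2))

theorem sqt (hi : i ∈ I) (a : A ≤ R i ⊓ 𝐂₁ t) (d : D ≤ c i ⊓ 𝐂₁ t) (a1 : A ≠ ⊥) (ht : t ∈ B) (it : Iv t) :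
    Sq (cx ⊤ B) (𝐂₁ t) A D := by
  obtain ⟨j, hj, e, he, ie, m⟩ := h.exCp ht it
  have k : Cp I R c t e := ⟨ie, .mk' hj he m⟩
  have l : B ⊓ 𝐂₁ t ≤ B ⊓ 𝐂₁ e := fun s n => mi n.1 (h.cen k (h.pi.le inf_le_left) inf_le_right
    (mi (h.rb hj he) (h.cpc k)) n (mem_cx n.1))
  have a' := (a.trans (inf_le_inf_right _ (h.rb hi))).trans l
  have d' := (d.trans (inf_le_inf_right _ (h.cb hi))).trans l
  obtain ⟨g, -, q, fl, fl'⟩ := h.full le_top (inf_le_right : B ⊓ 𝐂₁ e ≤ _) (h.pi.le inf_le_left)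
  rw [cj_cent1] at fl fl'
  replace q := fun s m => q s m (mem_cx m.1)
  obtain ⟨j', hj', he'⟩ := h.wt k.2.wt (q e (mi (h.rb hj he) (self_mem_cent1 e)))
  obtain ⟨i', hi', r⟩ := h.fus g trivial i hi
  have z := (h.sqe ih hj' he' (conj_ne_one ie.ne_one g) fl fl' hi' (le_inf (cj_le_of fun s n =>
    (r s (a' n).1 (q s (a' n))).1 (a n).1) (cj_cent1 g e ▸ cj_mono g (a'.trans inf_le_right))) (le_inf
      (cj_le_of fun s n => (r s (d' n).1 (q s (d' n))).2 (d n).1) (cj_cent1 g e ▸ cj_mono g (d'.trans inf_le_right))))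
  rw [← cj_cent1] at z
  replace z := z.of_cj h.ss
  have nO := (O_normal {2}ᶜ (𝐂₁ t)).norm
  have lJ : LM (cx ⊤ B) (𝐂₁ t ⊓ 𝐂₁ e) ≤ 𝐂₁ t := LM_le.trans inf_le_left
  have aJ : A ≤ LM (cx ⊤ B) (𝐂₁ t ⊓ 𝐂₁ e) := fun s n => mem_LM (mem_cx (a' n).1) (mi (a n).2 (a' n).2)
  have dJ : D ≤ LM (cx ⊤ B) (𝐂₁ t ⊓ 𝐂₁ e) := fun s n => mem_LM (mem_cx (d' n).1) (mi (d n).2 (d' n).2)
  have lK : LM (cx ⊤ B) (𝐂₁ t) ≤ 𝒪 (𝐂₁ t) ⊔ LM (cx ⊤ B) (𝐂₁ t ⊓ 𝐂₁ e) := LM_le_iff.2 fun s m n =>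
    let ⟨o, a, b⟩ := h.cpt k m n
    mem_of_eq (cmem' (mem_sup_left a) (mem_sup_right (mem_LM (cx_conj m trivial) (mi (cmem (BG.O_le _ _ a) n) b))))
      (by group)
  have n := (O_normal {2}ᶜ (𝐂₁ t)).sup (h.ss.normal le_top)
  have oJ := (O_le_of_cover ((LM_mono inf_le_left).trans le_sup_right) ((sup_le le_sup_left lK).trans (sup_le_sup_right
    (le_O ((O_normal _ _).of_le le_sup_left n.le) (O_pi _ _)) _))).trans (O_le_O_of_normal n _)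
  have lJ' : LM (cx ⊤ B) (𝐂₁ t ⊓ 𝐂₁ e) ≤ LM (cx ⊤ B) (𝐂₁ e) := LM_mono inf_le_right
  generalize LM (cx ⊤ B) (𝐂₁ t ⊓ 𝐂₁ e) = J at *
  replace z : ⁅A, ncl D J⁆ ≤ 𝒪 (𝐂₁ t) := ((le_inf ((commutator_mono aJ (ncl_le_of_le dJ)).trans (der_le J))
    ((commutator_mono (le_ncl _ _) (ncl_mono le_rfl lJ')).trans z)).trans (inf_O_le (lJ'.trans LM_le) _)).trans oJ
  exact ncl_comm (LM_le.trans nO) (le_normalizer_ncl _ _) ((aJ.trans lJ).trans nO) ((commutator_mono le_rfl (ncl_le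
    ((le_ncl D J).trans le_sup_right) (lK.trans (sup_le (norm_of_le le_sup_left) (norm_sup (lJ.trans nO)
      (le_normalizer_ncl _ _)))))).trans (comm_sup_le' (comm_le_right ((aJ.trans lJ).trans nO)) z (le_norm_self _)
        (((ncl_le_of_le dJ).trans lJ).trans nO)))

theorem cs (hi : i ∈ I) (a : cj g A ≤ R i) (d : cj g D ≤ c i) (fa : F4 A) (fd : F4 D) : CS A D := by
  have p : Pr A D := ⟨fa.ab, fd.ab, fa.c, fd.c, (map_cent_iff (conj_inj g)).1 (cent_mono (h.cm hi) a d),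
    eq_bot_of_forall fun x m => conj_eq_one_iff.1 (h.ri hi (a (conj_mem_cj.2 m.1)) (d (conj_mem_cj.2 m.2)))⟩
  refine ⟨p, fun t ht t1 L => Sq.cs h.ss (Sq.of_cj (g := g) h.ss ?_) (fun s m => mem_LM ⟨g, trivial, h.rb hi
    (a (conj_mem_cj.2 m))⟩ (p.cA ht m)) (p.cB ht)⟩
  rw [cj_cent1]
  exact h.sqt ih hi (le_inf a (cj_cent1 g t ▸ cj_mono g (p.cA ht))) (le_inf d (cj_cent1 g t ▸ cj_mono g (p.cB ht)))
    (one_lt_card.1 (lt_of_lt_of_le (by decide) (fa.cj g).c))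
    (sup_le (a.trans (h.rb hi)) (d.trans (h.cb hi)) (cj_sup g A D ▸ conj_mem_cj.2 ht)) ((ab_iv p.ab ht t1).conj g)
end Dc

end CF.Kz
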