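-- copy of `Loc.SK4` avoiding a name clash (`Comp.syl_inf`) with `Sig.S4D`
/-
Direct decompositions respected by fusion: the factors commute.
-/
import Cfsg.Agent.NCz.LocSK3
set_option autoImplicit false
set_option linter.unusedSectionVars false

namespace CF.Kz
open Subgroup Cfsg CF.BG CF.Sig CF.GW CF.Ab2 CF.SC2
open CF.ZD (LM LM_le mem_LM LM_le_iff LM_mono)
open CF.Loc (ncl le_ncl ncl_le ncl_le_iff ncl_le_of_le le_normalizer_ncl map_ncl cj_le_ncl ncl_mono)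
open CF.Cl2 (ncl_normal)
open scoped commutatorElement

universe u v
variable {G : Type u} [Group G] [Finite G] {σ : Set G}
variable {A B D E H K L M N O P Q S T U V W X Y Z : Subgroup G} {a b d e f g k o s t u v w x y z : G}
variable {ι : Type v} {I : Set ι} {R c : ι → Subgroup G} {i j : ι}

theorem cover (k : P2 A) (n : A ≤ 𝐂₁ x) (m : M ≤ 𝐂₁ x) (h : ⁅M, A⁆ ≤ 𝒪 (𝐂₁ x)) : M ≤ 𝒪 (𝐂₁ x) ⊔ 𝐂 A :=
  le_sup_right.trans ((sup_inf_cent_of_comm_le (K := 𝒪 (𝐂₁ x) ⊔ M) le_sup_left (nO1 n) (cop2 k (O_pi _ _)) (.inl k.sol)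
    (comm_sup_le (comm_le_left (nO1 n)) h (le_norm_self _) (nO1 m))).ge.trans (sup_le_sup_left inf_le_right _))

theorem exists_iv (e : E2 x) (x1 : x ≠ 1) : ∃ t ∈ zpowers x, Iv t :=
  let ⟨t, a, b⟩ := BG.exists_mem_orderOf_eq p2 (e.zpowers.dvd_card (mt zpowers_eq_bot.1 x1)); ⟨t, a, b⟩

theorem cent1_zp (h : t ∈ zpowers x) : 𝐂₁ x ≤ 𝐂₁ t := cent_zpowers x ▸ cent_le_cent1 h

namespace Dc
variable (h : Dc ⊤ B I R c) (ih : ∀ j ∈ I, ∀ X B c, Dc X B (I \ {j}) R c → Cm X B (I \ {j}) R c)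
  (two : ∀ i ∈ I, ∃ j ∈ I, i ≠ j)
include h ih two

theorem exW : ∃ W, Od W ∧ ∀ i ∈ I, ∀ A ≤ R i, ∀ D ≤ c i, F4 A → F4 D → Wc A D = W := by
  have cs : ∀ {i A D}, i ∈ I → A ≤ R i → D ≤ c i → F4 A → F4 D → CS A D := fun hi a d =>
    h.cs (g := 1) ih hi (by rwa [cj_one]) (by rwa [cj_one])
  have k : ∀ i ∈ I, ∀ A ≤ R i, ∀ D ≤ c i, ∀ A' ≤ R i, ∀ D' ≤ c i, F4 A → F4 D → F4 A' → F4 D' → Wc A D = Wc A' D' :=
    fun i hi A a D d A' a' D' d' fa fd fa' fd' => by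
      obtain ⟨j, hj, n⟩ := two i hi
      obtain ⟨s, hs, t, ht, is, it, n'⟩ := h.na hj
      obtain ⟨W, e⟩ := conn (h.pi.le (h.cb hi)) (h.ne hi hj n hs) (h.ne hi hj n ht) is it n' fun D d f => (cs hi a d fa f).bal
      obtain ⟨s, hs, t, ht, is, it, n'⟩ := h.na hi
      obtain ⟨W', e'⟩ := conn (h.pi.le (h.rb hi)) hs ht is it n' fun A a f => (cs hi a d' f fd').symm.bal
      rw [e D d fd, ← e D' d' fd', Wc_symm (cs hi a d' fa fd'), Wc_symm (cs hi a' d' fa' fd'), e' A a fa, e' A' a' fa']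
  by_cases ne : I.Nonempty
  swap
  · exact ⟨⊥, piGrp_bot _, fun i hi => (ne ⟨i, hi⟩).elim⟩
  obtain ⟨i, hi⟩ := ne
  obtain ⟨j, hj, n⟩ := two i hi
  obtain ⟨A, a, fa, -⟩ := h.ex4 hi (one_mem _) (mul_one 1)
  obtain ⟨D, d, fd, -⟩ := h.ex4 hj (one_mem _) (mul_one 1)
  replace a := a.trans inf_le_left
  replace d := (d.trans inf_le_left).trans (h.ne hi hj n)
  refine ⟨Wc A D, (cs hi a d fa fd).bal.od_Wc, fun l hl A' a' D' d' fa' fd' => ?_⟩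
  rcases eq_or_ne l i with rfl | m
  · exact k l hl _ a' _ d' _ a _ d fa' fd' fa fd
  rw [k l hl _ a' _ d' _ a' _ (a.trans (h.ne hl hi m)) fa' fd' fa' fa, Wc_symm (cs hl a' (a.trans (h.ne hl hi m)) fa' fa)]
  exact k i hi _ a _ (a'.trans (h.ne hi hl m.symm)) _ a _ d fa fa' fa fd

section
variable (hW : ∀ i ∈ I, ∀ A ≤ R i, ∀ D ≤ c i, F4 A → F4 D → Wc A D = W)
include hW

theorem n1 (hi : i ∈ I) (a : A ≤ R i) (d : D ≤ c i) (fa : F4 A) (fd : F4 D) (a' : cj g A ≤ B) (d' : cj g D ≤ B) :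
    g ∈ 𝐍 W := by
  obtain ⟨j, hj, q⟩ := h.fus g trivial i hi
  refine mem_norm_of_cj_le (((cj_mono g (hW i hi A a D d fa fd).ge).trans (cj_Wc_le g A D)).trans (hW j hj _
    (cj_le_of fun s m => (q s (h.rb hi (a m)) (a' (conj_mem_cj.2 m))).1 (a m)) _
    (cj_le_of fun s m => (q s (h.cb hi (d m)) (d' (conj_mem_cj.2 m))).2 (d m)) (fa.cj g) (fd.cj g)).le)

theorem nB (hi : i ∈ I) : 𝐍 B ≤ 𝐍 W := fun g hg => by
  obtain ⟨j, hj, n⟩ := two i hi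
  obtain ⟨A, a, fa, -⟩ := h.ex4 hi (one_mem _) (mul_one 1)
  obtain ⟨D, d, fd, -⟩ := h.ex4 hj (one_mem _) (mul_one 1)
  exact h.n1 ih two hW hi (a.trans inf_le_left) ((d.trans inf_le_left).trans (h.ne hi hj n)) fa fd
    (cj_le_of_norm hg ((a.trans inf_le_left).trans (h.rb hi))) (cj_le_of_norm hg ((d.trans inf_le_left).trans (h.rb hj)))

theorem n2 (hi : i ∈ I) (a : A ≤ R i) (d : D ≤ c i) (fa : F4 A) (fd : F4 D) (a' : cj g A ≤ 𝐍 W) (d' : cj g D ≤ 𝐍 W) :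
    g ∈ 𝐍 W := by
  have l := sup_le (a.trans (h.rb hi)) (d.trans (h.cb hi))
  obtain ⟨n, hn, q⟩ := h.into2 ((le_norm_self B).trans (h.nB ih two hW hi)) le_top
    ((cj_sup g A D).le.trans (sup_le a' d')) ((h.pi.le l).cj g)
  have q' : cj (n * g) (A ⊔ D) ≤ B := cj_le_of fun s m =>
    mem_of_eq (q _ (conj_mem_cj.2 m) (cx_conj (mem_cx (l m)) trivial)) (by group)
  exact (mul_mem_cancel_left hn).1 (h.n1 ih two hW hi a d fa fd ((cj_mono _ le_sup_left).trans q')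
    ((cj_mono _ le_sup_right).trans q'))

theorem cA (hi : i ∈ I) (a : A ≤ R i) (fa : F4 A) : 𝐂 A ≤ 𝐍 W := by
  obtain ⟨x, hx, ix⟩ := fa.ex
  have ss := (h.cp (.mk' hi (a hx) (a hx)) ix.ne_one).t.mono (cent_le_cent1 hx)
  have cs : ∀ {D}, D ≤ 𝐂 A → F4 D → (∀ d ∈ D, Op I R c x d) → Bal A D := fun {D} l f o => by
    obtain ⟨g, j, hj, -, -, q, r⟩ := h.into' (fa.ab.pi.sup f.ab.pi (.inr (norm_of_cent l))) (mem_sup_left hx)
      (.mk' hi (a hx) (a hx)) ix.ne_one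
    exact (h.cs ih hj (cj_le_of fun s m => q s (mem_sup_left m) (.mk' hi (a hx) (a m)))
      (cj_le_of fun s m => r s (mem_sup_right m) (o s m)) fa f).bal
  obtain ⟨j, hj, n⟩ := two i hi
  obtain ⟨s, hs, t, ht, is, it, st⟩ := h.na hj
  replace hs := h.ne hi hj n hs
  replace ht := h.ne hi hj n ht
  obtain ⟨U, hU, l⟩ := exists_syl_le (cent_symm (a.trans (h.cm hi))) (h.pi.le (h.cb hi))
  have lP : c i ≤ LM {d | Op I R c x d} U := fun d m => mem_LM (.mk' hi (a hx) m) (l m)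
  have pP := hU.pi.le (LM_le (D := {d | Op I R c x d}))
  have bP : ∀ D ≤ LM {d | Op I R c x d} U, F4 D → Bal A D := fun D m f =>
    cs (m.trans (LM_le.trans hU.le)) f fun d q => ss.mem hU.le hU.pi (m q)
  obtain ⟨W', e⟩ := conn pP (lP hs) (lP ht) is it st bP
  obtain ⟨D, d, fd, -⟩ := h.ex4 hj (one_mem _) (mul_one 1)
  replace d := (d.trans inf_le_left).trans (h.ne hi hj n)
  obtain rfl := (e D (d.trans lP) fd).symm.trans (hW i hi A a D d fa fd)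
  obtain ⟨z, hz, iz, four⟩ := four pP (lP hs) (lP ht) is it st
  have hf : ∀ d ∈ {d | Op I R c x d}, d ∈ U → Iv d → ∀ g ∈ 𝐂 A, g * d * g⁻¹ ∈ U → g ∈ 𝐍 W' := fun d o m i g hg m' => by
    obtain ⟨D, l, f, p, -⟩ := four d (mem_LM o m) i
    obtain ⟨D', l', f', p', -⟩ := four _ (mem_LM (ss.conj o (hU.le m) hg) m') (i.conj g)
    have lD := l.trans (LM_le.trans hU.le)
    refine mem_norm_of_cj_le (((cj_mono g (e D l f).ge).trans (cj_Wc_le g A D)).trans ?_)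
    rw [cj_of_cent hg, ← e D' l' f']
    exact (bP D' l' f').Wc_le' (cs (cj_le_of_mem hg lD) (f.cj g) fun y m => by
      obtain ⟨y, hy, rfl⟩ := mem_cj_iff.1 m
      exact ss.conj (ss.mem hU.le hU.pi (l hy)) (lD hy) hg) p' (conj_mem_cj.2 p) (i.conj g).ne_one
  have zτ := ss.mem hU.le hU.pi hz
  have uW : U ≤ 𝐍 W' := fun g hg => hf z zτ (LM_le hz) iz g (hU.le hg) (cmem hg (LM_le hz))
  intro g hg
  have zg := cmem hg (hU.le (LM_le hz))
  have m : g * z * g⁻¹ ∈ 𝐍 W' := by_contra fun m => st (zl ss hU uW hf (ss.conj zτ (hU.le (LM_le hz)) hg) zg (iz.conj g) m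
    (.mk' hi (a hx) hs) (.mk' hi (a hx) ht) (l hs) (l ht) is it)
  obtain ⟨n, hn, q⟩ := (ss.mono le_rfl).into (hU.of_le (le_inf hU.le uW) inf_le_left)
    (ss.conj zτ (hU.le (LM_le hz)) hg) (mi zg m)
  exact (mul_mem_cancel_left (mi2 hn)).1 (hf z zτ (LM_le hz) iz _ (mul_mem hn.1 hg) (mem_of_eq q (by group)))

theorem cX (hi : i ∈ I) (hx : x ∈ R i) (ix : Iv x) : 𝐂₁ x ≤ 𝐍 W := fun g hg => by
  obtain ⟨j, hj, n⟩ := two i hi
  obtain ⟨A, a, fa, m⟩ := h.ex4 hi hx ix.sq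
  obtain ⟨D, d, fd, -⟩ := h.ex4 hj (one_mem _) (mul_one 1)
  replace d := d.trans inf_le_left
  have d' := d.trans (h.ne hi hj n)
  have o : Op I R R x x := .mk' hi hx hx
  have p := h.pfx o ix.ne_one
  have cp := h.cp o ix.ne_one
  have cD : D ≤ 𝐂₁ x := d'.trans (le_cent1_iff.2 (h.cm hi hx))
  have lO : 𝒪 (𝐂₁ x) ≤ 𝐍 W := le_of_cc fd.ab.pi (O_pi _ _) (nO1 cD) (norm_of_le ((le_sup_left.trans
    (le_Wc m ix.ne_one)).trans (hW j hj D d A ((a.trans inf_le_left).trans (h.ne hj hi n.symm)) fd fa).le))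
    (inf_le_right.trans (h.cA ih two hW hj d fd))
  have aM : A ≤ LM {d | Op I R R x d} (𝐂₁ x) := fun s m => mem_LM (.mk' hi hx (a m).1) (a m).2
  have dN : D ≤ LM {d | Op I R c x d} (𝐂₁ x) := fun s m => mem_LM (.mk' hi hx (d' m)) (cD m)
  exact h.n2 ih two hW hi (a.trans inf_le_left) d' fa fd ((cj_le_of_norm ((cp.s.normal le_rfl).norm hg) aM).trans
    ((cover fd.ab.pi cD LM_le ((commutator_mono le_rfl dN).trans p)).trans (sup_le lO (h.cA ih two hW hj d fd))))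
    ((cj_le_of_norm ((cp.t.normal le_rfl).norm hg) dN).trans ((cover fa.ab.pi (a.trans inf_le_right) LM_le
      ((commutator_comm _ _).le.trans ((commutator_mono aM le_rfl).trans p))).trans
        (sup_le lO (h.cA ih two hW hi (a.trans inf_le_left) fa))))

theorem cD (ht : t ∈ B) (it : Iv t) : 𝐂₁ t ≤ 𝐍 W := fun g hg => by
  obtain ⟨j, hj, e, he, ie, m⟩ := h.exCp ht it
  have k : Cp I R c t e := ⟨ie, .mk' hj he m⟩
  have q : ∀ l ∈ I, ∃ A ≤ R l ⊓ 𝐂₁ t, F4 A := fun l hl => by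
    obtain ⟨r, hr, y, hy, rfl⟩ := h.dec hl ht
    obtain ⟨A, a, fa, -⟩ := h.ex4 hl hr (h.ri hl (mul_mem hr hr) (mem_of_eq (inv_mem (mul_mem hy hy))
      (eq_inv_of_mul_eq_one_left (by rw [← it.sq, mul_assoc, mul_assoc, ← mul_assoc y, ← h.cmm hl hr hy, mul_assoc]))))
    exact ⟨A, fun s m => mi (a m).1 (mem_cent1.2 (by
      rw [← mul_assoc, mem_cent1.1 (a m).2, mul_assoc, h.cmm hl (a m).1 hy, mul_assoc])), fa⟩
  obtain ⟨l, hl, n⟩ := two j hj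
  obtain ⟨A, a, fa⟩ := q j hj
  obtain ⟨D, d, fd⟩ := q l hl
  have lO : 𝒪 (𝐂₁ t) ≤ 𝐍 W := le_of_cent1 fa.ab fa.c (nO1 (a.trans inf_le_right)) (O_pi _ _) fun x m x1 =>
    inf_le_right.trans (h.cX ih two hW hj (a m).1 (ab_iv fa.ab m x1))
  have z : ∀ {A}, A ≤ B ⊓ 𝐂₁ t → cj g A ≤ 𝐍 W := fun l => cj_le_of fun s m =>
    let ⟨o, a, b⟩ := h.cpt k (cx_conj (mem_cx (l m).1) trivial) (cmem hg (l m).2)
    mem_of_eq (cmem' (lO a) (h.cX ih two hW hj he ie b)) (by group)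
  exact h.n2 ih two hW hj (a.trans inf_le_left) ((d.trans inf_le_left).trans (h.ne hj hl n)) fa fd
    (z (a.trans (inf_le_inf_right _ (h.rb hj)))) (z (d.trans (inf_le_inf_right _ (h.rb hl))))

theorem nW (hi : i ∈ I) : 𝐍 W = ⊤ := by_contra fun ne => by
  obtain ⟨T, hT, l⟩ := exists_syl_le h.le h.pi
  have sc : IsStronglyClosed B T := ⟨l, fun x m g => h.mem hT.pi l le_top m trivial⟩
  obtain ⟨s, hs, t, ht, is, it, n⟩ := h.na hi
  exact n (((ti_of sc hT (h.nB ih two hW hi) fun s m s1 => let ⟨_, a, b⟩ := exists_iv (h.pi.elt m) s1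
    (cent1_zp a).trans (h.cD ih two hW (zpowers_le.2 m a) b)).ab ne sc hT ((h.norm hT.pi l le_top).trans
      (h.nB ih two hW hi))).abel.mul_comm (mem_Om (h.rb hi hs) (by rw [sq, is.sq])) (mem_Om (h.rb hi ht) (by rw [sq, it.sq])))
end

variable (h0 : 𝒪 (⊤ : Subgroup G) = ⊥)
include h0

theorem pair (o : Op I R c e f) (ie : Iv e) (if' : Iv f) : ∃ A D, e ∈ A ∧ f ∈ D ∧ Bal A D ∧ Wc A D = ⊥ := by
  obtain ⟨g, i, hi, a, b⟩ := o
  obtain ⟨W, o, hW⟩ := h.exW ih two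
  obtain ⟨j, hj, n⟩ := two i hi
  obtain ⟨s, hs, t, ht, is, it, st⟩ := h.na hj
  obtain ⟨A, l, fa, m⟩ := h.ex4 hi a (ie.conj g).sq
  obtain ⟨_, -, -, q⟩ := four (h.pi.le (h.cb hi)) (h.ne hi hj n hs) (h.ne hi hj n ht) is it st
  obtain ⟨D, l', fd, m', -⟩ := q _ b (if'.conj g)
  replace l := l.trans inf_le_left
  refine ⟨_, _, mem_cj_inv.2 m, mem_cj_inv.2 m', (h.cs (g := g) ih hi (by rwa [cj_cj_inv]) (by rwa [cj_cj_inv])
    (fa.cj _) (fd.cj _)).bal, cj_eq_bot.1 (le_bot_iff.1 ((cj_Wc_le g _ _).trans ?_))⟩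
  rw [cj_cj_inv, cj_cj_inv, hW i hi A l D l' fa fd, ← h0]
  exact le_O ⟨le_top, (h.nW ih two hW hi).ge⟩ o

theorem e2' (k : Cp I R c t e) (it : t * t = 1) (hs : s ∈ cx ⊤ B) (m : s ∈ 𝐂₁ t) : s ∈ 𝐂₁ e := by
  obtain ⟨o, ho, q⟩ := h.cpt k hs m
  refine mem_of_eq (cmem' (?_ : o ∈ 𝐂₁ e) q) (by group)
  rcases eq_or_ne (e * t) 1 with z | z
  · rw [← k.1.inv_eq, eq_inv_of_mul_eq_one_left z, inv_inv]; exact BG.O_le _ _ ho
  have et := mem_cent1.1 (h.cpc k)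
  have e2 : e * (e * t) = t := by rw [← mul_assoc, k.1.sq, one_mul]
  have t1 : t ≠ 1 := fun q => k.1.ne_one (let ⟨g, _, a, b, d⟩ := k.2; conj_eq_one_iff.1 (h.ri a b (by rwa [q, mul_one] at d)))
  obtain ⟨A, D, a, d, b, w⟩ := h.pair ih two h0 k.2 k.1 (.mk' z (by rw [mul_assoc, ← mul_assoc t, ← et, mul_assoc, it, mul_one, k.1.sq]))
  have := b.Th_le (e2 ▸ mul_mem_sup a d) t1 (mi (mem_sup_left (commutator_mem_commutator ho a)) (mem_sup_left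
    (mem_of_eq (commutator_mem_commutator ho d) (by
      rw [commutatorElement_def, commutatorElement_def, ← mul_assoc, mul_assoc _ t, ← mem_cent1.1 (inv_mem (BG.O_le _ _ ho))]
      group))))
  exact mem_cent1.2 (commutatorElement_eq_one_iff_mul_comm.1 (eq_one_of_mem_bot w this))

theorem e3 (o : Op I R c z x) (iz : Iv z) (ix : Iv x) (hs : Op I R R z s) (m : s ∈ 𝐂₁ z) : s ∈ 𝐂₁ x := by
  obtain ⟨A, D, a, d, b, w⟩ := h.pair ih two h0 o iz ix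
  have p := h.pfx o.wt iz.ne_one (commutator_mem_commutator (mem_LM hs m) (mem_LM o (mem_cent1.2 (h.opc o).symm)))
  have q := commutatorElement_eq_one_iff_mul_comm.1 (eq_one_of_mem_bot w (b.Th_le (mem_sup_left a) iz.ne_one
    (b.ThA a (mem_sup_left (commutator_mem_commutator p d)))))
  refine mem_cent1.2 (commutatorElement_eq_one_iff_mul_comm.1 ((piElt_of_pow_eq_one p2 ?_).eq_one ((O_pi _ _).elt p)))
  have := (ix.conj s).sq
  rw [show s * x * s⁻¹ = ⁅s, x⁆ * x by rw [commutatorElement_def]; group, mul_assoc, ← mul_assoc x, ← q, mul_assoc,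
    ix.sq, mul_one] at this
  rwa [sq]

theorem step (ix : Iv x) (iy : Iv y) (iz : Iv z) (hi : i ∈ I) (hj : j ∈ I) (n : i ≠ j) (hx : g * x * g⁻¹ ∈ R i)
    (hz : g * z * g⁻¹ ∈ R j) {l : ι} (hl : l ∈ I) (n' : i ≠ l) (hy : g * y * g⁻¹ ∈ R l) (eo : Eo o)
    (e1 : x * z * o * (x * z)⁻¹ = o⁻¹) (e2 : y * o * y⁻¹ = o⁻¹) : o * y * o⁻¹ ∈ 𝐂₁ x := by
  have zc := h.ne hi hj n hz
  have yc := h.ne hi hl n' hy
  have xy := mem_cent1.2 (cj_comm' (h.cmm hi hx yc)).symm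
  have xz := cj_comm' (h.cmm hi hx zc)
  have co : o ∈ 𝐂₁ (x * z * y) := mem_cent1.2 (by
    calc _ = (x * z * o * (x * z)⁻¹)⁻¹⁻¹⁻¹ * (x * z * y) := by rw [e1]; simp
      _ = x * z * (y * o * y⁻¹) * y := by rw [e2]; group
      _ = _ := by group)
  by_cases zy : z * y = y * z
  · refine h.e2' ih two h0 (t := x * z * y) ⟨ix, g, i, hi, hx, mem_of_eq (mul_mem zc yc) (by
      rw [conj_mul, ← mul_assoc x, ← mul_assoc x, ix.sq, one_mul])⟩ ?_ (cx_conj ⟨g, trivial, h.rb hl hy⟩ trivial)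
      (cmem co (mem_cent1.2 (by rw [← mul_assoc, ← mul_assoc, mem_cent1.1 xy, mul_assoc x, ← zy, ← mul_assoc])))
    calc _ = x * z * (y * x) * z * y := by group
      _ = x * (z * x) * (y * z) * y := by rw [mem_cent1.1 xy]; group
      _ = x * x * (z * z) * (y * y) := by rw [← xz, ← zy]; group
      _ = _ := by rw [ix.sq, iz.sq, iy.sq]; group
  obtain rfl : j = l := by_contra fun q => zy (cj_comm' (h.cmm hj hz (h.ne hj hl q hy)))
  have bR : g * (z * y) * g⁻¹ ∈ R j := mem_of_eq (mul_mem hz hy) (by group)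
  have t2 : x * z * y * (x * z * y) = z * y * (z * y) := by
    calc _ = x * z * (y * x) * z * y := by group
      _ = x * (z * x) * y * z * y := by rw [mem_cent1.1 xy]; group
      _ = x * x * (z * y * (z * y)) := by rw [← xz]; group
      _ = _ := by rw [ix.sq, one_mul]
  obtain ⟨w, hw, iw⟩ := exists_iv (h.e2 ⟨g, trivial, h.rb hj (mem_of_eq (mul_mem bR bR) (by group))⟩ : E2 (z * y * (z * y)))
    fun q => zy (by rw [eq_inv_of_mul_eq_one_left q, mul_inv_rev, iy.inv_eq, iz.inv_eq])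
  have wR : g * w * g⁻¹ ∈ R j := mem_cj_inv.1 (zpowers_le.2 (mem_cj_inv.2 (mem_of_eq (mul_mem bR bR) (by group))) hw)
  have yw : y ∈ 𝐂₁ w := by
    obtain ⟨k, rfl⟩ := hw
    refine mem_cent1.2 (mul_inv_eq_iff_eq_mul.1 ?_)
    beta_reduce at iw ⊢
    rw [← conj_zpow, ← iw.inv_eq, ← inv_zpow]; congr 1
    rw [mul_inv_rev, mul_inv_rev, iy.inv_eq, iz.inv_eq]
    calc _ = y * z * (y * z) * (y * y) := by group
      _ = _ := by rw [iy.sq, mul_one]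
  have ow : o ∈ 𝐂₁ w := cent1_zp hw (t2 ▸ cent1_zp (mul_mem (mem_zpowers _) (mem_zpowers _)) co)
  exact h.e3 ih two h0 ⟨g, j, hj, wR, h.ne hj hi n.symm hx⟩ iw ix (Op.cc ⟨g, j, hj, wR, hy⟩ ow) (cmem ow yw)

theorem cov (ix : Iv x) (iy : Iv y) (iz : Iv z) (hi : i ∈ I) (hj : j ∈ I) (n : i ≠ j) (hx : x ∈ R i) (hz : z ∈ R j)
    (hy : Op I R R y y) : y ∈ 𝐂₁ x ∨ y ∈ 𝐂₁ z := by
  have zc := h.ne hi hj n hz
  have xz := h.cmm hi hx zc
  have f : FP x z := ⟨ix, iz, xz, fun q => n (h.uq hi hj hx (q ▸ hz) ix.ne_one)⟩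
  obtain ⟨o, eo, e1, e2, P, p, uP, yP⟩ := dih f.iv iy
  obtain ⟨g, -, q⟩ := h.into le_top p
  have uB := q _ uP (mem_cx (mul_mem (h.rb hi hx) (h.rb hj hz)))
  have hy' : Op I R R (o⁻¹ * y * o) (o⁻¹ * y * o) := by simpa using hy.conj o⁻¹
  obtain ⟨l, hl, yl⟩ := h.wt hy' (q _ yP (h.σR hy'))
  have k1 : Cp I R c (x * z) x := ⟨ix, .mk' hi hx (f.mul_mul.symm ▸ zc)⟩
  have k2 : Cp I R c (x * z) z := ⟨iz, .mk' hj hz (f.mul_mul'.symm ▸ h.ne hj hi n.symm hx)⟩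
  have xB : g * x * g⁻¹ ∈ B ∨ g * z * g⁻¹ ∈ B := by
    obtain ⟨a, ha, e, he, ie, m⟩ := h.exCp uB (f.iv.conj g)
    obtain ⟨e, rfl⟩ : ∃ e', e = g * e' * g⁻¹ := ⟨g⁻¹ * e * g, by group⟩
    have k : Cp I R c (x * z) e := ⟨by simpa [mul_assoc] using ie.conj' g, g, a, ha, he, mem_of_eq m (by group)⟩
    have c1 := h.e2' ih two h0 k1 f.iv.sq (h.σR k.2.wt) (h.cpc k)
    have c2 := h.e2' ih two h0 k2 f.iv.sq (h.σR k.2.wt) (h.cpc k)
    have xV : x ∈ V4 x z ⊔ zpowers e := mem_sup_left (mem_sup_left (mem_zpowers x))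
    have zV : z ∈ V4 x z ⊔ zpowers e := mem_sup_left (mem_sup_right (mem_zpowers z))
    obtain ⟨w, l, hl, el, b, -, o⟩ := h.into' (P2.sup1 f.pi k.1.piElt (sup_le (zpowers_le.2 (mem_cent1_comm.1 c1))
      (zpowers_le.2 (mem_cent1_comm.1 c2)))) (mem_sup_right (mem_zpowers e)) k.2.wt k.1.ne_one
    replace o := o _ (mul_mem (mem_sup_right (mem_zpowers e)) (mul_mem xV zV)) k.2
    have r : ∀ {x z}, x ∈ V4 _ _ ⊔ zpowers e → z ∈ V4 _ _ ⊔ zpowers e → Iv x → Op I R c x z →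
        w * (e * (x * z)) * w⁻¹ ∈ c l → x = e ∨ w * x * w⁻¹ ∈ c l := fun {x z} m n ix p o => by
      obtain ⟨s, hs, xs⟩ := h.wt p.wt (b x m (h.σR p.wt))
      refine (eq_or_ne l s).imp (fun q => ?_) fun q => h.ne hl hs q xs
      subst q
      have := h.ri hl (mul_mem el xs) (mem_of_eq (mul_mem o (inv_mem ((h.op ix.ne_one hl xs (b z n (h.σc p))).2 p))) (by group))
      rw [conj_mul, conj_eq_one_iff] at this
      rw [eq_inv_of_mul_eq_one_right this, k.1.inv_eq]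
    rcases r xV zV ix (.mk' hi hx zc) o with rfl | p
    · exact .inl (h.rb ha he)
    rcases r zV xV iz (.mk' hj hz (h.ne hj hi n.symm hx)) (xz ▸ o) with rfl | p'
    · exact .inr (h.rb ha he)
    exact ((k.1.conj w).ne_one (h.ri hl el (mem_of_eq (mul_mem o (inv_mem (mul_mem p p'))) (by group)))).elim
  replace xB : g * x * g⁻¹ ∈ B ∧ g * z * g⁻¹ ∈ B := by
    rw [← conj_mul] at uB
    exact xB.elim (fun a => ⟨a, (mul_mem_cancel_left a).1 uB⟩) fun a => ⟨(mul_mem_cancel_right a).1 uB, a⟩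
  obtain ⟨a, ha, xa⟩ := h.wt k1.2.wt xB.1
  obtain ⟨b, hb, zb⟩ := h.wt k2.2.wt xB.2
  have ab : a ≠ b := fun q => (iz.conj g).ne_one (h.ri ha (q ▸ zb) ((h.op ix.ne_one ha xa xB.2).2 (.mk' hi hx zc)))
  replace e2 : o⁻¹ * y * o * o * (o⁻¹ * y * o)⁻¹ = o⁻¹ := by
    calc _ = o⁻¹ * (y * o * y⁻¹) * o := by group
      _ = _ := by rw [e2]; group
  rcases eq_or_ne a l with rfl | m
  · exact .inr (mem_of_eq (h.step ih two h0 iz (iy.conj' o) ix hb ha ab.symm zb xa hl ab.symm yl eo (xz ▸ e1) e2) (by group))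
  · exact .inl (mem_of_eq (h.step ih two h0 ix (iy.conj' o) iz ha hb ab xa zb hl m yl eo e1 e2) (by group))

omit two in
theorem pres (hg : g ∈ ncl B ⊤) (hi : i ∈ I) (hx : x ∈ R i) (m : g * x * g⁻¹ ∈ B) : g * x * g⁻¹ ∈ R i := by
  obtain ⟨j, hj, q⟩ := h.fus g trivial i hi
  refine by_contra fun z => ?_
  have n : i ≠ j := fun e => z (e ▸ (q x (h.rb hi hx) m).1 hx)
  have two : ∀ l ∈ I, ∃ j ∈ I, l ≠ j := fun l _ => (eq_or_ne l i).elim (fun e => ⟨j, hj, e ▸ n⟩) fun e => ⟨i, hi, e⟩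
  obtain ⟨t, ht, it⟩ := exists_iv (h.pi.elt (h.rb hi hx)) fun e => z (by simp [e])
  have tj : g * t * g⁻¹ ∈ R j := mem_cj_inv.1 (zpowers_le.2 (mem_cj_inv.2 ((q x (h.rb hi hx) m).1 hx)) ht)
  replace ht := zpowers_le.2 hx ht
  have l : ∀ K : Subgroup G, (∀ y, Iv y → Op I R R y y → y ∈ K) → g ∈ K := fun K k => ncl_le_iff.2 (fun a _ =>
    cj_le_iff.2 (h.gen _ fun l hl s hs e => (eq_or_ne s 1).elim (fun e => e ▸ one_mem _) fun s1 =>
      mem_cj_inv.2 (k _ ((Iv.mk' s1 e).conj a) ((Op.mk' hl hs hs).conj a)))) hg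
  have n1 := l (𝐍 (LM {y | (Iv y ∧ Op I R R y y) ∧ y ∉ 𝐂₁ t} ⊤)) fun y a b => by
    by_cases e : y ∈ 𝐂₁ t
    · exact mem_norm_of_cj_le (cj_le_iff.2 (LM_le_iff.2 fun s k _ => mem_cj_inv.2 (mem_LM ⟨⟨k.1.1.conj y, k.1.2.conj y⟩,
        fun m => k.2 (mem_of_eq (cmem' e m) (by group))⟩ trivial)))
    · exact le_norm_self _ (mem_LM ⟨⟨a, b⟩, e⟩ trivial)
  have l' : LM {y | (Iv y ∧ Op I R R y y) ∧ y ∉ 𝐂₁ t} ⊤ ≤ cj g (𝐂₁ t) := LM_le_iff.2 fun s k _ =>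
    cj_cent1 g t ▸ (h.cov ih two h0 it k.1.1 (it.conj g) hi hj n ht tj k.1.2).resolve_left k.2
  have := mem_cent1.1 (l (𝐂₁ t) fun y a b => by_contra fun e => e (conj_mem_cj.1 (l'
    (conj_mem_of_norm n1 (mem_LM ⟨⟨a, b⟩, e⟩ trivial)))))
  exact n (h.uq hi hj ht (by rwa [this, mul_inv_cancel_right] at tj) it.ne_one)

omit two in
theorem cm0 : Cm ⊤ B I R c := fun i hi => by
  have n := ncl_normal h.le
  have s := h.toSK.mono (le_ncl B ⊤) n.le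
  refine ((s.sub (h.rb hi) fun x m g hg => h.pres ih h0 hg hi m).pf (s.sub (h.cb hi) fun d m g hg q => ?_) (h.cm hi)
    fun x => h.ri hi).trans (O_le_O_of_normal n _)
  obtain ⟨x, a, -, -, b, -⟩ := h.na hi
  obtain ⟨z, hz, z1⟩ := exists_mem_ne_one ((h.pi.le (h.rb hi)).center_ne_bot (ne_bot_of_mem a b.ne_one))
  have zB : z ∈ 𝐂 B := cent_anti (h.sup hi) (le_cent_sup (zpowers_le.2 hz.2) (zpowers_le.2 (h.cm hi hz.1)) (mem_zpowers z))
  have z0 := s.le (h.rb hi hz.1)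
  have ez := h.pi.elt (h.rb hi hz.1)
  obtain ⟨U, hU, l⟩ := exists_syl_le (zpowers_le.2 (mi z0 (mem_cent1.2 (zB _ q).symm))) ez.zpowers
  obtain ⟨k, hk, l'⟩ := hU.syl_cj_le (zpowers_le.2 (mi (cmem hg z0) (cj_cent1 g d ▸ conj_mem_cj.2
    (mem_cent1.2 (h.cmm hi hz.1 m))))) (ez.conj g).zpowers
  obtain ⟨w, hw, p⟩ := h.into2 s.le le_top (sup_le (hU.le.trans inf_le_left) (zpowers_le.2 (s.le q)))
    (P2.sup1 hU.pi (h.pi.elt q) (hU.le.trans inf_le_right))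
  have e : w * k * g * d * (w * k * g)⁻¹ = w * (g * d * g⁻¹) * w⁻¹ := by
    rw [← mul_inv_cancel_right (g * d * g⁻¹) k, ← mem_cent1.1 hk.2]; group
  have zB' := h.rb hi hz.1
  exact (h.op1 z1 hi hz.1 q).2 ⟨w, i, hi, h.pres ih h0 hw hi hz.1 (p z (mem_sup_left (l (mem_zpowers z))) (mem_cx zB')),
    e ▸ (h.op z1 hi (h.pres ih h0 (mul_mem (mul_mem hw hk.1) hg) hi hz.1 (mem_of_eq (p _ (mem_sup_left (l' (conj_mem_cj.2
      (mem_zpowers _)))) (cx_conj (cx_conj (mem_cx zB') trivial) trivial)) (by group))) (e.symm ▸ p _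
        (mem_sup_right (mem_zpowers _)) (mem_cx q))).2 (.mk' hi hz.1 m)⟩
end Dc

theorem Dc.comm [Finite ι] (h : Dc X B I R c) : Cm X B I R c := by
  induction' e : I.ncard using Nat.strong_induction_on with n ih generalizing G I
  exact h.reduce fun G _ _ B R c h0 d => d.cm0 (fun j hj X B c k =>
    ih _ (e ▸ Set.ncard_diff_singleton_lt_of_mem hj) k rfl) h0

end CF.Kz
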