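-- copy of `Loc.SK7` avoiding a name clash (`Comp.syl_inf`) with `Sig.S4D`
/-
Strongly closed 2-subgroups of class two: commuting factors are not skew.
-/
import Cfsg.Agent.NCz.LocSK6
set_option autoImplicit false
set_option linter.unusedSectionVars false

namespace CF.Kz
open Subgroup Cfsg CF.BG CF.Sig CF.GW CF.Ab2 CF.SC2
open CF.Loc (ncl le_ncl ncl_le ncl_le_iff ncl_le_of_le le_normalizer_ncl cj_le_ncl ncl_mono UMax)
open CF.Cl2 (ncl_normal)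
open scoped commutatorElement

universe u
variable {G : Type u} [Group G] [Finite G]
variable {A B D E F H K L L' M M' N O P Q S T U V W X Y Z : Subgroup G} {a b c d e f g k l m n o s t u v w x y z : G}

theorem SK.foc2 (h : SK A K) (k : K ≤ A ⊔ ⁅K, K⁆) (a : A ≤ H)
    (two : ∀ x ∈ K ⊓ 𝐍 A, ∀ y ∈ K ⊓ 𝐍 A, x ∉ H → y ∉ H → x * y ∈ H) : K ⊓ 𝐍 A ≤ H := by
  have n : ∀ x ∈ K ⊓ 𝐍 A, ∀ y ∈ K ⊓ 𝐍 A, y ∈ H → x * y * x⁻¹ ∈ H := fun x hx y hy e => by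
    by_cases c : x ∈ H
    · exact cmem c e
    · exact two _ (mul_mem hx hy) _ (inv_mem hx) (fun k => c ((mul_mem_cancel_right e).1 k)) (mt inv_mem_iff.1 c)
  obtain ⟨T, hT, l⟩ := exists_syl_le h.le h.pi
  have m := le_inf hT.le (h.norm hT.pi l hT.le)
  refine le_of_syl (hT.of_le m inf_le_left) ?_ fun P lP o x hx => sq_mem_of_odd (o.elt hx) ?_
  · refine (le_inf (hT.le.trans k) le_rfl).trans ((sup_inf_left l (.inl (h.le.trans (norm_comm_left K K)))).le.trans (sup_le a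
      ((inf_comm _ _).le.trans ((foc hT l fun x hx g hg => h.mem hT.pi l hT.le hx hg).trans (sup_le a (commutator_le.2 ?_))))))
    intro x hx y hy
    by_cases c : y ∈ H
    · exact mul_mem (n x hx y hy c) (inv_mem c)
    · exact two _ (cmem hx hy) _ (inv_mem hy) (fun k => c (mem_of_eq (n _ (inv_mem hx) _ (cmem hx hy) k) (by group)))
        (mt inv_mem_iff.1 c)
  · by_cases c : x ∈ H
    · exact mul_mem c c
    · exact two x (lP hx) x (lP hx) c c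

theorem dih' (ix : x * x = 1) (iy : y * y = 1) : ∃ o ∈ zpowers (x * y), Eo o ∧ x * o * x⁻¹ = o⁻¹ ∧ y * o * y⁻¹ = o⁻¹ ∧
    ∃ P ≤ zpowers (x * y) ⊔ zpowers x, P2 P ∧ x ∈ P ∧ o⁻¹ * y * o ∈ P := by
  obtain ⟨u, v, hu, hv, e, o, q⟩ := exists_piPart {2} (x * y)
  have i : ∀ {g z : G}, g * (x * y) * g⁻¹ = (x * y)⁻¹ → z ∈ zpowers (x * y) → g * z * g⁻¹ = z⁻¹ := by
    rintro g _ k ⟨n, rfl⟩
    rw [← conj_zpow, k, inv_zpow]
  have jx := inv_eq_of_mul_eq_one_right ix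
  have jy := inv_eq_of_mul_eq_one_right iy
  have hx : x * (x * y) * x⁻¹ = (x * y)⁻¹ := by rw [← mul_assoc, ix, one_mul, mul_inv_rev, jy]
  have hy : y * (x * y) * y⁻¹ = (x * y)⁻¹ := by rw [← mul_assoc, mul_inv_cancel_right, mul_inv_rev, jy, jx]
  obtain ⟨k, hk⟩ := eo_iff.2 o
  have m := pow_mem hv k
  refine ⟨v ^ k, m, o.pow k, i hx m, i hy m, zpowers u ⊔ zpowers x, sup_le_sup_right (zpowers_le.2 hu) _,
    e.zpowers.sup (piElt_of_pow_eq_one p2 ((pow_two x).trans ix)).zpowers (.inr (zpowers_le.2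
    (mem_norm_of_cj_le (by rw [cj_zpowers, i hx hu]; exact zpowers_le.2 (inv_mem (mem_zpowers u)))))),
    mem_sup_right (mem_zpowers x), mem_of_eq (mul_mem (inv_mem (mem_sup_right (mem_zpowers x)))
      (mem_sup_left (mem_zpowers u))) ?_⟩
  calc _ = y * (v ^ k * v ^ k * v) * v⁻¹ := by rw [← i hy m]; group
    _ = _ := by rw [← pow_add, ← two_mul, ← pow_succ, ← hk, pow_orderOf_eq_one, mul_one,
      eq_inv_mul_iff_mul_eq, ← mul_assoc, ← q, mul_inv_cancel_right]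

theorem dihm (n : N ⊴ X) (hx : x ∈ X) (hy : y ∈ X) (ix : x * x ∈ N) (iy : y * y ∈ N) (ex : E2 x) (ey : E2 y) :
    ∃ o ∈ X, Eo o ∧ ∃ c ∈ N, x * o * x⁻¹ * o ∈ N ∧ c * o⁻¹ * y * (c * o⁻¹)⁻¹ * o * (c * o⁻¹ * y * (c * o⁻¹)⁻¹)⁻¹ * o ∈ N ∧
      ∃ P ≤ X, P2 P ∧ x ∈ P ∧ c * o⁻¹ * y * (c * o⁻¹)⁻¹ ∈ P := by
  have nx := n.norm hx
  have ny := n.norm hy
  obtain ⟨_, m, eo', e1, e2, P, lP, k, xP, yP⟩ := dih' (x := qe N x) (y := qe N y) (qe_mul nx nx ▸ qe_of_mem ix)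
    (qe_mul ny ny ▸ qe_of_mem iy)
  have l1 : zpowers (qe N x * qe N y) ≤ qt N X := zpowers_le.2 (mul_mem (qe_mem_qt hx nx) (qe_mem_qt hy ny))
  obtain ⟨o, ho, -, eo, rfl⟩ := GW.exists_pi_lift (l1 m) eo'
  have no := n.norm ho
  have l := qp_le_of_le_qt n (lP.trans (sup_le l1 (zpowers_le.2 (qe_mem_qt hx nx))))
  obtain ⟨T, hT, lT⟩ := exists_syl_le (zpowers_le.2 (mem_qp.2 ⟨nx, xP⟩)) ex.zpowers
  have y1 := cmem' no ny
  obtain ⟨g, hg, e⟩ := hT.syl_cj_le (zpowers_le.2 (mem_qp.2 ⟨y1, by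
    rwa [qe_mul (mul_mem (inv_mem no) ny) no, qe_mul (inv_mem no) ny, qe_inv no]⟩)) (by simpa using (ey.conj o⁻¹).zpowers)
  have := (hT.qt (qp_le_norm P)).eq_of_pi (by rwa [qt_qp])
  obtain ⟨t, ht, c, hc, rfl⟩ := (mem_sup_norm (hT.le.trans (qp_le_norm P))).1 (sup_comm N T ▸
    (qt_le_qt_iff (qp_le_norm P) (hT.le.trans (qp_le_norm P))).1 this.ge hg)
  have nc := mul_mem (le_norm_self N hc) (inv_mem no)
  have y2 := cmem nc ny
  refine ⟨o, ho, eo, c, hc, (qe_eq_one (mul_mem (cmem nx no) no)).1 ?_, (qe_eq_one (mul_mem (cmem y2 no) no)).1 ?_, T,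
    hT.le.trans l, hT.pi, lT (mem_zpowers x), mem_of_eq (cmem' ht (e (conj_mem_cj.2 (mem_zpowers _)))) (by group)⟩
  · rw [qe_mul (cmem nx no) no, qe_conj nx no, e1, inv_mul_cancel]
  · rw [qe_mul (cmem y2 no) no, qe_conj y2 no, qe_conj nc ny, qe_mul (le_norm_self N hc) (inv_mem no), qe_of_mem hc, qe_inv no]
    calc _ = (qe N o)⁻¹ * (qe N y * qe N o * (qe N y)⁻¹) * qe N o * qe N o := by group
      _ = _ := by rw [e2]; group

theorem NT.sqA (h : NT A M L) (ha : a ∈ A) : a * a ∈ Qc A L :=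
  let ⟨y, hy, ny⟩ := h.exY h.nt
  by_contra fun k => ny (h.n1 (mul_mem ha ha) k (VY hy) (cm1' (by rw [← h.sq (h.VA hy) ha, h.eaY (VY hy)]; simp)))

theorem Lc.perf (h : Lc A M L) : L ≤ A ⊔ ⁅L, L⁆ :=
  h.gen0 ((norm_of_der_le (sup_le h.aL (der_le L)) le_sup_right)) le_sup_left

/-- two commuting factors -/
structure Sk (A M L M' L' : Subgroup G) : Prop where
  l : NT A M L
  r : NT A M' L'
  lq : Yc A L ≤ Qc A L'
  rq : Yc A L' ≤ Qc A L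
  sup : A ≤ Qc A L ⊔ Qc A L'

namespace Sk
variable (h : Sk A M L M' L')
include h

theorem symm : Sk A M' L' M L := ⟨h.r, h.l, h.rq, h.lq, sup_comm (Qc A L) _ ▸ h.sup⟩
theorem WQ : Yc A L ⊔ Yc A L' ≤ Qc A L := sup_le h.l.YQ h.rq
theorem WA : Yc A L ⊔ Yc A L' ≤ A := h.WQ.trans Qc_le
theorem nW1 : L ≤ 𝐍 (Yc A L ⊔ Yc A L') := norm_of_comm_le ((commutator_mono h.WQ le_rfl).trans (h.l.QL.trans le_sup_left))
theorem nW : L ⊔ L' ≤ 𝐍 (Yc A L ⊔ Yc A L') := sup_le h.nW1 (sup_comm (Yc A L') _ ▸ h.symm.nW1)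
theorem cW (a : c ∈ Qc A L) (b : c ∈ Qc A L') : c ∈ 𝐂 (Yc A L ⊔ Yc A L') := (cent_sup _ _).ge (mi (h.l.cQ a) (h.r.cQ b))
theorem dec (ha : a ∈ A) : ∃ p ∈ Qc A L, ∃ q ∈ Qc A L', p * q = a :=
  (mem_sup_norm (Qc_le.trans (h.r.aL.trans nQc))).1 (h.sup ha)
theorem exQ : ∃ b ∈ Qc A L, b ∉ Qc A L' := SetLike.not_le_iff_exists.1 fun e => h.r.nQ (h.sup.trans (sup_le e le_rfl))

theorem nY : ¬ Yc A L ≤ Yc A L' := fun e => by
  obtain ⟨y, hy, ny⟩ := h.l.exY h.l.nt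
  exact ny (mi (h.l.VA hy) (cent_anti h.sup ((cent_sup _ _).ge (mi (cent_symm h.l.cQ (VY hy)) (cent_symm h.r.cQ (e (VY hy)))))))

theorem c1 (ha : a ∈ A) (na : a ∉ Qc A L) : (Yc A L ⊔ Yc A L') ⊓ 𝐂₁ a ≤ Yc A L' := fun w hw => by
  obtain ⟨y, hy, v, hv, rfl⟩ := (mem_sup_norm (h.l.YA.trans (h.r.aL.trans nYc))).1 hw.1
  obtain ⟨p, hp, q, hq, rfl⟩ := h.dec ha
  have := h.l.bl (h.l.YA hy) (h.r.YA hv) ha
  rw [cm1 (mem_cent1.1 hw.2), h.l.br (h.r.YA hv) (Qc_le hp) (Qc_le hq), cm1 (h.r.cy hv hq), mul_one] at this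
  exact mul_mem (ZY (h.l.n2 ha na hy (mem_of_eq (inv_mem (h.l.QQ (h.rq hv) hp)) (eq_inv_of_mul_eq_one_left this.symm)))) hv

theorem cen (ha : a ∈ Qc A L') (na : a ∉ Qc A L) : (Yc A L ⊔ Yc A L') ⊓ 𝐂₁ a = Yc A L' :=
  le_antisymm (h.c1 (Qc_le ha) na) (le_inf le_sup_right (le_cent1_iff.2 (h.r.cQ ha)))

theorem mv (hk : k ∈ L ⊔ L') (ha : a ∈ Qc A L') (na : a ∉ Qc A L) (e : k * a * k⁻¹ ∈ A) :
    (k * a * k⁻¹ ∈ Qc A L' ∧ cj k (Yc A L') = Yc A L') ∨ cj k (Yc A L') = Yc A L := by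
  have q := congrArg (cj k) (h.cen ha na)
  rw [cj_inf, cj_of_norm (h.nW hk), cj_cent1] at q
  have s := fun (e : k * a * k⁻¹ ∉ Qc A L') => h.symm.c1 ‹_› e
  rw [sup_comm, q] at s
  by_cases c : k * a * k⁻¹ ∈ Qc A L'
  · refine .inl ⟨c, q ▸ h.cen c fun c' => h.nY ((le_sup_left (b := Yc A L')).trans ?_)⟩
    rw [inf_eq_left.2 (le_cent1_iff.2 (h.cW c' c))] at q
    exact cj_le_cj.1 ((cj_of_norm (h.nW hk)).trans q).le
  by_cases c' : k * a * k⁻¹ ∈ Qc A L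
  · exact .inr (q ▸ sup_comm (Yc A L') _ ▸ h.symm.cen c' c)
  · exact (h.symm.nY (cj_of_norm (mem_norm_of_cj_le (q ▸ h.c1 e c')) ▸ s c)).elim

theorem mvN (hk : k ∈ (L ⊔ L') ⊓ 𝐍 A) : cj k (Yc A L') = Yc A L' ∨ cj k (Yc A L') = Yc A L :=
  let ⟨_, a, b⟩ := h.symm.exQ
  (h.mv hk.1 a b (conj_mem_of_norm hk.2 (Qc_le a))).imp_left And.right

theorem nc (hk : k ∈ L ⊔ L') : cj k (Yc A L') ≠ Yc A L := fun e => by
  have aK := h.l.aL.trans (le_sup_left : L ≤ L ⊔ L')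
  have s := h.l.mono aK le_top
  obtain ⟨y, hy, n⟩ := s.conj (Y := (L ⊔ L') ⊓ 𝐍 (Yc A L)) inf_le_left (le_inf aK (h.l.aL.trans nYc)) hk
    (le_inf (cj_le_of_mem hk aK) (by rw [← e, ← cj_norm]; exact cj_mono k (h.r.aL.trans nYc)))
  have := s.foc2 (H := 𝐍 (Yc A L')) (sup_le (h.l.perf.trans (sup_le_sup_left (der_mono le_sup_left) A))
    (h.r.perf.trans (sup_le_sup_left (der_mono le_sup_right) A))) (h.r.aL.trans nYc) (fun x hx y hy nx ny => cj_eq_self.1 (by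
      have e := (h.mvN hx).resolve_left (mt cj_eq_self.1 nx)
      rw [← cj_cj, (h.mvN hy).resolve_left (mt cj_eq_self.1 ny)]
      exact (h.symm.mvN (sup_comm L L' ▸ hx)).resolve_left fun k => h.nY (cj_le_cj.1 (k.trans e.symm).le)))
    (mi (mul_mem (inv_mem hy.1) hk) n)
  rw [← cj_eq_self, ← cj_cj, e, cj_of_norm (inv_mem hy.2)] at this
  exact h.nY this.le

theorem st (hk : k ∈ L ⊔ L') (ha : a ∈ Qc A L') (e : k * a * k⁻¹ ∈ A) : k * a * k⁻¹ ∈ Qc A L' := by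
  by_cases c : a ∈ Qc A L
  · exact h.r.cYQ e (cent_anti le_sup_right (conj_mem_of_norm (norm_cent h.nW hk) (h.cW c ha)))
  · exact ((h.mv hk ha c e).resolve_right (h.nc hk)).1

theorem odd (hb : b ∈ Qc A L) (nb : b ∉ Qc A L') (hy : y ∈ Qc A L') (ny : y ∉ Qc A L) (ho : o ∈ L ⊔ L') (eo : Eo o)
    (e1 : b * o * b⁻¹ * o ∈ 𝐂 (Yc A L ⊔ Yc A L')) (e2 : y * o * y⁻¹ * o ∈ 𝐂 (Yc A L ⊔ Yc A L')) :
    o ∈ 𝐂 (Yc A L ⊔ Yc A L') := by
  have tA := mul_mem (Qc_le hb) (Qc_le hy)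
  have lD := h.symm.c1 tA fun e => nb ((mul_mem_cancel_right hy).1 e)
  have WA := h.WA
  have nb := h.nW (mem_sup_left (h.l.aL (Qc_le hb)))
  have no := h.nW ho
  have zW := ZY.trans (le_sup_left : Yc A L ≤ Yc A L ⊔ Yc A L')
  rw [sup_comm] at lD
  generalize Yc A L ⊔ Yc A L' = W at *
  have cD : b ∈ 𝐂 (W ⊓ 𝐂₁ (b * y)) := cent_anti lD (h.l.cQ hb)
  have nD : o ∈ 𝐍 (W ⊓ 𝐂₁ (b * y)) := mem_norm_of fun w hw => ⟨conj_mem_of_norm no hw.1, mem_cent1.2 (by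
    have k : o⁻¹ * (b * y) * o * (b * y)⁻¹ ∈ 𝐂 W := mem_of_eq (mul_mem (conj_mem_of_norm' (norm_le_norm_cent W no)
      (conj_mem_of_norm (norm_le_norm_cent W nb) e2)) (inv_mem e1)) (by group)
    calc _ = o * (w * (o⁻¹ * (b * y) * o * (b * y)⁻¹) * (b * y)) * o⁻¹ := by group
      _ = _ := by rw [k w hw.1, mul_assoc _ w, mem_cent1.1 hw.2]; group)⟩
  have zD : ⁅W, zpowers b⁆ ≤ W ⊓ 𝐂₁ (b * y) :=
    (commutator_mono WA (zpowers_le.2 (Qc_le hb))).trans (h.l.der.trans (le_inf zW (inf_le_right.trans (cent_le_cent1 tA))))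
  have bJ : b ∈ 𝐂 (W ⊓ 𝐂₁ (b * y)) ⊓ centMod W (W ⊓ 𝐂₁ (b * y)) :=
    mi cD (le_centMod.2 ⟨zpowers_le.2 (cent_le_norm _ cD), (commutator_comm _ _).le.trans zD⟩ (mem_zpowers b))
  have NJ : 𝐂 W ≤ 𝐂 (W ⊓ 𝐂₁ (b * y)) ⊓ centMod W (W ⊓ 𝐂₁ (b * y)) := le_inf (cent_anti inf_le_left)
    (le_centMod.2 ⟨norm_of_cent (cent_anti inf_le_left), (comm_eq_bot.2 le_rfl).le.trans bot_le⟩)
  have nJ := norm_inf (norm_cent (zpowers_le.2 nD)) (norm_centMod (zpowers_le.2 no) (zpowers_le.2 nD)) (mem_zpowers o)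
  have oJ := zpowers_le.2 (sq_mem_of_odd eo (mem_of_eq (mul_mem (mul_mem (conj_mem_of_norm nJ bJ) (inv_mem bJ)) (NJ e1)) (by group)))
  exact cent_of_stable (cop2' eo.zpowers (h.l.pi.le (inf_le_left.trans WA)))
    ((commutator_comm _ _).le.trans (le_centMod.1 (oJ.trans inf_le_right)).2) (oJ.trans inf_le_left) (mem_zpowers o)

theorem key (hg : g ∈ L ⊔ L') (hy : y ∈ Qc A L') (hb : b ∈ Qc A L) (hw : w ∈ Yc A L ⊔ Yc A L') : ⁅b, w⁆ ∈ 𝐂₁ (g * y * g⁻¹) := by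
  have aK := h.l.aL.trans (le_sup_left : L ≤ L ⊔ L')
  have nN := norm_cent h.nW
  have bK := aK (Qc_le hb)
  have uW : ⁅b, w⁆ ∈ Yc A L ⊔ Yc A L' := mul_mem (conj_mem_of_norm (h.nW bK) hw) (inv_mem hw)
  by_cases nb : b ∈ Qc A L'
  · rw [cm1 (h.cW hb nb w hw).symm]; exact one_mem _
  by_cases ny : y ∈ Qc A L
  · exact mem_cent1.2 (conj_mem_of_norm (nN hg) (h.cW ny hy) _ uW)
  have yK := cmem hg (aK (Qc_le hy))
  obtain ⟨o, ho, eo, c, hc, e1, e2, P, lP, k, bP, yP⟩ := dihm (normalIn_inf_left nN) bK yK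
    (mi (mul_mem bK bK) (h.cW (mul_mem hb hb) (h.r.sqA (Qc_le hb)))) (mi (mul_mem yK yK) (mem_of_eq (conj_mem_of_norm (nN hg)
      (h.cW (h.l.sqA (Qc_le hy)) (mul_mem hy hy))) (by group))) (h.l.pi.elt (Qc_le hb)) ((h.l.pi.elt (Qc_le hy)).conj g)
  obtain ⟨m, hm, e⟩ := h.l.into2 aK le_top lP k
  have b1 := e b bP (mem_cx (Qc_le hb))
  have y1 := e _ yP (cx_conj (cx_conj (mem_cx (Qc_le hy)) trivial) trivial)
  have jK := mul_mem hm (mul_mem (mul_mem hc.1 (inv_mem ho)) hg)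
  have q : m * (c * o⁻¹ * (g * y * g⁻¹) * (c * o⁻¹)⁻¹) * m⁻¹ = m * (c * o⁻¹ * g) * y * (m * (c * o⁻¹ * g))⁻¹ := by group
  have := h.odd (h.symm.st (sup_comm L L' ▸ hm) hb b1) (fun k => nb (mem_of_eq (h.st (inv_mem hm) k
    (mem_of_eq (Qc_le hb) (by group))) (by group))) (h.st jK hy (q ▸ y1)) (fun k => ny (mem_of_eq
      (h.symm.st (sup_comm L L' ▸ inv_mem jK) k (mem_of_eq (Qc_le hy) (by group))) (by group))) (cmem hm ho) (eo.conj m)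
    (mem_of_eq (conj_mem_of_norm (nN hm) e1.2) (by group)) (mem_of_eq (conj_mem_of_norm (nN hm) e2.2) (by group))
  have j := mul_mem (mi2 hc) (inv_mem (mem_of_eq (conj_mem_of_norm' (nN hm) this) (show o = _ by group))) _ uW
  have := (h.l.cm b1 (h.WA (conj_mem_of_norm (h.nW hm) hw))).2 _ y1
  rw [← conjugate_commutatorElement] at this
  replace this := cj_comm' this
  generalize c * o⁻¹ = n at *
  refine mem_cent1.2 (cj_comm' (g := n) ?_)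
  rw [← j, mul_inv_cancel_right, this]

theorem cV : Vc A L' ≤ 𝐂 (ncl (Qc A L') (L ⊔ L')) := by
  have n := le_sup_right.trans (norm_inf_cent h.nW (le_normalizer_ncl (Qc A L') (L ⊔ L')))
  refine (commutator_comm _ _).le.trans ((le_centMod.1 (h.r.gen0 (norm_centMod nYc n) (h.sup.trans (sup_le
    (le_centMod.2 ⟨Qc_le.trans (h.r.aL.trans n), commutator_le.2 fun b hb w hw => ?_⟩) (le_centMod.2 ⟨Qc_le.trans (h.r.aL.trans n),
      (comm_eq_bot.2 h.r.cQ).le.trans bot_le⟩))))).2.trans inf_le_right)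
  exact mi (mem_sup_left (ZY (h.l.cm (Qc_le hb) (h.r.YA hw)))) (le_cent1_iff.1 (ncl_le_iff.2 fun g hg => cj_le_of fun y hy =>
    mem_cent1_comm.1 (h.key hg hy hb (mem_sup_right hw))))

end Sk
end CF.Kz
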