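-- copy of `Loc.SK8` avoiding a name clash (`Comp.syl_inf`) with `Sig.S4D`
/-
Strongly closed 2-subgroups of class two in simple groups: there is one pair of partners.
-/
import Cfsg.Agent.NCz.LocSK7
set_option autoImplicit false
set_option linter.unusedSectionVars false

namespace CF.Kz
open Subgroup Cfsg CF.BG CF.Sig CF.GW CF.Ab2 CF.SC2
open CF.Loc (ncl le_ncl ncl_le ncl_le_iff ncl_le_of_le le_normalizer_ncl cj_le_ncl ncl_mono UMax)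
open CF.Cl2 (ncl_normal)
open scoped commutatorElement

universe u
variable {G : Type u} [Group G] [Finite G] {p q : Subgroup G → Prop}
variable {A B D E F H K L L' M M' L₃ M₃ L₄ M₄ N O P Q S T U V W X Y Z : Subgroup G} {a b c d e f g k l m n o s t u v w x y z : G}

def Vs (A : Subgroup G) (p : Subgroup G → Prop) : Subgroup G := sSup {V | ∃ M L, NT A M L ∧ p (Yc A L) ∧ Vc A L = V}

theorem le_Vs (h : NT A M L) (k : p (Yc A L)) : Vc A L ≤ Vs A p := le_sSup ⟨M, L, h, k, rfl⟩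
theorem Vs_le (k : ∀ M L, NT A M L → p (Yc A L) → Vc A L ≤ K) : Vs A p ≤ K :=
  sSup_le (by rintro _ ⟨M, L, a, b, rfl⟩; exact k M L a b)
theorem Vs_A : Vs A p ≤ A := Vs_le fun _ _ h _ => h.VA
theorem Vs_mono (k : ∀ M L, NT A M L → p (Yc A L) → q (Yc A L)) : Vs A p ≤ Vs A q := Vs_le fun M L a b => le_Vs a (k M L a b)
theorem Vs_cent (k : ∀ M L M' L', NT A M L → NT A M' L' → p (Yc A L) → q (Yc A L') → Yc A L ≤ 𝐂 (Yc A L')) :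
    Vs A p ≤ 𝐂 (Vs A q) :=
  Vs_le fun _ _ a b => cent_symm (Vs_le fun _ _ c d => cent_symm (cent_mono (k _ _ _ _ a c b d) VY VY))
theorem nVs : A ≤ 𝐍 (Vs A p) := norm_sSup (by rintro _ ⟨M, L, a, -, rfl⟩; exact a.aL.trans nVc)
theorem cj_Vs (hn : n ∈ 𝐍 A) (k : ∀ Y, p Y → q (cj n Y)) : cj n (Vs A p) ≤ Vs A q :=
  cj_le_iff.2 (Vs_le fun _ _ a b => cj_le_iff.1 ((cj_Vc hn).le.trans (le_Vs (a.cj hn) (by rw [← cj_Yc hn]; exact k _ b))))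
theorem cj_Vs' (hn : n ∈ 𝐍 A) (k : ∀ Y, p Y ↔ q (cj n Y)) : cj n (Vs A p) = Vs A q :=
  le_antisymm (cj_Vs hn fun Y => (k Y).1) (le_cj_iff.2 (cj_Vs (inv_mem hn) fun Y e => (k _).2 (by rwa [cj_cj_inv])))

attribute [irreducible] Vs

namespace Pt
variable (h : Pt A M L M' L')
include h

theorem sk (k : NT A M₃ L₃) (a : Yc A L₃ ≠ Yc A L) (b : Yc A L₃ ≠ Yc A L') : Sk A M₃ L₃ M L ∧ Yc A L' ≤ Qc A L₃ :=
  have c := h.tri k a b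
  have e : Yc A L' ≤ Qc A L₃ := fun _ hy => k.cYQ (h.r.YA hy) (cent_symm c (mem_sup_right hy))
  ⟨⟨k, h.l, fun _ hy => h.l.cYQ (k.YA hy) (cent_anti le_sup_left (c hy)), fun _ hy => k.cYQ (h.l.YA hy) (cent_symm c (mem_sup_left hy)),
    h.symm.sup.trans (sup_le_sup_right e _)⟩, e⟩

theorem nU (k : ∀ Y, p Y → Y ≠ Yc A L ∧ Y ≠ Yc A L') : L ≤ 𝐍 (Vs A p) := by
  obtain ⟨g, hg, ng⟩ := h.l.ex
  obtain ⟨y, hy, ny⟩ := SetLike.not_le_iff_exists.1 h.symm.n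
  refine h.l.gen hg ng (h.r.YA hy) (fun e => ny (h.l.cQ e)) nVs (cent_le_norm _ (le_cent1_iff.1 (Vs_le fun M₃ L₃ a b => ?_)))
  obtain ⟨s, e⟩ := h.sk a (k _ b).1 (k _ b).2
  exact s.symm.cV.trans (cent_le_cent1 (cj_le_ncl (mem_sup_left hg) (conj_mem_cj.2 (e hy))))

theorem eq_of (k : Pt A M₃ L₃ M₄ L₄) (l : Yc A L₃ ≤ Yc A L ⊔ Yc A L') : Yc A L₃ ⊔ Yc A L₄ = Yc A L ⊔ Yc A L' := by
  rcases h.eq_or k.l l with e | e
  · rw [e, h.uq ⟨h.l, k.r, e ▸ k.n⟩]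
  · rw [e, h.symm.uq ⟨h.r, k.r, e ▸ k.n⟩, sup_comm]

theorem lR : Vc A L ≤ Vs A (· ≤ Yc A L ⊔ Yc A L') := le_Vs (p := (· ≤ Yc A L ⊔ Yc A L')) h.l le_sup_left

theorem nc (hx : x ∈ Yc A L) (nx : x ∉ 𝐙 A) (hy : y ∈ Yc A L') (ny : y ∉ 𝐙 A) : x * y ≠ y * x := fun e =>
  nx (h.l.n1 (h.r.YA hy) (fun k => ny (h.symm.inf hy k)) hx e)

end Pt

theorem Lc.nVs (h : Lc A M L) (k : NT A M L → p (Yc A L) ∨ ∃ M' L', Pt A M L M' L' ∧ ∀ Y, p Y → Y ≠ Yc A L ∧ Y ≠ Yc A L') :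
    L ≤ 𝐍 (Vs A p ⊓ Qc A L) := by
  by_cases c : L ≤ 𝐂 (𝐙 A)
  · exact h.nF Kz.nVs ((h.triv c).le.trans bot_le)
  rcases k ⟨h, c⟩ with e | ⟨M', L', e, k⟩
  · exact h.nF Kz.nVs (le_Vs ⟨h, c⟩ e)
  · exact norm_inf (e.nU k) nQc

theorem NT.pt (h : NT A M L) : ∃ M' L', Pt A M L M' L' := by
  have := h.nsc (Vs A fun Y => ∀ M L, NT A M L → Y ≤ 𝐂 (Yc A L)) (Vs_cent fun _ _ _ _ _ b c _ => c _ _ b)
    (h.scF Vs_A (le_norm_of_cj_le fun n hn => cj_Vs hn fun Y e M L k => ?_) fun M L k => k.nVs fun k => ?_)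
  · by_contra! k
    obtain ⟨y, hy, ny⟩ := h.exY h.nt
    exact ny (eq_one_of_mem_bot this (le_Vs h (fun M' L' e => by_contra fun c => k M' L' ⟨h, e, c⟩) hy) ▸ one_mem _)
  · have := e _ _ (k.cj (inv_mem hn))
    rwa [← cj_Yc (inv_mem hn), ← cj_cent, ← cj_le_iff] at this
  · refine or_iff_not_imp_left.2 fun c => ?_
    push Not at c
    obtain ⟨M', L', a, b⟩ := c
    exact ⟨M', L', ⟨k, a, b⟩, fun Y e => ⟨fun c => b (c ▸ e _ _ a), fun c => b (cent_symm (c ▸ e _ _ k))⟩⟩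

theorem Lc.nR (h : Lc A M₃ L₃) (k : Pt A M L M' L') : L₃ ≤ 𝐍 (Vs A (· ≤ Yc A L ⊔ Yc A L') ⊓ Qc A L₃) := h.nVs fun h =>
  let ⟨_, _, e⟩ := h.pt
  or_iff_not_imp_left.2 fun c => ⟨_, _, e, fun _ l => ⟨fun j => c (j ▸ l), fun j => c (le_sup_right.trans (k.eq_of e.symm (j ▸ l)).le)⟩⟩

theorem Lc.nC (h : Lc A M₃ L₃) (k : Pt A M L M' L') : L₃ ≤ 𝐍 (Vs A (¬ · ≤ Yc A L ⊔ Yc A L') ⊓ Qc A L₃) := h.nVs fun h =>
  let ⟨_, _, e⟩ := h.pt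
  or_iff_not_imp_left.2 fun c => ⟨_, _, e, fun _ l => ⟨fun j => c (j ▸ l), fun j => l (j ▸ le_sup_right.trans (k.eq_of e (not_not.1 c)).le)⟩⟩

/-- the joins of partners -/
def Is (A : Subgroup G) : Set (Subgroup G) := {F | ∃ M L M' L', Pt A M L M' L' ∧ Yc A L ⊔ Yc A L' = F}

theorem Hy.dc (h : Hy A) : Dc ⊤ (Vs A fun _ => True) (Is A)
    (fun F => Vs A (· ≤ F)) fun F => Vs A (¬ · ≤ F) := by
  have nB : 𝐍 A ≤ 𝐍 (Vs A fun _ => True) := le_norm_of_cj_le fun n hn => cj_Vs hn fun _ _ => trivial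
  have lB := fun M L (k : Lc A M L) => k.nVs (p := fun _ => True) fun _ => .inl trivial
  have nI : ∀ n ∈ 𝐍 A, ∀ F ∈ Is A,
      cj n F ∈ Is A := by
    rintro n hn _ ⟨M, L, M', L', k, rfl⟩
    exact ⟨_, _, _, _, k.cj hn, by rw [cj_sup, cj_Yc hn, cj_Yc hn]⟩
  have eR : ∀ n ∈ 𝐍 A, ∀ F, cj n (Vs A (· ≤ F)) = Vs A (· ≤ cj n F) := fun n hn F => cj_Vs' hn fun _ => cj_le_cj.symm
  have eC : ∀ n ∈ 𝐍 A, ∀ F, cj n (Vs A (¬ · ≤ F)) = Vs A (¬ · ≤ cj n F) := fun n hn F => cj_Vs' hn fun _ => cj_le_cj.symm.not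
  have cm : ∀ {M L M' L'}, Pt A M L M' L' → Vs A (· ≤ Yc A L ⊔ Yc A L') ≤ 𝐂 (Vs A (¬ · ≤ Yc A L ⊔ Yc A L')) := fun k =>
    Vs_cent fun _ _ _ _ _ b c d => cent_symm ((k.tri b (fun e => d (e ▸ le_sup_left)) fun e => d (e ▸ le_sup_right)).trans (cent_anti c))
  refine ⟨h.scF Vs_A nB lB, fun _ => Vs_mono fun _ _ _ _ => trivial, fun _ => Vs_mono fun _ _ _ _ => trivial,
    fun {F} _ => Vs_le fun M L a _ => (em (Yc A L ≤ F)).elim (fun e => (le_Vs a e).trans le_sup_left)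
      fun e => (le_Vs a e).trans le_sup_right, ?_, ?_, fun d hd k => ?_, ?_, fun K k => Vs_le fun M L a _ x hx => ?_, fun g _ i hi => ?_⟩
  · rintro _ ⟨M, L, M', L', k, rfl⟩; exact cm k
  · rintro _ _ ⟨M, L, M', L', k, rfl⟩ ⟨M₃, L₃, M₄, L₄, k', rfl⟩ n
    exact Vs_mono fun _ _ a b c => let ⟨_, _, e⟩ := a.pt; n ((k.eq_of e c).symm.trans (k'.eq_of e b))
  · let D := Vs A (fun _ => True) ⊓ ⨅ F ∈ Is A, Vs A (¬ · ≤ F)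
    have m : ∀ {x}, x ∈ D ↔ x ∈ Vs A (fun _ => True) ∧ ∀ F ∈ Is A,
      x ∈ Vs A (¬ · ≤ F) := by simp only [D, mem_inf, mem_iInf, implies_true]
    refine eq_one_of_mem_bot (h.nsc D (inf_le_left.trans (Vs_le fun M L a _ => ?_)) (h.scF (inf_le_left.trans Vs_A)
      (le_norm_iff.2 fun n hn x hx => m.2 ⟨conj_mem_of_norm (nB hn) hx.1, fun F hF => ?_⟩) fun M L a =>
        le_norm_iff.2 fun l hl x hx => mi (m.2 ⟨(conj_mem_of_norm (lB M L a hl) (mi hx.1.1 hx.2)).1, ?_⟩)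
          (conj_mem_of_norm (nQc hl) hx.2))) (m.2 ⟨hd, k⟩)
    · obtain ⟨M', L', e⟩ := a.pt
      exact e.lR.trans ((cm e).trans (cent_anti fun x hx => (m.1 hx).2 _ ⟨_, _, _, _, e, rfl⟩))
    · exact mem_cj_inv.1 ((eC _ (inv_mem hn) F).ge ((m.1 hx).2 (cj n⁻¹ F) (nI _ (inv_mem hn) F hF)))
    · rintro _ ⟨M₃, L₃, M₄, L₄, e, rfl⟩
      exact (conj_mem_of_norm (a.nC e hl) (mi ((m.1 hx.1).2 _ ⟨_, _, _, _, e, rfl⟩) hx.2)).1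
  · rintro _ ⟨M, L, M', L', k, rfl⟩
    obtain ⟨x, hx, nx⟩ := k.l.exY k.l.nt
    obtain ⟨y, hy, ny⟩ := k.r.exY k.r.nt
    exact ⟨x, k.lR hx, y, (sup_comm (Yc A L') _ ▸ k.symm.lR :) hy, .mk' (fun e => nx (e ▸ one_mem _)) (k.l.eaY (VY hx)),
      .mk' (fun e => ny (e ▸ one_mem _)) (k.r.eaY (VY hy)), k.nc (VY hx) nx (VY hy) ny⟩
  · obtain ⟨M', L', e⟩ := a.pt
    exact k _ ⟨_, _, _, _, e, rfl⟩ x (e.lR hx) (a.eaY (VY hx))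
  obtain ⟨n, hn, e⟩ := h.fl' (𝓕 := {W | ∃ F ∈ Is A,
    W = Vs A (· ≤ F) ∨ W = Vs A (¬ · ≤ F)}) (fun n hn W ⟨F, a, b⟩ => ⟨_, nI n hn F a, b.imp (fun e => (congrArg _ e).trans (eR n hn F))
      fun e => (congrArg _ e).trans (eC n hn F)⟩) (by
      rintro M L a _ ⟨_, ⟨M₃, L₃, M₄, L₄, e, rfl⟩, rfl | rfl⟩
      exacts [a.nR e, a.nC e]) g
  refine ⟨_, nI n hn i hi, fun d hd k => ?_⟩
  have := fun W a => (e W a d (mi (Vs_A hd) (mem_cj_inv.2 (Vs_A k)))).2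
  exact ⟨fun a => this _ ⟨_, nI n hn i hi, .inl rfl⟩ ((eR n hn i).le (conj_mem_cj.2 a)),
    fun a => this _ ⟨_, nI n hn i hi, .inr rfl⟩ ((eC n hn i).le (conj_mem_cj.2 a))⟩

theorem Hy.ns [IsSimpleGroup G] (h : Hy A) : NS (⊤ : Subgroup G) :=
  ns_top fun k => h.ne (h.nsc A (abel_of_forall fun x _ y _ => k.is_comm.comm x y) h.toSK)

theorem ncl_top (h : NS (⊤ : Subgroup G)) (hx : x ∈ D) (n : x ≠ 1) : ncl D ⊤ = ⊤ :=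
  (h.eq_or _ (ncl_normal le_top)).resolve_left fun e => n (eq_one_of_mem_bot e (le_ncl _ _ hx))

theorem Pt.two [IsSimpleGroup G] (h : Pt A M L M' L') (k : NT A M₃ L₃) : Yc A L₃ = Yc A L ∨ Yc A L₃ = Yc A L' := by
  refine h.eq_or k (by_contra fun c => ?_)
  obtain ⟨x, hx, nx⟩ := h.l.exY h.l.nt
  obtain ⟨y, hy, ny⟩ := k.exY k.nt
  have ns := h.l.ns
  have := h.l.dc.comm _ ⟨_, _, _, _, h, rfl⟩
  have x1 : x ≠ 1 := fun e => nx (e ▸ one_mem _)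
  have y1 : y ≠ 1 := fun e => ny (e ▸ one_mem _)
  rw [ncl_top ns (le_Vs (p := fun _ => True) h.l trivial hx) x1, ncl_top ns (h.lR hx) x1,
    ncl_top ns (le_Vs (p := (¬ · ≤ Yc A L ⊔ Yc A L')) k c hy) y1, ns.perf, ns.O] at this
  exact ns.ne (le_bot_iff.1 this)

theorem Pt.QY [IsSimpleGroup G] (h : Pt A M L M' L') : Qc A L ≤ Yc A L := fun a ha => by
  obtain ⟨y, hy, c, hc, rfl⟩ := h.decQ ha
  refine mul_mem hy (ZY ⟨Qc_le hc.1, fun a ha => ?_⟩)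
  obtain ⟨y, hy, d, hd', rfl⟩ := h.dec ha
  obtain ⟨u, hu, d, hd, rfl⟩ := h.symm.decQ hd'
  have q : ∀ {x M₃ L₃}, NT A M₃ L₃ → x ∈ Qc A L → x ∈ Qc A L' → x ∈ Qc A L₃ := fun k a b => k.cYQ (Qc_le a)
    ((h.two k).elim (· ▸ h.l.cQ a) (· ▸ h.r.cQ b))
  have := cm1' (h.l.e0 (h.l.cm (Qc_le hd.1) (Qc_le hc.1)) fun _ _ k => k.QQ (q k hd.2 hd.1) (q k hc.1 hc.2))
  rw [mul_assoc, mul_assoc, this, ← mul_assoc u, h.r.cy hu hc.2, mul_assoc, ← mul_assoc, h.l.cy hy hc.1, mul_assoc]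

end CF.Kz
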