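-- copy of `Loc.TL1` avoiding a name clash (`Comp.syl_inf`) with `Sig.S4D`
import Cfsg.Agent.NCy.LocGD7

/-! Groups whose maximal 2-local subgroups are `TI` modulo the 2-core: local analysis. -/

set_option autoImplicit false
set_option linter.unusedSectionVars false

namespace CF.TL

open Cfsg Subgroup CF.Loc CF.FF CF.GC
open scoped commutatorElement

variable {G : Type*} [Group G] [Finite G] {A C D H K M N P P' Q R S T V W X Y Z : Subgroup G} {a b c d g r s t u v w x y z : G}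

theorem exM (k : IsPGroup 2 Q) (n : Q ≠ ⊥) : ∃ M, IsMaximalTwoLocal M ∧ 𝐍(Q) ≤ M :=
  let ⟨M, l, m⟩ := Finite.exists_le_maximal (p := IsTwoLocal) ⟨Q, k, n, rfl⟩
  ⟨M, ⟨m.1, fun _ a b => (m.2 a b).antisymm b⟩, l⟩

theorem mx_eq (m : IsMaximalTwoLocal M) (k : IsPGroup 2 Q) (n : Q ≠ ⊥) (l : M ≤ 𝐍(Q)) : 𝐍(Q) = M := m.2 _ ⟨Q, k, n, rfl⟩ l

theorem mx_core (m : IsMaximalTwoLocal M) : 𝐎[2](M) ≠ ⊥ := by
  obtain ⟨Q, k, n, rfl⟩ := m.1
  exact fun e => n (le_bot_iff.1 (e ▸ le_pCoreOf k le_normalizer le_rfl))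

theorem mem_of_norm (s : IsSyl 2 P N) (l : P ≤ C) (m : C ≤ N) (k : IsPGroup 2 Q) (hu : u ∈ Q) (n : u ∈ N ⊓ 𝐍(C)) : u ∈ C := by
  obtain ⟨g, hg, e⟩ := (s.mono (l.trans (le_inf m le_normalizer)) inf_le_left).exists_le_cj (k.to_le (zpowers_le.2 hu)) (zpowers_le.2 n)
  exact cj_eq_self hg.2 ▸ cj_mono g l (e (mem_zpowers u))

theorem two_inv (hr : r * r = 1) (hs : s * s = 1) (e : (r * s) ^ 4 = 1) : ∃ P : Subgroup G, IsPGroup 2 P ∧ r ∈ P ∧ s ∈ P ∧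
    ∀ X : Subgroup G, r ∈ X → s ∈ X → P ≤ X :=
  ⟨zpowers (r * s) ⊔ zpowers r, isPGroup_sup (isPGroup_zpowers (k := 2) e) (isElemAb_isPGroup (ea_zp hr))
    (zpowers_le.2 (mem_normalizer_of_conj_mem fun _ ⟨k, e⟩ => ⟨-k, by
      rw [← e, ← conj_zpow, ← mul_assoc, hr, one_mul, show s * r⁻¹ = (r * s)⁻¹ by rw [mul_inv_rev, inv_eq_of_mul_eq_one_right hs],
        inv_zpow']⟩)),
    mem_sup_right (mem_zpowers r), (mul_mem_cancel_left (mem_sup_right (mem_zpowers r))).1 (mem_sup_left (mem_zpowers _)),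
    fun _ a b => sup_le (zpowers_le.2 (mul_mem a b)) (zpowers_le.2 a)⟩

/-- a maximal 2-local subgroup of the generic kind -/
structure Gm (M : Subgroup G) : Prop where
  mx : IsMaximalTwoLocal M
  ch : IsCharP 2 M
  ti : ∀ {P P' x}, IsSyl 2 P M → IsSyl 2 P' M → x ∈ P → x ∈ P' → x ∉ 𝐎[2](M) → P = P'
  ce : ∀ x ∈ 𝐎[2](M), x * x = 1 → ∃ P, IsSyl 2 P M ∧ x ∈ 𝐂(P)

/-- the hypothesis -/
def Hy (G : Type*) [Group G] : Prop :=
  ∀ M : Subgroup G, IsMaximalTwoLocal M → (∃ P, IsSyl 2 P ⊤ ∧ M = 𝐍(P)) ∨ Gm M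

theorem Hy.loc (h : Hy G) (s : IsSyl 2 P ⊤) (hd : d ∈ 𝐂(P)) (o : (orderOf d).Coprime 2) (d1 : d ≠ 1) (m : IsMaximalTwoLocal M)
    (dM : d ∈ M) (n : M ⊓ P ≠ ⊥) : M = 𝐍(P) := by
  induction' e : Nat.card P - Nat.card ↥(M ⊓ P) using Nat.strong_induction_on with j ih generalizing M
  have k := s.isPGroup.to_inf_right (H := M)
  have y : IsSyl 2 (M ⊓ P) M := by_contra fun y => by
    have l : M ⊓ P < P := lt_of_le_of_ne inf_le_right fun e => y (e.symm ▸ s.mono (inf_eq_right.1 e) le_top)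
    obtain ⟨N, a, b⟩ := exM k n
    have l' := (lt_inf_normalizer s.isPGroup l).trans_le (le_inf (inf_le_right.trans b) inf_le_left)
    have c := card_lt_card_of_lt l'
    have c' := card_le_of_le (inf_le_right : N ⊓ P ≤ P)
    rw [ih _ (by omega) a (b (centralizer_le_normalizer_of_le inf_le_right hd)) (ne_bot_of_gt l') rfl] at b
    exact y (isSyl_of_normalizer ⟨le_inf inf_le_left le_normalizer, k, fun Q p u v => le_antisymm (le_inf (v.trans inf_le_left)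
      (s.le_of_le_normalizer' p le_top (v.trans (inf_le_right.trans b)))) u⟩)
  obtain ⟨P', s', rfl⟩ | g := h M m
  · rw [s'.eq_of_le s.isPGroup ((y.le_of_le_normalizer s'.isPGroup le_normalizer inf_le_left).trans inf_le_right) le_top]
  · exact (d1 (eq_one_of_coprime_of_mem (isPGroup_pCoreOf 2 M)
      (g.ch.centralizer_syl_le y ⟨dM, centralizer_anti inf_le_right hd⟩) o)).elim

theorem Hy.dich (h : Hy G) : LC G ∨ ∃ P : Subgroup G, IsSyl 2 P ⊤ ∧ P ≠ ⊥ ∧ ∀ Q ≤ P, Q ≠ ⊥ → 𝐍(Q) ≤ 𝐍(P) :=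
  or_iff_not_imp_right.2 fun z Q k n => by
    obtain ⟨M, m, l⟩ := exM k n
    rw [← inf_eq_right.2 l]
    refine IsCharP.normalizer ?_ k (le_normalizer.trans l)
    obtain ⟨P, s, rfl⟩ | g := h M m
    swap; · exact g.ch
    have e := pCoreOf_eq_of_isSyl (s.mono le_normalizer le_top) le_rfl
    refine fun x hx => ?_
    rw [e] at hx ⊢
    obtain ⟨a, d, ha, hd, ⟨j, o⟩, o', rfl⟩ := exists_p_part (p := 2) (isOfFinOrder_of_finite x)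
    have l := zpowers_le.2 hx.2
    obtain rfl : d = 1 := by_contra fun d1 => z ⟨P, s, e ▸ mx_core m, fun Q a b =>
      let ⟨M, m, c⟩ := exM (s.isPGroup.to_le a) b
      h.loc s (l hd) o' d1 m (c (centralizer_le_normalizer_of_le a (l hd)))
        (fun e => b (le_bot_iff.1 (e ▸ le_inf (le_normalizer.trans c) a))) ▸ c⟩
    exact mul_mem (s.le_of_le_normalizer' (isPGroup_zpowers_of_orderOf o) le_top
      (zpowers_le.2 (centralizer_le_normalizer _ (l ha))) (mem_zpowers a)) (one_mem _)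

/-- an elementwise consequence of the hypothesis -/
def PT (G : Type*) [Group G] : Prop := ∀ (A : Subgroup G) (r s t u : G), IsPGroup 2 A → A ≠ ⊥ → r ∈ 𝐍(A) → s ∈ 𝐍(A) → t ∈ 𝐍(A) →
  u ∈ 𝐍(A) → r * r = 1 → s * s = 1 → t * t = 1 → (r * s) ^ 4 = 1 → (r * t) ^ 4 = 1 → (s * t) ^ 3 = 1 →
  (r * (u * r * u⁻¹)) ^ 3 = 1 → s * t = 1 ∨ r * (u * r * u⁻¹) = 1

theorem cube (k : IsPGroup 2 P) (m : x ∈ P) (e : x ^ 3 = 1) : x = 1 :=
  eq_one_of_coprime_of_mem k m (Nat.Coprime.coprime_dvd_left (orderOf_dvd_of_pow_eq_one e) (by decide))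

theorem Hy.pt (h : Hy G) : PT G := fun A r s t u k n hr hs ht hu r2 s2 t2 a b c d => or_iff_not_imp_right.2 fun z => by
  obtain ⟨M, m, l⟩ := exM k n
  obtain ⟨P, p, rP, sP, lP⟩ := two_inv r2 s2 a
  obtain ⟨Q, q, rQ, tQ, lQ⟩ := two_inv r2 t2 b
  replace lP := lP M (l hr) (l hs)
  replace lQ := lQ M (l hr) (l ht)
  obtain ⟨S, y, rfl⟩ | g := h M m
  · exact cube y.isPGroup (mul_mem (y.le_of_le_normalizer' p le_top lP sP) (y.le_of_le_normalizer' q le_top lQ tQ)) c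
  obtain ⟨S, y, e⟩ := exists_isSyl_ge p lP
  obtain ⟨T, y', e'⟩ := exists_isSyl_ge q lQ
  obtain rfl := g.ti y y' (e rP) (e' rQ) fun o => z (cube (isPGroup_pCoreOf 2 M)
    (mul_mem o (conj_mem_of_mem_normalizer (le_normalizer_pCoreOf 2 M (l hu)) o)) d)
  exact cube y.isPGroup (mul_mem (e sP) (e' tQ)) c

theorem PT.comap {H : Type*} [Group H] (h : PT G) (f : H →* G) (i : Function.Injective f) : PT H :=
  fun A r s t u k n hr hs ht hu r2 s2 t2 a b c d => by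
    have m : ∀ x ∈ 𝐍(A), f x ∈ 𝐍(A.map f) := fun x hx => le_normalizer_map f (mem_map_of_mem f hx)
    simpa only [← map_mul, ← map_inv, map_eq_one_iff f i] using h (A.map f) (f r) (f s) (f t) (f u) (k.map f)
      (mt (map_eq_bot_iff_of_injective A i).1 n) (m _ hr) (m _ hs) (m _ ht) (m _ hu) (by rw [← map_mul, r2, map_one])
      (by rw [← map_mul, s2, map_one]) (by rw [← map_mul, t2, map_one]) (by rw [← map_mul, ← map_pow, a, map_one])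
      (by rw [← map_mul, ← map_pow, b, map_one]) (by rw [← map_mul, ← map_pow, c, map_one])
      (by rw [← map_inv, ← map_mul, ← map_mul, ← map_mul, ← map_pow, d, map_one])

/-- the subgroup generated by the squares -/
def sqs (Q : Subgroup G) : Subgroup G := closure {y | ∃ x ∈ Q, x * x = y}

theorem sqs_le : sqs Q ≤ Q := (closure_le _).2 fun _ ⟨_, a, e⟩ => e ▸ mul_mem a a

theorem norm_sqs : 𝐍(Q) ≤ 𝐍(sqs Q) := fun g hg => mem_normalizer_of_cj_le (map_le_iff_le_comap.2 ((closure_le _).2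
  fun _ ⟨x, a, e⟩ => subset_closure ⟨_, conj_mem_of_mem_normalizer hg a, e ▸ conj_mul⟩))

namespace Gm
variable (h : Gm M)
include h

theorem memV (hx : x ∈ 𝐎[2](M)) (e : x * x = 1) : x ∈ 𝛀[2](𝐎[2](M)) :=
  let ⟨_, s, c⟩ := h.ce x hx e; mem_omegaOneCenter.2 ⟨hx, centralizer_anti s.pCoreOf_le c, (pow_two x).trans e⟩

theorem nV : M ≤ 𝐍(𝛀[2](𝐎[2](M))) := (le_normalizer_pCoreOf 2 M).trans (normalizer_le_normalizer_omegaOneCenter 2 _)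

theorem fx (y : IsSyl 2 S M) (hs : s ∈ S) (n : s ∉ 𝐎[2](M)) (hw : w ∈ 𝛀[2](𝐎[2](M))) (c : s * w = w * s) : w ∈ 𝐂(S) := by
  obtain ⟨P, p, e⟩ := h.ce w (omegaOneCenter_le 2 _ hw) (mul_self_of_elemAb (isElemAb_omegaOneCenter 2 _) hw)
  obtain ⟨T, a, b⟩ := exists_isSyl_ge (L := M ⊓ 𝐂(zpowers w)) (y.isPGroup.to_le (zpowers_le.2 hs)) (zpowers_le.2 ⟨y.le hs, cent_zp.2 c⟩)
  rw [h.ti y (p.of_parabolic (le_inf p.le (le_centralizer_comm.1 (zpowers_le.2 e))) inf_le_left a) hs (b (mem_zpowers s)) n]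
  exact le_centralizer_comm.1 (a.le.trans inf_le_right) (mem_zpowers w)

theorem cq (hv : v ∈ M) (c : v ∈ 𝐂(𝛀[2](𝐎[2](M)))) (e : ∀ x ∈ 𝐎[2](M), ⁅x, v⁆ * ⁅x, v⁆ = 1) : v ∈ 𝐎[2](M) := by
  have nQ := le_normalizer_pCoreOf 2 M
  refine le_pCoreOf (Q := M ⊓ 𝐂(𝛀[2](𝐎[2](M))) ⊓ secCent 𝐎[2](M) 𝛀[2](𝐎[2](M))) (h.ch.isPGroup_of_quadratic
    (inf_le_left.trans inf_le_left) (commutator_eq_bot_iff_le_centralizer.2 (((commutator_mono le_rfl inf_le_right).trans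
      (commutator_secCent_le _ _)).trans (le_centralizer_comm.1 (inf_le_left.trans inf_le_right))))) (inf_le_left.trans inf_le_left)
    (le_normalizer_inf (le_normalizer_inf le_normalizer (le_normalizer_centralizer h.nV)) (le_normalizer_secCent nQ h.nV))
    ⟨⟨hv, c⟩, h.nV hv, fun x hx => h.memV (cm_mem' hx (nQ hv)) (e x hx)⟩

theorem idx (y : IsSyl 2 S M) (n : ¬ 𝛀[2](𝐎[2](M)) ≤ 𝐂(S)) :
    𝐎[2](M).relIndex S ≤ (𝛀[2](𝐎[2](M)) ⊓ 𝐂(S)).relIndex 𝛀[2](𝐎[2](M)) := by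
  have ea := isElemAb_omegaOneCenter 2 𝐎[2](M)
  have nV := h.nV
  have fx := @h.fx _ _ _ _ S
  have ce := fun w hw => h.ce w (omegaOneCenter_le 2 _ hw) (mul_self_of_elemAb ea hw)
  generalize 𝛀[2](𝐎[2](M)) = W at *
  obtain ⟨w, hw, w0, c⟩ := exists_fixed_mod (isElemAb_isPGroup ea) y.isPGroup (y.le.trans nV) n
  replace c : ∀ s ∈ S, ⁅s, w⁆ ∈ 𝐂(S) := fun s hs =>
    commutatorElement_inv w s ▸ inv_mem (c (commutator_mem_commutator (mem_zpowers w) hs))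
  obtain ⟨P, p, e⟩ := ce w hw
  obtain ⟨g, hg, rfl⟩ := y.conj p
  rw [← relIndex_cj g (W ⊓ 𝐂(S)) W, cj_inf, cj_centralizer, cj_eq_self (nV hg)]
  generalize cj[g] S = P at *
  refine SR.rel_fin (α := W ⧸ (W ⊓ 𝐂(P)).subgroupOf W) (fun s : S => QuotientGroup.mk ⟨⁅(s : G), w⁆, cm_mem (nV (y.le s.2)) hw⟩)
    fun s t o => by_contra fun u0 => w0 ?_
  have m := mul_mem (inv_mem s.2) t.2
  have o : ⁅(s : G)⁻¹ * t, w⁆ ∈ 𝐂(P) := by
    have := (QuotientGroup.eq.1 o).2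
    rwa [cml, conj_eq_of_mem_centralizer (le_centralizer_comm.1 (zpowers_le.2 (c _ t.2)) (inv_mem s.2)) (mem_zpowers _),
      show ⁅(s : G)⁻¹, w⁆ = (s : G)⁻¹ * ⁅(s : G), w⁆⁻¹ * (s : G)⁻¹⁻¹ by simp only [commutatorElement_def]; group,
      conj_eq_of_mem_centralizer (le_centralizer_comm.1 (zpowers_le.2 (inv_mem (c _ s.2))) (inv_mem s.2)) (mem_zpowers _),
      isElemAb_le_centralizer ea (inv_mem (cm_mem (nV (y.le s.2)) hw)) _ (cm_mem (nV (y.le t.2)) hw)]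
  generalize (s : G)⁻¹ * t = u at *
  have z := c u m
  refine fx _ _ y m u0 hw (cent_zp.1 (mem_of_norm (C := M ⊓ 𝐂(zpowers ⁅u, w⁆) ⊓ 𝐂(zpowers w)) p (le_inf (le_inf p.le
    (le_centralizer_comm.1 (zpowers_le.2 o))) (le_centralizer_comm.1 (zpowers_le.2 e))) (inf_le_left.trans inf_le_left) y.isPGroup m
    ⟨y.le m, (Subgroup.inv_mem_iff _).1 (mem_normalizer_of_conj_mem ?_)⟩).2)
  refine fun x hx => ⟨⟨conj_mem_of_mem_normalizer (le_normalizer (inv_mem (y.le m))) hx.1.1,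
      conj_mem_of_mem_normalizer (le_normalizer (inv_mem (cent_zp.2 (z u m)))) hx.1.2⟩, cent_zp.2 ?_⟩
  rw [show u⁻¹ * x * u⁻¹⁻¹ * w = u⁻¹ * (x * ⁅u, w⁆ * w) * u by simp only [commutatorElement_def]; group, cent_zp.1 hx.1.2,
    mul_assoc _ x, cent_zp.1 hx.2]
  simp only [commutatorElement_def]; group

end Gm

/-- two generic maximal 2-local subgroups over `S` -/
structure Tw (S M N : Subgroup G) : Prop where
  m : Gm M
  n : Gm N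
  syl : IsSyl 2 S ⊤
  sm : S ≤ M
  sn : S ≤ N
  ne : M ≠ N

namespace Tw
variable (h : Tw S M N)
include h

theorem symm : Tw S N M := ⟨h.n, h.m, h.syl, h.sn, h.sm, h.ne.symm⟩
theorem ym : IsSyl 2 S M := h.syl.mono h.sm le_top
theorem VS : 𝛀[2](𝐎[2](M)) ≤ S := (omegaOneCenter_le 2 _).trans h.ym.pCoreOf_le
theorem bot (l : D ≤ S) (a : M ≤ 𝐍(D)) (b : N ≤ 𝐍(D)) : D = ⊥ := by_contra fun e =>
  h.ne ((mx_eq h.m.mx (h.syl.isPGroup.to_le l) e a).symm.trans (mx_eq h.n.mx (h.syl.isPGroup.to_le l) e b))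

theorem VR (hv : v ∈ 𝛀[2](𝐎[2](M))) (r : v ∈ 𝐎[2](N)) : v ∈ 𝛀[2](𝐎[2](N)) :=
  h.n.memV r (mul_self_of_elemAb (isElemAb_omegaOneCenter 2 _) hv)

theorem nVR : ¬ 𝛀[2](𝐎[2](M)) ≤ 𝐎[2](N) := fun l => by
  have a : 𝛀[2](𝐎[2](M)) ≤ 𝛀[2](𝐎[2](N)) := fun _ z => h.VR z (l z)
  have ea := isElemAb_omegaOneCenter 2 𝐎[2](N)
  have b : 𝛀[2](𝐎[2](N)) ≤ 𝛀[2](𝐎[2](M)) := fun w z => h.symm.VR z (h.m.cq (h.sm (h.symm.VS z))
    (centralizer_anti a (isElemAb_le_centralizer ea z))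
    fun x hx => mul_self_of_elemAb ea (cm_mem (h.n.nV (h.sn (h.ym.pCoreOf_le hx))) z))
  exact omegaOneCenter_ne_bot (isPGroup_pCoreOf 2 M) (mx_core h.m.mx) (h.bot h.VS h.m.nV (le_antisymm a b ▸ h.n.nV))

theorem ZV (hw : w ∈ S) (e : w * w = 1) (c : w ∈ 𝐂(S)) : w ∈ 𝛀[2](𝐎[2](M)) := h.m.memV (h.m.ch.centralizer_syl_le h.ym ⟨h.sm hw, c⟩) e

theorem Zeq : 𝛀[2](𝐎[2](N)) ⊓ 𝐂(S) = 𝐎[2](M) ⊓ 𝛀[2](𝐎[2](N)) := le_antisymm (fun _ z => ⟨omegaOneCenter_le 2 _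
    (h.ZV (h.symm.VS z.1) (mul_self_of_elemAb (isElemAb_omegaOneCenter 2 _) z.1) z.2), z.1⟩) fun _ z =>
  let ⟨v, a, b⟩ := SetLike.not_le_iff_exists.1 h.nVR
  ⟨z.2, h.n.fx h.symm.ym (h.VS a) b z.2 (omegaOneCenter_le_centralizer 2 _ a _ z.1).symm⟩

theorem i1 : 𝐎[2](N).relIndex S ≤ 𝐎[2](M).relIndex 𝛀[2](𝐎[2](N)) := by
  have := h.n.idx h.symm.ym fun z => h.symm.nVR fun _ a => (h.Zeq.le ⟨a, z a⟩).1
  rwa [h.Zeq, inf_relIndex_right] at this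

theorem sup : 𝐎[2](N) ⊔ 𝛀[2](𝐎[2](M)) = S := by
  have a := (h.i1.trans (relIndex_le_of_le_right h.symm.VS (FiniteIndex.index_ne_zero))).trans h.symm.i1
  have b := card_sup_mul_card_inf' (h.VS.trans (h.sn.trans (le_normalizer_pCoreOf 2 N)))
  refine eq_of_le_of_card_le (sup_le h.symm.ym.pCoreOf_le h.VS) ?_
  rw [← card_inf_mul_relIndex 𝐎[2](N) 𝛀[2](𝐎[2](M)), mul_left_comm, mul_comm] at b
  rw [Nat.eq_of_mul_eq_mul_left Nat.card_pos b, ← card_mul_relIndex h.symm.ym.pCoreOf_le]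
  exact Nat.mul_le_mul_left _ a

theorem dec (hs : s ∈ S) : ∃ r ∈ 𝐎[2](N), ∃ v ∈ 𝛀[2](𝐎[2](M)), r * v = s :=
  (mem_sup_of_le_normalizer (h.VS.trans (h.sn.trans (le_normalizer_pCoreOf 2 N)))).1 (h.sup.ge hs)

theorem sq_le : sqs 𝐎[2](M) ≤ sqs 𝐎[2](N) := closure_mono fun _ ⟨x, hx, e⟩ => by
  obtain ⟨r, hr, v, hv, rfl⟩ := h.dec (h.ym.pCoreOf_le hx)
  exact ⟨r, hr, by rw [← e, ← mul_assoc, omegaOneCenter_le_centralizer 2 _ hv _ (mul_mem hx ((mul_mem_cancel_right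
    (omegaOneCenter_le 2 _ hv)).1 hx)), ← mul_assoc, ← omegaOneCenter_le_centralizer 2 _ hv _ hx, mul_assoc r,
    mul_self_of_elemAb (isElemAb_omegaOneCenter 2 _) hv, mul_one]⟩

theorem QV : 𝐎[2](M) ≤ 𝛀[2](𝐎[2](M)) := fun x hx => h.m.memV hx (mem_bot.1 (h.bot (sqs_le.trans h.ym.pCoreOf_le)
  ((le_normalizer_pCoreOf 2 M).trans norm_sqs) (le_antisymm h.sq_le h.symm.sq_le ▸ (le_normalizer_pCoreOf 2 N).trans norm_sqs) ▸
  subset_closure ⟨x, hx, rfl⟩))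

theorem ea : IsElementaryAbelian 2 𝐎[2](M) := isElemAb_of_le (isElemAb_omegaOneCenter 2 _) h.QV

theorem ab : Cl2.AB ⊤ 𝐎[2](M) 𝐎[2](N) S := by
  have d : ∀ s ∈ S, ∃ a ∈ 𝐎[2](M), ∃ b ∈ 𝐎[2](N), a * b = s := fun s hs =>
    let ⟨a, b, c, d, e⟩ := h.symm.dec hs; ⟨a, b, c, omegaOneCenter_le 2 _ d, e⟩
  refine ⟨.of_isEA Ab2.p2 h.ea, .of_isEA Ab2.p2 h.symm.ea, BG.syl_mk Ab2.p2 le_top (BG.piGrp_of_isPGroup Ab2.p2 h.syl.isPGroup)
    h.syl.not_dvd_relIndex, h.ym.pCoreOf_le, h.symm.ym.pCoreOf_le, d, fun s hs e => or_iff_not_imp_left.2 fun n => ?_,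
    fun z => h.nVR ((omegaOneCenter_le 2 _).trans z), fun z => h.symm.nVR ((omegaOneCenter_le 2 _).trans z)⟩
  obtain ⟨a, ha, b, hb, rfl⟩ := d s hs
  refine mul_mem (h.symm.Zeq.le ⟨h.QV ha, h.m.fx h.ym (h.symm.ym.pCoreOf_le hb) (fun z => n (mul_mem ha z)) (h.QV ha) ?_⟩).1 hb
  rw [eq_inv_of_mul_eq_one_left e, mul_inv_rev, inv_eq_of_mul_eq_one_right (mul_self_of_elemAb h.ea ha),
    inv_eq_of_mul_eq_one_right (mul_self_of_elemAb h.symm.ea hb)]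

theorem mv : Cl2.Mv ⊤ 𝐎[2](M) 𝐎[2](N) := fun z => h.ab.nab fun v hv => by
  obtain ⟨P, p, e⟩ := h.m.ce v hv (mul_self_of_elemAb h.ea hv)
  obtain ⟨g, hg, rfl⟩ := p.conj h.ym
  have n := le_normalizer_pCoreOf 2 M hg
  have m := conj_mem_of_mem_normalizer n hv
  exact ((mem_normalizer_iff.1 (z ⟨trivial, n⟩) v).2 ⟨m, (h.symm.Zeq.le ⟨h.QV m, (cj_centralizer g P).le (conj_mem_cj g e)⟩).1⟩).2

end Tw

end CF.TL
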