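-- copy of `Loc.TL2` avoiding a name clash (`Comp.syl_inf`) with `Sig.S4D`
import Cfsg.Agent.NCz.LocTL1

/-! `S = AB`: the case of index two, and passage to a normal subgroup. -/

set_option autoImplicit false
set_option linter.unusedSectionVars false

namespace CF.Cl2
open Subgroup Cfsg CF.BG CF.Sig CF.GW CF.Ab2
open CF.Loc (ncl le_ncl)
open scoped commutatorElement MatrixGroups

universe u
variable {G : Type u} [Group G] [Finite G] {A B K L M S X : Subgroup G}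
variable {F F' : Type} [Field F] [Field F'] {ρ : G → SL(2, F)} {ψ : G → Fin 2 → F} {ρ' : G → SL(2, F')} {ψ' : G → Fin 2 → F'}

theorem Nt.cZ0 [Finite F] (h : Nt F X A B S L ρ ψ) : ♯(A ⊓ B) = Nat.card F * ♯(A ⊓ 𝐂 L) := by
  have := h.nat.card_V'
  rw [h.card_A, ← h.cardB, sq, mul_assoc] at this
  exact Nat.eq_of_mul_eq_mul_left Nat.card_pos this

theorem Nt.exN (h : Nt F X A B S L ρ ψ) : ∃ w ∈ L, w ∉ 𝐍 (A ⊓ B) :=
  let ⟨w, hw, w0⟩ := h.nat.exists_w; ⟨w, hw, fun k => w0 ((h.norm_iff hw).1 k)⟩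

theorem AB.two [IsSimpleGroup G] (h : AB ⊤ A B S) (q : A.relIndex S = 2) :
    (∃ m : ℕ, Nonempty (S ≃* DihedralGroup m)) ∨ IsQuasiDihedral S := by
  obtain ⟨⟨F, _, _, L, ρ, ψ, na⟩, F', _, _, M, ρ', ψ', nb⟩ := h.exists_nt2 h.symm.mv_simple h.mv_simple
  have hG : ¬ IsMulCommutative G := fun k => h.not_abel (abel_of_forall fun x _ y _ => k.is_comm.comm x y)
  have q1 := na.cardA.trans q
  have y1 : A ⊓ 𝐂 L ⊓ (B ⊓ 𝐂 M) = ⊥ := by
    rcases (ns_top hG).eq_or _ (ncl_normal (D := A ⊓ 𝐂 L ⊓ (B ⊓ 𝐂 M)) le_top) with e | e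
    · exact eq_bot_mono e (le_ncl _ _)
    · have := na.inf0 nb
      rw [e, inf_top_eq] at this
      exact (h.nab (h.la.trans (this.le.trans (inf_le_right.trans inf_le_left)))).elim
  obtain ⟨a, ha, a0⟩ := h.exA
  have ia := ab_iv h.ea ha fun e => a0 (e ▸ one_mem _)
  have cA := h.card_A
  have cZ := na.cZ0
  have cS := card_mul_relIndex h.la
  rw [← na.cardB, q1] at cA
  rw [q1] at cZ
  rw [q] at cS
  have d : A ⊓ 𝐂 L = ⊥ := eq_bot_of_forall fun e he => by_contra fun e1 => by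
    have fu : ∀ g, g * e * g⁻¹ ∈ A → g * e * g⁻¹ ∈ A ⊓ 𝐂 L := fun g k =>
      let ⟨n, hn, e⟩ := h.fuse he.1 trivial k; e ▸ conj_mem_of_norm (na.nZA hn) he
    have cm : ∀ b ∈ B, b ∉ A → ⁅a, b⁆ ∈ B ⊓ A ∧ ⁅a, b⁆ ∉ 𝐂 L := fun b hb b0 => ⟨h.symm.comm_mem (h.la ha) hb, fun k =>
      na.comm_not (h.lb hb) b0 ha a0 (commutatorElement_inv a b ▸ inv_mem k)⟩
    obtain ⟨b, hb, b0⟩ := h.exB
    obtain ⟨y, hy, y0⟩ := nb.exN
    obtain ⟨c1, c2⟩ := cm b hb b0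
    have hx := nb.cA hy c1.1
    have x0 := fun k => nb.comm_not (h.la ha) a0 hb b0 (nb.opp trivial (nb.lN hy) y0 c1 k)
    have nx : ∀ g, g * e * g⁻¹ ≠ y * ⁅a, b⁆ * y⁻¹ := fun g k => by
      have e : y⁻¹ * g * e * (y⁻¹ * g)⁻¹ = ⁅a, b⁆ := (show _ = y⁻¹ * (g * e * g⁻¹) * y by group).trans (by rw [k]; group)
      exact c2 (e ▸ (fu _ (e ▸ c1.2)).2)
    generalize y * ⁅a, b⁆ * y⁻¹ = x at *
    replace x0 : x ∉ A := x0
    obtain ⟨c1, c2⟩ := cm x hx x0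
    have ax : a * x * a⁻¹ = ⁅a, x⁆ * x := by rw [commutatorElement_def]; group
    generalize ⁅a, x⁆ = c at *
    have f : FP c x := ⟨ab_iv h.ea c1.2 fun e => c2 (e ▸ one_mem _), ab_iv h.eb hx fun e => x0 (e ▸ one_mem _), h.symm.cma c1.1 hx,
      fun e => x0 (e ▸ c1.2)⟩
    have VB := V4_le.2 ⟨c1.1, hx⟩
    have n : zpowers a ≤ 𝐍 (V4 c x) := zpowers_le.2 (mem_norm_of_cj_le (by
      rw [cj_V4, ax, h.cma ha c1.2, mul_inv_cancel_right, f.V4_mul]))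
    have key : ∀ g, g * e * g⁻¹ ∉ V4 c x ⊔ zpowers a := fun g k' => by
      obtain ⟨v, hv, u, hu, k⟩ := (mem_sup_norm' n).1 k'
      clear k'
      obtain rfl | rfl := ia.mem_zpowers.1 hu
      · rw [mul_one] at k
        obtain rfl | rfl | rfl | rfl := f.mem.1 hv
        · exact e1 (by simpa using k.symm)
        · exact c2 (k ▸ (fu g (k ▸ c1.2)).2)
        · exact nx g k.symm
        · exact nx (a⁻¹ * g) ((show _ = a⁻¹ * (g * e * g⁻¹) * a by group).trans (by rw [← k, ← ax]; group))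
      · refine a0 ((mul_mem_cancel_left (VB hv)).1 (k ▸ (h.inv _ (k ▸ mul_mem (h.lb (VB hv)) (h.la ha))
          (sq_conj (h.sqa he.1) g)).elim (fun o => (na.ZA_le (fu g o)).2) id))
    have l : V4 c x ⊔ zpowers a ≤ S := sup_le (VB.trans h.lb) (zpowers_le.2 (h.la ha))
    have i1 := two_mul_le (le_sup_left : V4 c x ≤ V4 c x ⊔ zpowers a) fun k => a0 (VB (k (mem_sup_right (mem_zpowers a))))
    have i2 := card_mul_relIndex l
    have i3 := one_lt_relIndex fun k : S ≤ V4 c x ⊔ zpowers a => key 1 (by simpa using k (h.la he.1))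
    have i4 := card_le (sup_le (na.ZA_le.trans (inf_comm A B).le) nb.ZA_le)
    have i5 := nb.cZ0
    rw [card_sup_of_inf_bot (.inl (norm_of_cent (cent_symm (h.cZ.trans' (inf_le_left.trans h.la) |>.trans (cent_anti
      (nb.ZA_le.trans (inf_comm B A).le)) |> cent_symm)))) y1, i5, nb.cardB, q] at i4
    replace i4 := Nat.le_of_mul_le_mul_right i4 Nat.card_pos
    rw [f.card] at i1
    obtain ⟨K, -, k, -⟩ := Transfer.thompson_transfer (relIndex_top_right S ▸ h.syl.not_dvd p2) (show _ = 2 by nlinarith) (h.la he.1)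
      (ab_iv h.ea he.1 e1) key
    exact (ns_top hG).index_ne K k
  rw [d, card_bot] at cZ
  have aS := h.la ha
  have hC : S ⊓ 𝐂₁ a = A := le_antisymm (fun t ht => h.memA ht.1 ha a0 (mem_cent1.1 ht.2).symm)
    (le_inf h.la (h.ea.abel.trans (cent_le_cent1 ha)))
  have h1 : Nat.card (centralizer ({(⟨a, aS⟩ : S)} : Set S)) = 4 := by
    rw [show 4 = ♯A by omega, ← hC, ← CF.Solv.card_subgroupOf_of_le (H := S ⊓ 𝐂₁ a) (K := S) inf_le_left]
    congr 2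
    ext g
    simp only [mem_centralizer_singleton_iff, mem_subgroupOf, mem_inf, SetLike.coe_mem, true_and]
    exact ⟨fun h => congrArg Subtype.val h, fun h => Subtype.ext h⟩
  rcases two_group_cases_of_card_centralizer h.syl.pi.isPGroup ((orderOf_mk _ _).trans ia) h1 with ⟨n, -, e⟩ | e | e
  · exact .inl ⟨_, e⟩
  · exact .inr e
  · omega

theorem AB.id [IsSimpleGroup G] (h : AB ⊤ A B S) : Id S := by
  by_cases q : 2 < A.relIndex S
  · obtain ⟨m, hm⟩ := (h.syl.pi.relIndex A).exists_pow (relIndex_ne_zero' _ _)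
    exact .inr (.inl ⟨m, (Nat.pow_lt_pow_iff_right one_lt_two).1 (hm ▸ q), hm ▸ h.simple q⟩)
  exact .inl (h.two (le_antisymm (by omega) h.idx_ne))

theorem Nt.nrm (h : Nt F ⊤ A B S L ρ ψ) (k : K ⊴ ⊤) (l : A ⊓ K ≤ B) : S ⊓ K ≤ A := fun s hs => by_contra fun s0 => by
  obtain ⟨a, ha, a0⟩ := h.exA
  obtain ⟨y, hy, y0⟩ := h.exN
  have c := h.comm_mem hs.1 ha
  refine h.comm_not hs.1 s0 ha a0 (h.opp trivial (h.lN hy) y0 c (l (mi (h.cA hy c.1) (conj_mem_of_norm (k.norm trivial) ?_))))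
  exact mem_of_eq (mul_mem hs.2 (conj_mem_of_norm (k.norm (mem_top a)) (inv_mem hs.2))) (by rw [commutatorElement_def]; group)

theorem AB.nrm (h : AB ⊤ A B S) (m : Mv ⊤ A B) (m' : Mv ⊤ B A) (k : K ⊴ ⊤) (n : ¬ S ⊓ K ≤ A ⊓ B) : AB K (A ⊓ K) (B ⊓ K) (S ⊓ K) := by
  obtain ⟨⟨F, _, _, L, ρ, ψ, na⟩, F', _, _, M, ρ', ψ', nb⟩ := h.exists_nt2 m m'
  have n1 : ¬ A ⊓ K ≤ B := fun l => n (le_inf (na.nrm k l) (nb.nrm k ((inf_le_inf_right K h.lb).trans (na.nrm k l))))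
  have n2 : ¬ B ⊓ K ≤ A := fun l => n (le_inf (na.nrm k ((inf_le_inf_right K h.la).trans (nb.nrm k l))) (nb.nrm k l))
  refine ⟨h.ea.le inf_le_left, h.eb.le inf_le_left, by simpa using h.syl.inf_normal k, inf_le_inf_right K h.la, inf_le_inf_right K h.lb,
    fun s hs => ?_, fun s hs e => (h.inv s hs.1 e).imp (mi · hs.2) (mi · hs.2), fun z => n1 (z.trans inf_le_left),
    fun z => n2 (z.trans inf_le_left)⟩
  obtain ⟨a, ha, b, hb, rfl⟩ := h.mul s hs.1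
  obtain ⟨y, hy, b, hb', rfl⟩ := (mem_sup_norm (norm_of_cent (cent_symm ((inf_le_left.trans h.lb).trans (h.symm.cZ.trans
    (cent_anti nb.ZA_le)))))).1 (sup_comm (B ⊓ K) _ ▸ nb.cover inf_le_left (norm_inf nb.lN (le_top.trans k.norm)) n2 hb)
  exact ⟨a * y, mi (mul_mem ha (nb.ZA_le hy).2) ((K.mul_mem_cancel_right hb'.2).1 (mul_assoc a y b ▸ hs.2)), b, hb', mul_assoc _ _ _⟩

end CF.Cl2
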