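-- copy of `Loc.SK9` avoiding a name clash (`Comp.syl_inf`) with `Sig.S4D`
/-
Strongly closed 2-subgroups of class two in simple groups: the maximal ones are Sylow.
-/
import Cfsg.Agent.NCz.LocSK8
import Cfsg.Agent.NCz.LocTL2
set_option autoImplicit false
set_option linter.unusedSectionVars false

namespace CF.Kz
open Subgroup Cfsg CF.BG CF.Sig CF.GW CF.Ab2 CF.SC2
open CF.Loc (ncl le_ncl ncl_le ncl_le_iff ncl_le_of_le le_normalizer_ncl cj_le_ncl ncl_mono UMax)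
open CF.FF (NatOn)
open CF.PLocal (upT)
open scoped commutatorElement MatrixGroups

universe u
variable {G : Type u} [Group G] [Finite G]
variable {A B D E H K L L' M M' N P Q S T U V W X Y Z : Subgroup G} {a b c d e f g k l m n o s t u v w x y z : G}

theorem Pt.nat (h : Pt A M L M' L') : ∃ (F : Type) (_ : Field F) (_ : Fintype F) (ρ : G → SL(2, F)) (ψ : G → Fin 2 → F),
    NatOn F (Yc A L) L A ρ ψ := by
  have z : Yc A L ⊓ 𝐂 A = 𝐙 A := le_antisymm (inf_le_inf_right _ h.l.YA) (le_inf ZY inf_le_right)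
  obtain ⟨g, hg, ng⟩ := h.l.ex
  obtain ⟨F, _, _, ρ, ψ, k, -⟩ := FF.exists_natOn (W := Yc A L) (P := L) (A := A) (Q := ⊥) (M := M) h.l.abY nYc bot_le
    (by rw [sup_bot_eq]; exact h.l.u) (fun g hg ng => by
      rw [sup_bot_eq]; exact le_antisymm (sup_le h.l.aL (cj_le_of_mem hg h.l.aL)) (h.l.opp hg ng le_sup_left le_sup_right))
    (fun a ha k => h.l.cQ (by_contra fun e => h.l.u.lt.not_ge (h.l.gen hg ng ha e h.l.u.le (mem_cj_inv.1 (k _ (inv_mem hg))))))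
    ((commutator_mono h.l.YA le_rfl).trans h.l.cls) (fun U a b c => le_antisymm b (ncl_le (z ▸ a) c)) (by
      obtain ⟨v, hv, nv⟩ := h.r.exY h.r.nt
      have a := h.r.idx (VY hv) nv
      have b := h.i1
      have c := h.symm.i1
      rw [le_antisymm (sup_le h.l.YA Qc_le) h.sup] at b
      rw [le_antisymm (sup_le h.r.YA Qc_le) h.symm.sup] at c
      rw [b] at a
      show ♯(A ⊓ 𝐂 (Yc A L)) * ♯(Yc A L) ≤ ♯A * ♯(Yc A L ⊓ 𝐂 A)
      rw [z, c, mul_comm]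
      exact Nat.mul_le_mul (Nat.le_of_mul_le_mul_right a (card_pos' _)) (card_le fun x hx => h.l.cYQ hx.1 hx.2))
    fun e => h.l.nt (cent_symm (z ▸ e))
  exact ⟨F, _, inferInstance, ρ, ψ, k⟩

section
variable {F : Type} [Field F] [Fintype F] {ρ : G → SL(2, F)} {ψ : G → Fin 2 → F} (h : NatOn F Y L A ρ ψ)
include h

theorem nat_cov (hy : y ∈ Y) : ∃ l ∈ L, l * y * l⁻¹ ∈ 𝐂 A := by
  by_cases e : ψ y = 0
  · exact ⟨1, one_mem _, by simpa using (h.fix y hy).2 (congrFun e 1)⟩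
  obtain ⟨m, hm⟩ := PLocal.exists_SL2_mulVec_eq e
  obtain ⟨l, hl, rfl⟩ := h.ρsurj m
  exact ⟨l, hl, (h.fix _ (h.conj_mem hl hy)).2 (by rw [h.equiv l hl y hy]; exact congrFun hm 1)⟩

theorem nat_eq (hn : n ∈ 𝐍 Y) (hx : x ∈ Y) (hy : y ∈ Y) :
    ψ (n * (x * y⁻¹) * n⁻¹) = ψ (n * x * n⁻¹) - ψ (n * y * n⁻¹) := by
  rw [sub_eq_add_neg, ← h.ψinv (conj_mem_of_norm hn hy), ← h.ψmul _ (conj_mem_of_norm hn hx) _ (inv_mem (conj_mem_of_norm hn hy))]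
  congr 1; group

theorem nat_zero (hn : n ∈ 𝐍 Y) (ha : n ∈ 𝐍 A) (hy : y ∈ Y) : ψ (n * y * n⁻¹) 1 = 0 ↔ ψ y 1 = 0 := by
  rw [← h.fix _ (conj_mem_of_norm hn hy), ← h.fix y hy, ← mem_norm.1 (norm_le_norm_cent A ha)]

theorem nat_semi (hn : n ∈ 𝐍 Y) (ha : n ∈ 𝐍 A) (k : ∀ z ∈ Y, z ∈ 𝐂 L → n * z * n⁻¹ ∈ 𝐂 L) :
    ∃ c ≠ 0, ∃ i : ℤ, ∀ y ∈ Y, ψ y 1 ≠ 0 → ψ (n * y * n⁻¹) 1 = c * ψ y 1 ^ i := by
  classical
  choose v hv ev using fun x : F => h.ψsurj ![0, x]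
  choose r hr er using h.up'
  choose α eα using fun t => h.up _ (conj_mem_of_norm ha (hr t))
  have one := fun {x y} => nat_eq (x := x) (y := y) h (one_mem _)
  simp only [one_mul, inv_one, mul_one] at one
  have eβ : ∀ y ∈ Y, ψ (n * y * n⁻¹) 1 = ψ (n * v (ψ y 1) * n⁻¹) 1 := fun y hy => sub_eq_zero.1 (by
    rw [← Pi.sub_apply, ← nat_eq h hn hy (hv _), nat_zero h hn ha (mul_mem hy (inv_mem (hv _))), one hy (hv _), ev]; simp)
  have cm : ∀ t x, ⁅r t, v x⁆ ∈ Y := fun t x => mul_mem (h.conj_mem (h.le (hr t)) (hv x)) (inv_mem (hv x))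
  have e1 : ∀ t x, α t * ψ (n * v x * n⁻¹) 1 = α 1 * ψ (n * v (t * x) * n⁻¹) 1 := fun t x => by
    have m := mul_mem (cm t x) (inv_mem (cm 1 (t * x)))
    have := (h.ker _ (conj_mem_of_norm hn m)).2 (k _ m ((h.ker _ m).1 (by
      rw [one (cm _ _) (cm _ _), h.ψcomm_up (h.le (hr _)) (er _) (hv _), h.ψcomm_up (h.le (hr _)) (er _) (hv _), ev, ev]; simp)))
    rw [nat_eq h hn (cm _ _) (cm _ _), conjugate_commutatorElement, conjugate_commutatorElement, sub_eq_zero,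
      h.ψcomm_up (h.le (conj_mem_of_norm ha (hr _))) (eα _) (conj_mem_of_norm hn (hv _)),
      h.ψcomm_up (h.le (conj_mem_of_norm ha (hr _))) (eα _) (conj_mem_of_norm hn (hv _))] at this
    exact congrFun this 0
  have nz : ∀ x, x ≠ 0 → ψ (n * v x * n⁻¹) 1 ≠ 0 := fun x hx => by rw [Ne, nat_zero h hn ha (hv x), ev]; simpa
  have a1 : α 1 ≠ 0 := fun e => by
    have := h.infker _ (conj_mem_of_norm ha (hr 1)) (by rw [eα, e, PLocal.upT_zero])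
    rw [← mem_norm.1 (norm_le_norm_cent Y hn)] at this
    exact one_ne_zero (PLocal.upT_injective ((er 1).symm.trans ((h.ρ_eq_one_of_cent (h.le (hr 1)) this).trans PLocal.upT_zero.symm)))
  generalize hβ : (fun x => ψ (n * v x * n⁻¹) 1) = β at *
  simp only [show ∀ x, ψ (n * v x * n⁻¹) 1 = β x from congrFun hβ] at *
  have b1 := nz 1 one_ne_zero
  let σ : F →* F := ⟨⟨fun x => β x / β 1, div_self b1⟩, fun x y => by
    have := e1 x 1
    have := e1 x y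
    field_simp
    rw [mul_one] at *
    exact mul_left_cancel₀ a1 (by grind)⟩
  obtain ⟨i, hi⟩ := (Units.map σ).map_cyclic
  refine ⟨β 1, b1, i, fun y hy e => ?_⟩
  have := congrArg Units.val (hi (Units.mk0 _ e))
  rw [eβ y hy, ← mul_div_cancel₀ (β _) b1]
  exact congrArg _ (show σ _ = _ by simpa using this)

theorem nat_cen (q : ∀ y ∈ Y, y * y = 1) (nY : N ≤ 𝐍 Y) (nA : N ≤ 𝐍 A) (k : ∀ n ∈ N, ∀ z ∈ Y, z ∈ 𝐂 L → n * z * n⁻¹ ∈ 𝐂 L)
    (hs : s ∈ ⁅N, N⁆) (e : E2 s) (hy : y ∈ Y) : ⁅s, y⁆ ∈ 𝐂 A := by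
  obtain ⟨v, hv, ev⟩ := h.ψsurj ![0, 1]
  let K : Subgroup G := {
    carrier := {s | s ∈ N ∧ ∃ c ≠ 0, ∀ y ∈ Y, ψ (s * y * s⁻¹) 1 = c * ψ y 1}
    one_mem' := ⟨one_mem _, 1, one_ne_zero, by simp⟩
    mul_mem' := fun {a b} ⟨ha, c, c0, e⟩ ⟨hb, d, d0, f⟩ => ⟨mul_mem ha hb, c * d, mul_ne_zero c0 d0, fun y hy => by
      rw [mul_assoc c, ← f y hy, ← e _ (conj_mem_of_norm (nY hb) hy)]; congr 1; group⟩
    inv_mem' := fun {a} ⟨ha, c, c0, e⟩ => ⟨inv_mem ha, c⁻¹, inv_ne_zero c0, fun y hy => by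
      rw [eq_inv_mul_iff_mul_eq₀ c0, ← e _ (conj_mem_of_norm (nY (inv_mem ha)) hy)]; congr 1; group⟩ }
  obtain ⟨hs, c, -, ec⟩ : s ∈ K := (commutator_le (H₃ := K)).2 (fun a ha b hb => ⟨der_le N (commutator_mem_commutator ha hb), by
    obtain ⟨c, c0, i, ea⟩ := nat_semi h (nY ha) (nA ha) (k a ha)
    obtain ⟨d, d0, j, eb⟩ := nat_semi h (nY hb) (nA hb) (k b hb)
    refine ⟨c * d ^ i / (d * c ^ j), div_ne_zero (mul_ne_zero c0 (zpow_ne_zero _ d0)) (mul_ne_zero d0 (zpow_ne_zero _ c0)), fun y hy => ?_⟩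
    have m := der_le N (commutator_mem_commutator ha hb)
    by_cases y0 : ψ y 1 = 0
    · rw [(nat_zero h (nY m) (nA m) hy).2 y0, y0, mul_zero]
    have n := inv_mem (mul_mem hb ha)
    have hw := conj_mem_of_norm (nY n) hy
    have w0 := mt (nat_zero h (nY n) (nA n) hy).1 y0
    rw [show ⁅a, b⁆ * y * ⁅a, b⁆⁻¹ = a * (b * ((b * a)⁻¹ * y * (b * a)⁻¹⁻¹) * b⁻¹) * a⁻¹ by rw [commutatorElement_def]; group]
    conv_rhs => rw [show y = b * (a * ((b * a)⁻¹ * y * (b * a)⁻¹⁻¹) * a⁻¹) * b⁻¹ by group]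
    rw [ea _ (conj_mem_of_norm (nY hb) hw) (mt (nat_zero h (nY hb) (nA hb) hw).1 w0),
      eb _ (conj_mem_of_norm (nY ha) hw) (mt (nat_zero h (nY ha) (nA ha) hw).1 w0), ea _ hw w0, eb _ hw w0,
      mul_zpow, mul_zpow, ← zpow_mul, ← zpow_mul, mul_comm i j]
    field_simp⟩) hs
  have two : ∀ t : F, t * t = 1 → t = 1 := fun t e => by
    have := congrFun (h.ψmul v hv v hv) 1
    rw [q v hv, h.ψone, ev] at this
    have : (t - 1) ^ 2 = 0 := by simp at this; linear_combination e + (t - 1) * this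
    exact sub_eq_zero.1 (pow_eq_zero_iff two_ne_zero |>.1 this)
  have p : ∀ i : ℕ, ψ (s ^ i * v * (s ^ i)⁻¹) 1 = c ^ i := fun i => by
    induction i with
    | zero => simp [ev]
    | succ i ih => rw [pow_succ' c, ← ih, ← ec _ (conj_mem_of_norm (nY (pow_mem hs i)) hv)]; congr 1; group
  obtain ⟨i, hi⟩ := e.exists_pow (orderOf_pos s).ne'
  have := p (2 ^ i)
  rw [← hi, pow_orderOf_eq_one, hi, ← pow_zero s, p] at this
  have c1 : c = 1 := by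
    clear hi
    induction i with
    | zero => simpa using this.symm
    | succ i ih => exact ih (by rw [pow_zero, two (c ^ 2 ^ i) (by rw [← sq, ← pow_mul, ← pow_succ, ← this, pow_zero])])
  have m := conj_mem_of_norm (nY hs) hy
  refine (h.fix _ (mul_mem m (inv_mem hy))).2 ?_
  rw [h.ψmul _ m _ (inv_mem hy), h.ψinv hy, Pi.add_apply, ec y hy, c1]; simp

end

theorem Pt.pair (h : Pt A M L M' L') [IsSimpleGroup G] (hg : g ∈ 𝐍 (Yc A L)) (ng : g ∉ 𝐍 (𝐙 A)) :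
    ∃ M₃ L₃, Pt A M₃ L₃ M' L' ∧ Yc A L₃ = Yc A L ∧ L₃ ≤ A ⊔ cj g A := by
  have aY := h.l.aL.trans (nYc (A := A))
  obtain ⟨P, lP, u⟩ := FF.exists_uMax (norm_of_le le_rfl |>.trans (norm_center A)) (le_sup_left : A ≤ A ⊔ cj g A) fun e =>
    let ⟨_, a, b⟩ := h.l.conj le_top ((le_norm_self A).trans (norm_center A)) (mem_top g) (le_sup_right.trans e)
    ng ((mul_mem_cancel_left (inv_mem a)).1 (norm_center A b))
  have n : ¬ P ≤ 𝐍 (𝐙 A) := fun k => u.lt.not_ge (le_inf le_rfl k)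
  have nY := lP.trans (sup_le aY (cj_le_of_mem hg aY))
  have k : NT A _ P := ⟨⟨h.l.toHy, u, fun e => n (e.trans (norm_center A)), ZY.trans (le_Qc h.l.YA nY)⟩,
    fun e => n (norm_of_cent e)⟩
  have e := (h.two k).resolve_right fun e => h.n (cent_symm ((e.ge.trans (ncl_le ZY nY)).trans h.l.abY))
  exact ⟨_, P, ⟨k, h.r, e ▸ h.n⟩, e, lP⟩

theorem Pt.uniq (h : Pt A M L M' L') [IsSimpleGroup G] (hk : k ∈ 𝐍 (Yc A L)) (hz : z ∈ 𝐙 A) (c : z ∈ 𝐂 L) :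
    k * z * k⁻¹ ∈ 𝐙 A := by_contra fun ny => by
  obtain ⟨a, ha, na⟩ := SetLike.not_le_iff_exists.1 h.l.nQ
  have hy := conj_mem_of_norm hk (ZY hz)
  have u := h.l.cm (h.l.YA hy) ha
  obtain ⟨F, _, _, ρ, ψ, n⟩ := h.nat
  obtain ⟨l, hl, e⟩ := nat_cov n (conj_mem_of_norm' hk (ZY u))
  have m := mul_mem hk (inv_mem (nYc hl))
  obtain ⟨M₃, L₃, p, eY, lL⟩ := h.pair m fun e => ny (mem_of_eq (conj_mem_of_norm e hz) (by
    rw [mul_assoc k l⁻¹, mem_cent.1 c _ (inv_mem hl)]; group))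
  refine ny (p.l.n2 ha (fun e => na (h.l.YQ (eY ▸ p.QY e))) (eY ▸ hy) (cent_anti lL ((cent_sup _ _).ge (mi u.2 ?_))))
  rw [← cj_cent]
  exact mem_cj.2 (mem_of_eq e (by group))

theorem Pt.nY (h : Pt A M L M' L') [IsSimpleGroup G] : 𝐍 A ≤ 𝐍 (Yc A L) := by
  have q : ∀ {x M₃ L₃}, x ∈ ⊤ ⊓ 𝐍 A → NT A M₃ L₃ → cj x (Yc A L₃) = Yc A L ∨ cj x (Yc A L₃) = Yc A L' := fun hx k =>
    (cj_Yc hx.2).symm ▸ h.two (k.cj hx.2)
  refine (le_inf le_top le_rfl).trans (h.l.foc2 (h.l.ns.perf.ge.trans le_sup_right) (h.l.aL.trans nYc) fun x hx y hy nx ny =>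
    cj_eq_self.1 ?_)
  rw [← cj_cj, (q hy h.l).resolve_left (mt cj_eq_self.1 ny)]
  refine (q hx h.r).resolve_right fun e => h.n ?_
  exact (cj_le_cj.1 (((q hx h.l).resolve_left (mt cj_eq_self.1 nx)).trans e.symm).le).trans h.r.abY

theorem Pt.nZ0 (h : Pt A M L M' L') [IsSimpleGroup G] (hn : n ∈ 𝐍 A) (hz : z ∈ Yc A L) (c : z ∈ 𝐂 L) : n * z * n⁻¹ ∈ 𝐂 L :=
  let ⟨_, hg, ng⟩ := h.l.ex
  have z := mi (h.l.YA hz) (cent_anti h.l.aL c)
  h.l.cL hg ng (h.uniq (h.nY hn) z c).2 (mem_of_eq (h.uniq (mul_mem (nYc hg) (h.nY hn)) z c).2 (by group))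

theorem Pt.cY (h : Pt A M L M' L') [IsSimpleGroup G] (hs : s ∈ ⁅𝐍 A, 𝐍 A⁆) (e : E2 s) (hy : y ∈ Yc A L) : ⁅s, y⁆ ∈ 𝐙 A :=
  let ⟨_, _, _, _, _, n⟩ := h.nat
  mi (mul_mem (conj_mem_of_norm (der_le _ hs) (h.l.YA hy)) (inv_mem (h.l.YA hy)))
    (nat_cen n (fun _ => h.l.eaY) h.nY le_rfl (fun _ a _ => h.nZ0 a) hs e hy)

theorem Pt.cA (h : Pt A M L M' L') [IsSimpleGroup G] (hs : s ∈ ⁅𝐍 A, 𝐍 A⁆) (e : E2 s) (ha : a ∈ A) : ⁅s, a⁆ ∈ 𝐙 A := by
  obtain ⟨y, hy, v, hv, rfl⟩ := h.dec ha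
  exact mem_of_eq (mul_mem (h.cY hs e hy) (conj_mem_of_norm (norm_center A (le_norm_self A (h.l.YA hy)))
    (h.symm.cY hs e (h.symm.QY hv)))) (by simp only [commutatorElement_def]; group)

theorem Hy.cZ (h : Hy A) [IsSimpleGroup G] (hs : s ∈ ⁅𝐍 A, 𝐍 A⁆) (e : E2 s) : s ∈ 𝐂 (𝐙 A) := fun z hz => by
  have n := der_le _ hs
  have m := conj_mem_of_norm (norm_center A n) hz
  refine (cm1' (h.e0 (mul_mem m (inv_mem hz)) fun M L k => ?_)).symm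
  obtain ⟨M', L', p⟩ := k.pt
  obtain ⟨F, _, _, ρ, ψ, nt⟩ := p.nat
  have c : ⁅A, A⁆ ≤ 𝐂₁ s := commutator_le.2 fun a ha b hb => mem_cent1.2 (by
    have := conjugate_commutatorElement a b s
    rw [show s * a * s⁻¹ = ⁅s, a⁆ * a by rw [commutatorElement_def]; group, show s * b * s⁻¹ = ⁅s, b⁆ * b by
      rw [commutatorElement_def]; group, h.bl (p.cA hs e ha).1 ha (mul_mem (p.cA hs e hb).1 hb), h.br ha (p.cA hs e hb).1 hb,
      cm1 ((p.cA hs e ha).2 _ (mul_mem (p.cA hs e hb).1 hb)).symm, cm1 ((p.cA hs e hb).2 a ha), one_mul, one_mul] at this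
    exact (mul_inv_eq_iff_eq_mul.1 this).symm)
  have l : ⁅Yc A L, A⁆ ≤ ⁅A, A⁆ := commutator_mono k.YA le_rfl
  obtain ⟨w, hw, v, hv, rfl⟩ := (mem_sup_norm (norm_of_cent (k.abY.cent (l.trans (h.der.trans ZY)) inf_le_left))).1
    (nt.cent_eq.le (mi (ZY hz) hz.2))
  have := mul_mem (p.nZ0 n hv.1 hv.2) (inv_mem (mi2 hv))
  refine mem_of_eq (conj_mem_of_norm (norm_cent (le_norm_self L) (k.aL (der_le A (l hw)))) this) ?_
  rw [commutatorElement_def, ← mul_assoc s, ← mem_cent1.1 (c (l hw))]; group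

theorem Hy.cS (h : Hy A) [IsSimpleGroup G] (mx : ∀ B, Hy B → A ≤ B → B ≤ A) (hT : Syl 2 T ⊤) (l : A ≤ T) : T ⊓ 𝐂 A ≤ A := by
  by_contra k
  obtain ⟨D, -, ⟨cD, nD, k⟩, mn⟩ := Loc.exists_minimal_le (fun D => D ≤ 𝐂 A ∧ 𝐍 A ≤ 𝐍 D ∧ ¬ T ⊓ D ≤ A) (K₀ := 𝐂 A)
    ⟨le_rfl, norm_le_norm_cent A, k⟩
  have sc : IsStronglyClosed A T := ⟨l, fun x hx g => h.mem hT.pi l le_top hx trivial⟩
  have d : T ⊓ ⁅D, D⁆ ≤ A := by_contra fun e => by
    have := le_Rs cD (mn _ ⟨(der_le D).trans cD, nD.trans (norm_der D), e⟩ (der_le D))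
    rw [thmA ly h.ns.O sc hT, (h.ns.eq_or _ (normalIn_top.2 inferInstance)).resolve_left fun e => h.ne (eq_bot_mono e le_normalClosure)] at this
    exact k (inf_le_right.trans ((eq_bot_mono h.ns.center (le_inf le_top (this.trans Rs_le))).le.trans bot_le))
  have nW := norm_sup (le_refl (𝐍 A)) nD
  have := alp (R := fun U g => ∀ u ∈ U, u ∈ A ⊔ D ↔ g * u * g⁻¹ ∈ A ⊔ D) hT l (fun x hx g _ => sc.2 x hx g)
    ⟨fun A B g l k u hu => k u (l hu), fun A g k h1 h2 u hu => ?_, fun A g h1 u hu => ?_, fun A _ g hg u hu => ?_⟩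
    (fun U _ g hg _ u _ => mem_norm.1 (nW hg.2) u) fun U hU s d hd u hu => ?_
  · have e : T ⊓ (A ⊔ D) = A ⊔ T ⊓ D := inf_sup_left l (.inr (norm_of_cent cD))
    have c := inf_le_right.trans cD (a := T ⊓ D)
    refine k (le_sup_right.trans (e.ge.trans (mx _ ⟨sk_of_syl hT inf_le_left fun x hx g _ hg => ⟨hg, (this _ (zpowers_le.2 hx.1) g
      (mem_top g) ((cj_zpowers g x).le.trans (zpowers_le.2 hg)) x (mem_zpowers x)).1 hx.2⟩, ?_,
        fun e => h.ne (eq_bot_mono e (le_inf l le_sup_left)), h.nsc⟩ (le_inf l le_sup_left))))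
    have n := norm_of_cent (cent_symm (inf_le_right : 𝐙 A ≤ _))
    have n' := norm_of_cent (c.trans (cent_anti (inf_le_left : 𝐙 A ≤ _)))
    rw [e]
    refine (comm_sup_le (comm_sup_le' h.der ((comm_eq_bot'.2 c).le.trans bot_le) n n') (comm_sup_le' ((comm_eq_bot.2 c).le.trans bot_le)
      (le_inf ((le_inf ((der_le _).trans inf_le_left) (der_mono inf_le_right)).trans d) ((der_le _).trans c)) n n') n n').trans
      (le_cent_sup inf_le_right (inf_le_left.trans (cent_symm c)))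
  · rw [h1 u hu, h2 _ (conj_mem_cj.2 hu)]
    simp only [mul_inv_rev, mul_assoc]
  · rw [inv_inv, h1 _ (mem_cj.1 hu)]
    simp [mul_assoc]
  · rw [← hg u hu, mul_inv_cancel_right]
  · rw [← mul_mem_cancel_left (mem_sup_left ((mem_centMod.1 hd.2).2 u hu).2 : _ ∈ A ⊔ D), commutatorElement_def,
      inv_mul_cancel_right]

theorem Hy.syl (h : Hy A) [IsSimpleGroup G] (mx : ∀ B, Hy B → A ≤ B → B ≤ A) : Syl 2 A ⊤ := by
  obtain ⟨T, hT, l⟩ := exists_syl_le h.le h.pi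
  obtain ⟨M, L, k⟩ := h.exNT
  obtain ⟨M', L', p⟩ := k.pt
  have f := foc hT l fun x hx g _ => h.mem hT.pi l le_top hx trivial
  rw [h.ns.perf, inf_top_eq, top_inf_eq] at f
  have c : T ≤ centMod A (𝐙 A) ⊓ 𝐂 (𝐙 A) := (le_inf f le_rfl).trans ((sup_inf_left l (.inl ((le_norm_self A).trans
    (norm_comm_left _ _)))).le.trans (sup_le (le_inf (le_centMod.2 ⟨(le_norm_self A).trans (norm_center A), h.der⟩)
      (cent_symm inf_le_right)) fun s hs => mi (mem_centMod.2 ⟨norm_center A (der_le _ hs.1), fun _ => p.cA hs.1 (hT.pi.elt hs.2)⟩)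
        (h.cZ hs.1 (hT.pi.elt hs.2))))
  have c1 := (le_centMod.1 (c.trans inf_le_left)).2.trans (cent_symm (c.trans inf_le_right))
  have c2 : ⁅T, T⁆ ≤ 𝐂 A := comm_eq_bot.1 (le_bot_iff.1 (three_subgroup (by simp) (by simp) (by simp)
    (comm_eq_bot.2 c1).le (comm_eq_bot.2 ((commutator_comm _ _).le.trans c1)).le))
  exact le_antisymm (mx T ⟨sk_of_syl hT le_rfl fun _ _ _ _ e => e, (le_inf ((le_inf (der_le T) c2).trans (h.cS mx hT l)) c2).trans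
    (cent_symm (c.trans inf_le_right)), fun e => h.ne (eq_bot_mono e l), h.nsc⟩ l) l ▸ hT

theorem Hy.ab (h : Hy A) [IsSimpleGroup G] : ∃ Y Y' S, Cl2.AB (⊤ : Subgroup G) Y Y' S := by
  obtain ⟨A, -, h, mx⟩ := Loc.exists_maximal_ge (L := ⊤) Hy (fun _ _ => le_top) h
  obtain ⟨M, L, k⟩ := h.exNT
  obtain ⟨M', L', p⟩ := k.pt
  exact ⟨_, _, A, ab_mk fun _ => p.l.eaY, ab_mk fun _ => p.r.eaY, h.syl fun B a b => (mx B a b).le, p.l.YA, p.r.YA, fun s hs =>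
    let ⟨y, a, c, b, e⟩ := p.dec hs; ⟨y, a, c, p.symm.QY b, e⟩, fun s hs e => (p.inv hs e).imp (p.QY ·) (p.symm.QY ·),
    fun e => p.n (e.trans p.r.abY), fun e => p.symm.n (e.trans p.l.abY)⟩

end CF.Kz
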