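-- copy of `S1170` avoiding a name clash (`Comp.syl_inf`) with `Sig.S4D`
import Cfsg.Statements.S1170
import Cfsg.Agent.NCz.LocSK9
import Cfsg.Agent.S1169
import Cfsg.Agent.S0222
import Cfsg.Agent.GW.Main
import Cfsg.Agent.Classical.SmallIso

set_option autoImplicit false
open Cfsg

namespace CF.NCz.S1170

open Subgroup CF CF.BG CF.Ab2 CF.Kz
open scoped commutatorElement

/-- Let G be a finite simple group and S a Sylow 2-subgroup of G containing a subgroup A of nilpotency class two (A is not commutative and its commutator subgroup is central in A) that is strongly closed in S. Then G is isomorphic to PSL(2,F) with the number of elements of F congruent to 7 or 9 modulo 16, to PSU(3) over a field with q² elements for q ≥ 4 a power of 2, to a simple group with the order of a Suzuki group, to PSL(3,F) or PSp(4,F) over a finite field F of characteristic 2 (with at least 4 elements in the symplectic case), or to the alternating group of degree 7. -/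
theorem result {G : Type*} [Group G] [Finite G] [IsSimpleGroup G] (S : Sylow 2 G) (A : Subgroup G) (hAS : Cfsg.IsStronglyClosed A (S : Subgroup G)) (hA1 : ¬ IsMulCommutative A) (hA2 : ⁅(⊤ : Subgroup A), ⊤⁆ ≤ Subgroup.center A) : (∃ (F : Type) (_ : Field F) (_ : Fintype F), (Fintype.card F % 16 = 7 ∨ Fintype.card F % 16 = 9) ∧ Nonempty (G ≃* Matrix.ProjectiveSpecialLinearGroup (Fin 2) F)) ∨ (∃ (F : Type) (_ : Field F) (_ : Fintype F) (q : ℕ), Fintype.card F = q ^ 2 ∧ Even q ∧ 4 ≤ q ∧ Nonempty (G ≃* Cfsg.PSU 3 F q)) ∨ Cfsg.IsSuzuki G ∨ (∃ (F : Type) (_ : Field F) (_ : Fintype F), CharP F 2 ∧ Nonempty (G ≃* Matrix.ProjectiveSpecialLinearGroup (Fin 3) F)) ∨ (∃ (F : Type) (_ : Field F) (_ : Fintype F), CharP F 2 ∧ 4 ≤ Fintype.card F ∧ Nonempty (G ≃* Cfsg.PSp 2 F)) ∨ Nonempty (G ≃* alternatingGroup (Fin 7)) := by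
  haveI := Fact.mk p2
  have hS := syl_sylow_top S
  have nA : ¬ Abel (S : Subgroup G) := fun e => hA1 (e.mono hAS.1).comm
  have hG : ¬ IsMulCommutative G := fun k => nA (abel_of_forall fun x _ y _ => k.is_comm.comm x y)
  by_cases c : ∀ E : Subgroup G, Abel E → SK E ⊤ → E = ⊥
  swap
  · push Not at c
    obtain ⟨E, a, k, n⟩ := c
    obtain ⟨g, -, l⟩ := hS.syl_le_cj le_top k.pi
    obtain ⟨T, e⟩ := (hS.cj_top g).exists_sylow_top
    obtain ⟨H, hH⟩ := (Cfsg.Agent.S1169.result T E n a.comm ⟨e ▸ l, fun x hx y => k.mem (e ▸ hS.pi.cj g) (e ▸ l) le_top hx trivial⟩).resolve_left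
      fun k => nA (abel_cj.1 (e ▸ Abel.of_comm k))
    rcases Cfsg.Agent.S0222.result (by by_contra! k; exact hG ⟨⟨k⟩⟩) H hH with ⟨F, _, _, _, -, ⟨e⟩⟩ | e | e
    · let f := e.symm.toMonoidHom.comp (QuotientGroup.mk' (center (Matrix.SpecialLinearGroup (Fin 2) F)))
      have s := PLocal.isSylowIn_upU (F := F) 2
      have := (syl_mk p2 s.le (piGrp_of_isPGroup p2 s.isPGroup) s.not_dvd).map f
      rw [map_top_of_surjective f (e.symm.surjective.comp (QuotientGroup.mk'_surjective _))] at this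
      obtain ⟨g, -, e⟩ := this.syl_conj hS
      exact (nA (e ▸ abel_cj.2 ((Abelem.of_isEA p2 (PLocal.isEA_upU 2)).abel.map f))).elim
    · exact .inr (.inr (.inl e))
    · exact .inr (.inl e)
  obtain ⟨Y, Y', T, h⟩ := Hy.ab ⟨sk_of_syl hS hAS.1 fun a ha g _ => hAS.2 a ha g, by
    have := map_mono (f := A.subtype) hA2
    rw [map_commutator, map_top_subtype, center_map_subtype] at this
    exact this.trans inf_le_right, fun e => hA1 (e ▸ abel_bot).comm, c⟩
  by_cases q : 2 < Y.relIndex T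
  · obtain ⟨m, hm⟩ := (h.syl.pi.relIndex Y).exists_pow (relIndex_ne_zero' _ _)
    obtain ⟨F, _, _, e, k⟩ := h.simple q
    have c := charP_of_card_eq_prime_pow (e.trans hm)
    have : 2 ^ 2 ≤ 2 ^ m := Nat.pow_le_pow_right two_pos ((Nat.pow_lt_pow_iff_right one_lt_two).1 (hm ▸ q))
    exact .inr (.inr (.inr (k.imp (fun k => ⟨F, _, inferInstance, c, k⟩) fun k => .inl ⟨F, _, inferInstance, c, by omega, k⟩)))
  have p4 : ∀ x : T, orderOf x ∣ 4 := fun x => orderOf_dvd_of_pow_eq_one (Subtype.ext (h.pow_four x.2))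
  rcases h.two (le_antisymm (by omega) h.idx_ne) with ⟨m, ⟨e⟩⟩ | ⟨n, n3, -, x, -, e, -⟩
  swap
  · have := Nat.le_of_dvd four_pos (e ▸ p4 x)
    have := Nat.pow_le_pow_right two_pos n3
    omega
  obtain ⟨T, rfl⟩ := h.syl.exists_sylow_top
  rcases GW.gw_sylow hG T e with ⟨F, _, _, o, -, ⟨f⟩⟩ | k
  swap
  · exact .inr (.inr (.inr (.inr (.inr k))))
  refine .inl ⟨F, _, inferInstance, ?_, ⟨f⟩⟩
  have m4 := p4 (e.symm (.r 1))
  rw [MulEquiv.orderOf_eq, DihedralGroup.orderOf_r_one] at m4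
  have c1 := (Nat.card_congr e.toEquiv).trans DihedralGroup.nat_card
  have c2 := card_mul_relIndex h.la
  have c3 := card_lt ((inf_le_left : Y ⊓ Y' ≤ Y).lt_of_ne fun e => h.nab (inf_eq_left.1 e))
  have c4 := one_lt_card.2 h.Z_ne
  have c5 := h.idx_ne
  have c6 : 4 < 2 * m := by rw [← c1, ← c2]; nlinarith
  obtain rfl : m = 4 := by have := Nat.le_of_dvd four_pos m4; interval_cases m <;> omega
  have c7 := Classical.card_PSL_two (F := F)
  obtain ⟨j, hj⟩ := o
  obtain ⟨i, hi⟩ := Nat.odd_iff.2 (Nat.two_dvd_ne_zero.1 T.not_dvd_index)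
  rw [← Nat.card_congr f.toEquiv, ← (T : Subgroup G).card_mul_index, c1, hi, hj, Nat.add_sub_cancel, Nat.gcd_mul_right_right,
    show (2 * j + 1) ^ 2 - 1 = 4 * (j * (j + 1)) by rw [Nat.sub_eq_iff_eq_add (Nat.one_le_pow _ _ (by omega))]; ring] at c7
  rw [hj]
  have : ∀ r < 16, (2 * r + 1) * (4 * (r * (r + 1))) % 32 = 16 → (2 * r + 1) % 16 = 7 ∨ (2 * r + 1) % 16 = 9 := by decide
  have := this (j % 16) (Nat.mod_lt _ (by norm_num)) (by
    have : (2 * j + 1) * (4 * (j * (j + 1))) = (2 * (j % 16) + 1) * (4 * (j % 16 * (j % 16 + 1))) + 32 * (j / 16 *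
        (2 * (6 * (j % 16) ^ 2 + 6 * (j % 16) + 1) + 96 * (j / 16) * (2 * (j % 16) + 1) + 1024 * (j / 16) ^ 2)) := by
      conv_lhs => rw [← Nat.mod_add_div j 16]
      ring
    omega)
  omega

end CF.NCz.S1170
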