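-- copy of `Bm.G` avoiding a name clash (`Comp.syl_inf`) with `Sig.S4D`
import Cfsg.Agent.NCz.BmC1
import Cfsg.Agent.NCz.BmM1
import Cfsg.Agent.NCz.BmP2
import Cfsg.Agent.NCz.BmG0
import Cfsg.Agent.CIT.App
import Cfsg.Agent.Invol.Q8

/-! Baumann's theorem: the case of small pairs with a common centre. -/

set_option autoImplicit false
set_option linter.unusedSectionVars false

namespace CF.Bm

open Cfsg Subgroup CF.Loc CF.FF CF.GC
open CF.PLocal (maxAb thompson_le le_thompson upT)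
open scoped commutatorElement MatrixGroups

universe u
variable {G : Type u} [Group G] [Finite G]
variable {A B K L P P' Q U : Subgroup G} {a d e f g t u x y z : G}

/-- all pairs are small and centred at their base point -/
structure EG (G : Type u) [Group G] : Prop where
  th : TH G
  ex : ∀ d : G, Dd d → ∃ U A P P', Pa d U A P P'
  sm : ∀ (d : G) U A P P', Pa d U A P P' →
    ∃ u a, Ps (Sy d) d u a P P' ∧ U = zpowers u ⊔ zpowers d ∧ A = zpowers a ⊔ zpowers d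
  cen : ∀ d x : G, Dd d → (∀ U A P P', Pa d U A P P' → x ∈ 𝐂(P)) → x = 1

/-- the relation for the generation theorem -/
def RG (d e : G) : Prop := d = e ∨ ∃ A P P', Pa d (zpowers e ⊔ zpowers d) A P P'

theorem Ps.of_mem (h : Ps Q z u a P P') (he : e ∈ zpowers u ⊔ zpowers z) (e1 : e ≠ 1) (ez : e ≠ z) :
    Ps Q z e a P P' ∧ zpowers e ⊔ zpowers z = zpowers u ⊔ zpowers z := by
  rcases h.mem_iff.1 he with rfl | rfl | rfl | rfl
  exacts [absurd rfl e1, absurd rfl ez, ⟨h, rfl⟩, ⟨h.shift, h.sup_eq⟩]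

theorem Co.eg (h : Co K t) (m : Pa t U A P P') (k : K ≤ Yd t)
    (o : ∀ U₁ A₁ P₁ P₁', Pa t U₁ A₁ P₁ P₁' → Nat.card U₁ = 4 ∧ U₁ ⊓ A₁ = U ⊓ A) :
    EG G ∧ t ∈ K ∧ ∀ e, Dd e → IsConj t e := by
  obtain ⟨z, u, a, p, hU, -, hz⟩ := m.py.ps (o _ _ _ _ m).1
  have s : ∀ U A P P', Pa t U A P P' →
      ∃ u a, Ps (Sy t) z u a P P' ∧ U = zpowers u ⊔ zpowers z ∧ A = zpowers a ⊔ zpowers z := fun U₁ A₁ P₁ P₁' m₁ => by
    obtain ⟨z₁, u₁, a₁, p₁, e1, e2, e3⟩ := m₁.py.ps (o _ _ _ _ m₁).1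
    obtain rfl : z₁ = z := (eq_or_of_mem_zpowers p.zz (by
      rw [← hz, ← (o _ _ _ _ m₁).2, e3]; exact mem_zpowers _)).resolve_left p₁.ne
    exact ⟨u₁, a₁, p₁, e1, e2⟩
  have c : ∀ e, Dd e → Sy e = Sy t → e = z := fun e he l => by
    rw [← mul_one e, ← h.cen' k (x := z * e) fun U₁ A₁ P₁ P₁' m₁ =>
      let ⟨_, _, p₁, _⟩ := s _ _ _ _ m₁; (p₁.dd (l ▸ he.gy m.th)).2,
      ← mul_assoc, comm_of_mem (l.ge (p.l.lU (Ps.mz u z))), mul_assoc, he.sq, mul_one]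
  obtain rfl := c t h.dd rfl
  have cj : ∀ e, Dd e → ∃ g, e = g * t * g⁻¹ := fun e he =>
    let ⟨g, l⟩ := he.exists_Sy_eq h.dd; ⟨g⁻¹, by rw [← c _ (he.cj g) l]; group⟩
  refine ⟨⟨m.th, fun d hd => ?_, fun d U₁ A₁ P₁ P₁' m₁ => ?_, fun d x hd n => ?_⟩,
    h.res_le (p.l.hb.le_res' (Ps.mz u t)), fun e he => let ⟨g, l⟩ := cj e he; isConj_iff.2 ⟨g, l.symm⟩⟩
  · obtain ⟨g, rfl⟩ := cj d hd
    exact ⟨_, _, _, _, m.cj g⟩
  · obtain ⟨g, rfl⟩ := cj d m₁.1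
    obtain ⟨u₁, a₁, p₁, e1, e2⟩ := s _ _ _ _ ((show g⁻¹ * (g * t * g⁻¹) * g⁻¹⁻¹ = t by group) ▸ m₁.cj g⁻¹)
    refine ⟨g * u₁ * g⁻¹, g * a₁ * g⁻¹, by simpa only [cj_cj_inv, cj_Sy] using p₁.cj g, ?_, ?_⟩ <;>
      rw [← cj_zpowers, ← cj_zpowers, ← cj_sup]
    exacts [by rw [← e1, cj_cj_inv], by rw [← e2, cj_cj_inv]]
  · obtain ⟨g, rfl⟩ := cj d hd
    have := h.cen' k (x := g⁻¹ * x * g) fun U₁ A₁ P₁ P₁' m₁ => by
      rw [← mem_cj, cj_centralizer]; exact n _ _ _ _ (m₁.cj g)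
    rw [← mul_inv_cancel_left g x, ← mul_inv_cancel_right (g⁻¹ * x) g, this, one_mul, mul_inv_cancel]

namespace EG
variable (h : EG G)
include h

theorem ps (m : Pa d (zpowers e ⊔ zpowers d) A P P') :
    ∃ a, Ps (Sy d) d e a P P' ∧ A = zpowers a ⊔ zpowers d := by
  obtain ⟨u, a, p, e1, e2⟩ := h.sm _ _ _ _ _ m
  have c : ∀ x ∈ zpowers d, e ≠ x := fun x hx c => p.nc (by
    have : u ∈ zpowers d := (sup_le (zpowers_le.2 (c ▸ hx)) le_rfl) (e1.ge (Ps.mu u d))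
    exact (p.r.hb.ab (mem_sup_right this) a (Ps.mu a d)).symm)
  exact ⟨a, (p.of_mem (e1 ▸ Ps.mu e d) (c 1 (one_mem _)) (c d (mem_zpowers d))).1, e2⟩

theorem rg (m : Pa d U A P P') (he : e ∈ U) (e1 : e ≠ 1) : RG d e := by
  obtain ⟨u, a, p, rfl, -⟩ := h.sm _ _ _ _ _ m
  exact or_iff_not_imp_left.2 fun c => ⟨_, _, _, (p.of_mem he e1 (Ne.symm c)).2 ▸ m⟩

theorem inf_eq (m : Pa d U A P P') : U ⊓ A = zpowers d := by
  obtain ⟨u, a, p, rfl, rfl⟩ := h.sm _ _ _ _ _ m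
  exact p.inf_eq

theorem symm (r : RG d e) : RG e d := by
  rcases r with rfl | ⟨A, P, P', m⟩
  · exact Or.inl rfl
  obtain ⟨a, p, -⟩ := h.ps m
  obtain ⟨x, -, e1, e2⟩ := p.exists_conj
  exact h.rg (e1 ▸ m.cj x) (by simpa only [e2] using conj_mem_cj x (Ps.mu e d)) p.ne

theorem rl : Rl (RG (G := G)) := by
  refine ⟨fun g d e _ he _ r => ?_, fun _ _ _ _ _ => h.symm, fun d e f hd he hf _ _ c r r' => ?_, fun d e hd he b => ?_,
    fun B L d l hd _ s g hg => ?_⟩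
  · rcases r with rfl | ⟨A, P, P', m⟩
    exacts [Or.inl rfl, h.rg (m.cj g) (conj_mem_cj g (Ps.mu e d)) (he.cj g).ne]
  · rcases r with rfl | ⟨A, P, P', m⟩
    · exact r'
    rcases h.symm (Or.inr ⟨A, P, P', m⟩) with rfl | ⟨_, _, _, m₁⟩
    · exact r'
    rcases r' with rfl | ⟨_, _, _, m₂⟩
    · exact Or.inr ⟨A, P, P', m⟩
    obtain ⟨_, p₁, -⟩ := h.ps m₁
    obtain ⟨_, p₂, -⟩ := h.ps m₂
    refine or_iff_not_imp_left.2 fun n => (h.rg m ?_ hf.ne).resolve_left n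
    have := (eq_or_of_mem_zpowers (by rw [mul_assoc, ← mul_assoc f, ← c, mul_assoc, hf.sq, mul_one, hd.sq])
      ((he.gy h.th).sz p₁ p₂ n)).resolve_left he.ne
    rw [← one_mul f, ← hd.sq, mul_assoc, ← this]
    exact mul_mem (Ps.mz e d) (Ps.mu e d)
  · obtain ⟨U, A, P, P', m⟩ := h.ex d hd
    have m' := m.tr he ((((hd.gy h.th).rc m.py).2.2.trans b.le).trans inf_le_left)
    exact Or.inl ((eq_or_of_mem_zpowers he.sq (h.inf_eq m' ▸ h.inf_eq m ▸ mem_zpowers d)).resolve_left hd.ne)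
  · have key : ∀ L', SP B L L' → RG d (g * d * g⁻¹) := fun L' sp =>
      h.rg (sp.pa hd s) (conj_mem_of_mem_normalizer (l.norm_Um hg)
        ((h.inf_eq (sp.pa hd s)).ge (mem_zpowers d)).1) (hd.cj g).ne
    rcases l.partner with ⟨f, hf, rfl⟩ | ⟨L', sp⟩
    · rw [← hf.bau_eq hd s] at l key
      rcases l.caseC hd with ⟨L', sp⟩ | c
      · exact key L' sp
      obtain ⟨U, A, P, P', m⟩ := h.ex d hd
      refine absurd (fun x hx => ?_) (l.not_cent hd inf_le_left)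
      have n : x ∈ 𝐍(zpowers d) := h.inf_eq m ▸ le_normalizer_inf ((c _ _ _ _ m).trans inf_le_left)
        ((c _ _ _ _ m.symm).trans inf_le_left) hx
      exact mul_inv_eq_iff_eq_mul.1 ((eq_or_of_mem_zpowers hd.sq
        (conj_mem_of_mem_normalizer n (mem_zpowers d))).resolve_left (hd.cj x).ne)
    · exact key L' sp

theorem odd (hd : Dd d) (c : d * y = y * d) (o : Odd (orderOf y)) : y = 1 := by
  refine h.cen d y hd fun U A P P' m => ?_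
  obtain ⟨u, a, p, -, -⟩ := h.sm _ _ _ _ _ m
  have k : ∀ y, d * y = y * d → Odd (orderOf y) → y * u = u * y ∧ y ∈ 𝐂(zpowers a ⊔ zpowers d) := fun y c o =>
    have n := cent_le_norm d (mem_cz.2 c)
    ⟨(hd.gy h.th).odd p n c.symm o, le_cz_iff.1 (sup_le (zpowers_le.2 (mem_cz.2 ((hd.gy h.th).odd p.symm n c.symm o)))
      (zpowers_le.2 (mem_cz.2 c.symm)))⟩
  obtain ⟨x, hx, e1, e2⟩ := p.exists_conj
  obtain ⟨F, _, _, ρ, ψ, n⟩ := p.l
  have g0 : ρ x 1 0 ≠ 0 := fun g0 => by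
    have := p.inf_eq.le ⟨Ps.mu u d, e1 ▸ conj_mem_of_mem_normalizer (n.bor x hx g0) (Ps.mz a d)⟩
    exact (eq_or_of_mem_zpowers p.zz this).elim p.u1 p.uz'
  rw [← n.gen x hx g0, ← le_cz_iff]
  refine sup_le (le_cz_iff.2 (k y c o).2) (le_cz_iff.2 ?_)
  rw [← cj_centralizer, mem_cj]
  refine (k _ ?_ (by rwa [← orderOf_conj x, mul_assoc, mul_assoc, mul_inv_cancel, mul_one, mul_inv_cancel_left])).2
  have := (k y c o).1
  rw [← e1] at this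
  calc d * (x⁻¹ * y * x) = x⁻¹ * (x * d * x⁻¹ * y) * x := by group
    _ = _ := by rw [← this]; group

theorem cent (hd : Dd d) : IsPGroup 2 𝐂(zpowers d) :=
  isPGroup_of_forall_coprime fun _ hx o => h.odd hd (mem_cz.1 hx) (Nat.coprime_two_right.1 o)

theorem gen (hd : Dd d) (r : 𝐑[2]((⊤ : Subgroup G)) = ⊤) : Sy d ≤ closure {v | ∃ a P P', Ps (Sy d) d v a P P'} := by
  set W := closure {v | ∃ a P P', Ps (Sy d) d v a P P'}
  have n : Sy d ≤ 𝐍(W) := fun s hs => mem_normalizer_of_cj_le (by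
    rw [MonoidHom.map_closure]
    refine closure_mono ?_
    rintro _ ⟨v, ⟨a, P, P', p⟩, rfl⟩
    have := p.cj' (le_normalizer hs)
    rw [← comm_of_mem hs, mul_inv_cancel_right] at this
    exact ⟨_, _, _, this⟩)
  refine le_of_le_commutator_sup (Sy_pg d) le_rfl le_rfl n ?_
  have c : ∀ s ∈ Sy d, ∀ a ∈ Sy d, a⁻¹ * (s * a * s⁻¹) ∈ ⁅Sy d, Sy d⁆ ⊔ W := fun s hs a ha => mem_sup_left (by
    simpa only [commutatorElement_def, inv_inv, mul_assoc] using commutator_mem_commutator (inv_mem ha) hs)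
  refine (le_inf le_rfl (le_top.trans (pResidualOf_top 2 G ▸ r.ge))).trans (Invol.inf_pResidual_le_of_fusion
    ⟨le_top, Sy_pg d, hd.syl.not_dvd_relIndex⟩ c fun Q hQ z g hg o g0 b hb => ?_)
  have dQ : d ∈ Q := z ⟨hd.mem, mem_cent hQ.1⟩
  have eQ := conj_mem_of_mem_normalizer hg dQ
  have ec : g * d * g⁻¹ ∈ 𝐂(Q) := conj_mem_of_mem_normalizer (normalizer_le_normalizer_centralizer Q hg) (mem_cent hQ.1)
  rcases h.rl.all h.th hd (hd.cj g) (comm_of_mem (hQ.1 eQ)) with e | ⟨A, P, P', m⟩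
  · exact absurd (h.odd hd (eq_mul_inv_iff_mul_eq.1 e) (Nat.coprime_two_right.1 o) ▸ one_mem _) g0
  obtain ⟨a, p, -⟩ := h.ps m
  obtain ⟨x, hx, -, e⟩ := p.exists_conj
  have hs : x * g ∈ Sy d := hd.le (h.cent hd) le_rfl (mem_cz.2 (by
    rw [← mul_assoc, ← mul_inv_eq_iff_eq_mul.1 e, mul_assoc, inv_mul_cancel_right, mul_assoc]))
  have l : zpowers (g * d * g⁻¹) ⊔ zpowers d ≤ Q := sup_le (zpowers_le.2 eQ) (zpowers_le.2 dQ)
  have k := (p.l.hb.norm_of_le l ((le_inf hQ.1 (le_centralizer_comm.1 (sup_le (zpowers_le.2 ec)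
    (zpowers_le.2 (mem_cent hQ.1))))).trans p.l.cen)).1
  have w1 : g * d * g⁻¹ ∈ W := subset_closure ⟨_, _, _, p⟩
  have w : zpowers (g * d * g⁻¹) ⊔ zpowers d ≤ W := sup_le (zpowers_le.2 w1)
    (zpowers_le.2 ((mul_mem_cancel_left w1).1 (subset_closure ⟨_, _, _, p.shift⟩)))
  rw [show b⁻¹ * (g * b * g⁻¹) = b⁻¹ * (x * g * b * (x * g)⁻¹) * ⁅(g * b * g⁻¹)⁻¹, x⁆⁻¹ by
    rw [commutatorElement_def]; group]
  exact mul_mem (c _ hs b (hQ.1 hb)) (mem_sup_right (inv_mem (w (k (commutator_mem_commutator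
    (inv_mem (conj_mem_of_mem_normalizer hg hb)) hx)))))

theorem cit (hd : Dd d) (r : 𝐑[2]((⊤ : Subgroup G)) = ⊤) : CIT.IsCIT G := fun x y hx c o => by
  have s : x * x = 1 := by rw [← sq, ← hx, pow_orderOf_eq_one]
  have x1 : x ≠ 1 := fun e => by simp [e] at hx
  obtain ⟨e, he, l⟩ := hd.exists_dd (pg_of_sq s)
  obtain ⟨U, A, P, P', m⟩ := h.ex e he
  obtain ⟨u, a, p, -, -⟩ := h.sm _ _ _ _ _ m
  rcases (he.gy h.th).dih p (h.gen he r (l (mem_zpowers x))) s with e | rfl | ⟨a, P, P', p⟩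
  exacts [absurd e x1, h.odd he c.symm o, let ⟨g, _, e, _⟩ := p.exists_conj; h.odd (e ▸ he.cj g) c.symm o]

end EG

theorem Co.e2 (h : Co K t) (m : Pa t U A P P') (k : K ≤ Yd t)
    (o : ∀ U₁ A₁ P₁ P₁', Pa t U₁ A₁ P₁ P₁' → Nat.card U₁ = 4 ∧ U₁ ⊓ A₁ = U ⊓ A) : Cc K t := by
  obtain ⟨eg, m, c⟩ := h.eg m k o
  refine ⟨m, c, ?_⟩
  obtain rfl := h.eq_top m
  haveI := h.simple
  rcases ((eg.cit h.dd (pResidualOf_eq_self_of_perfect h.perf)).subgroup ⊤).simple (fun c => h.dd.ne (mem_bot.1 (h.cen.le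
    fun x hx => congrArg Subtype.val (c.is_comm.comm ⟨x, hx⟩ ⟨t, m⟩)))) with
    ⟨F, _, _, n, h1, h2, e⟩ | e | ⟨F, _, _, h2, e⟩ | ⟨F, _, _, h2, e⟩
  · exact Or.inl ⟨F, _, _, n, h1, h2, Or.inl e⟩
  · exact Or.inr (Or.inl e)
  · exact Or.inl ⟨F, _, _, 2, le_rfl, h2, Or.inr (Or.inl e)⟩
  · have := h2.seven_le
    rcases h2 with h2 | ⟨-, n, -, h2⟩
    exacts [Or.inr (Or.inr (Or.inr ⟨F, _, _, 3, by omega, Or.inl h2, e⟩)), Or.inr (Or.inr (Or.inr ⟨F, _, _, n, by omega, h2, e⟩))]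

end CF.Bm
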