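-- copy of `Holt.Lh` avoiding a name clash (`Comp.syl_inf`) with `Sig.S4D`
import Cfsg.Agent.NCz.HoltLg

/-!
# Holt's theorem, local structure: the root system in the reduced case
-/

set_option linter.unusedSectionVars false
set_option autoImplicit false

namespace CF.Holt.LS
open MulAction Subgroup Cfsg CF.BG CF.Bender CF.ZD CF.Ab2 CF.Sig Equiv
open scoped Pointwise commutatorElement

universe u

/-- additional data used for lifting a root system -/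
structure Ext {H X : Type*} [Group H] [MulAction H X] (E : Subgroup H) (𝓡 : Set (Root H X)) : Prop where
  O : 𝒪 (⊤ : Subgroup H) = ⊥
  perf : ⁅E, E⁆ = E
  nrm : E ⊴ ⊤
  cov : ∀ ⦃N d⦄, N ⊴ ⊤ → UP ⊤ (Set.univ : Set X) d → d ∈ N → E ≤ N
  dat : ∀ ⦃ρ⦄, ρ ∈ 𝓡 → ∃ Q b, (∀ q, q ∈ Q ↔ q ∈ E ⊓ FX H ρ.Ψ ∧ E2 q) ∧ ρ.R = 𝛀 2 Q ∧ ρ.R ≤ 𝐂 Q ∧
    b ∈ E ⊓ FX H ρ.Ψ ∧ Eo b ∧ Q ⊓ 𝐂₁ b = ⊥ ∧ Tr (zpowers b) ρ.R ∧ ρ.K ≤ 𝐂 (E ⊓ FX H ρ.Ψ)
  r9 : ∀ ⦃d e⦄, UP ⊤ (Set.univ : Set X) d → UP ⊤ (Set.univ : Set X) e → d * e = e * d → d ≠ e →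
    ∃ ρ ∈ 𝓡, d ∈ ρ.N ⊤ ∧ e ∈ ρ.N ⊤ ∧ d * e ∈ ρ.M ∧ d * e ∉ ρ.K
  five : 5 ≤ Nat.card X

/-- the roots -/
def RR (H X : Type u) [Group H] [MulAction H X] : Set (Root H X) := {ρ | ∃ L B, Sp L B ∧ ρ = rt L B}

/-- the alternating factors -/
def AA (H X : Type u) [Group H] [MulAction H X] : Set (Set (Set X)) :=
  {Δ | ∃ L : Subgroup H, Comp L ⊤ ∧ Alo L (Dl X L) ∧ Δ = Dl X L}

variable {H X : Type u} [Group H] [MulAction H X] [Finite H] [Finite X] {L L' Q : Subgroup H}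
  {b d e g l t : H} {a x y : X} {σ τ : Set X} {B B' : Set (Set X)} {ρ : Root H X}

variable (S : Sys H X)
include S

theorem Sys.on (k : Comp L ⊤) (al : Alo L (Dl X L)) (h : ρ ∈ RR H X) (o : On Set.univ (Dl X L) B ρ) :
    Sp L B ∧ ρ = rt L B := by
  obtain ⟨L', B', s, rfl⟩ := h
  have s' : Sp L B := ⟨k, .inl ⟨al, o.sub, o.card⟩⟩
  obtain ⟨rfl, rfl⟩ := S.uniq s s' o.eq.le
  exact ⟨s, rfl⟩

theorem Sys.RK (s : Sp L B) (s' : Sp L' B') (n : L' ≠ L) : (rt L' B').R ≤ (rt L B).K := fun _ hu =>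
  mem_FX.2 fun σ hσ => mem_FX.1 (S.other s'.1 s.1 n (Om_le _ _ hu).1) σ (s.sub hσ)

theorem Sys.MN (s : Sp L B) (h : g ∈ (rt L B).M) : g ∈ (rt L B).N ⊤ :=
  (sup_le (fun _ h => st_psi (FX_st h)) fun _ h => st_psi (T_st (Om_le _ _ h) s.sub) :
    (rt L B).M ≤ (rt L B).N ⊤) h

theorem Sys.af (k : Comp L ⊤) (al : Alo L (Dl X L)) : AF ⊤ Set.univ (RR H X) (Dl X L) := by
  have c := S.cp k
  have f := c.five
  refine ⟨fun _ => Dl_ne, fun _ _ => Set.subset_univ _, fun p _ => ⟨_, fb_mem L p, fb_self L p⟩,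
    fun _ _ h1 h2 _ => Dl_disj h1 h2, f, fun a b a' b' h1 h2 h3 h4 n n' => ?_, fun h B B' h1 h2 h3 h4 => ?_,
    fun B h1 h2 => ⟨_, ⟨L, B, ⟨k, .inl ⟨al, h1, h2⟩⟩, rfl⟩, h1, h2, rfl⟩, fun B ρ h o => ?_,
    fun B ρ h o g => ?_, fun B ρ h o u hu σ h1 h2 => ?_, fun B ρ h o σ τ h1 h2 => ?_, ?_⟩
  · obtain ⟨l, hl, e⟩ := al.two c.fin (by omega) h1 h2 h3 h4 n n'
    exact ⟨l, mi trivial (c.st hl), e⟩
  · obtain ⟨l, hl, e⟩ := al.four c.fin h h1 h2 h3 h4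
    exact ⟨l, mi trivial (c.st hl), e⟩
  · obtain ⟨s, rfl⟩ := S.on k al h o
    exact fun g hg => Dl_st (S.N s hg).1
  · obtain ⟨s, rfl⟩ := S.on k al h o
    exact mem_FX.trans (and_iff_right trivial).symm
  · obtain ⟨s, rfl⟩ := S.on k al h o
    exact mem_FX.1 (Om_le _ _ hu).2 σ ⟨h1, h2⟩
  · obtain ⟨s, rfl⟩ := S.on k al h o
    obtain ⟨Q, b, r, -, t⟩ := al.rd c.toAct0 o.sub o.card
    rw [← r.Om] at t
    exact t σ h1 τ h2
  rintro _ ⟨L', B', s', rfl⟩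
  by_cases n : L' = L
  · subst n
    rcases s'.2 with ⟨-, h1, h2⟩ | ⟨h, -⟩
    · exact .inl ⟨B', h1, h2, rfl⟩
    · exact (h al).elim
  refine .inr ⟨fun u hu => mem_FX.1 (S.other s'.1 k n (Om_le _ _ hu).1), fun B ρ h o => ?_⟩
  obtain ⟨s, rfl⟩ := S.on k al h o
  exact S.RK s' s (Ne.symm n)

theorem Sys.r9' (hd : UP ⊤ (Set.univ : Set X) d) (he : UP ⊤ (Set.univ : Set X) e) (c : d * e = e * d)
    (n : d ≠ e) : ∃ ρ ∈ RR H X, d ∈ ρ.N ⊤ ∧ e ∈ ρ.N ⊤ ∧ d * e ∈ ρ.M ∧ d * e ∉ ρ.K := by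
  obtain ⟨a, -, fa⟩ := hd.ex
  have fe := up_fix S.loc hd trivial fa trivial c.symm
  obtain ⟨L, k, h⟩ : ∃ L, Comp L ⊤ ∧ d * e ∉ FX H (Dl X L) := by
    by_contra! h
    exact n (mul_right_cancel ((S.triv fun L k => ⟨mul_mem ((S.cp k).nrm hd) ((S.cp k).nrm he),
      h L k⟩).trans he.iv.sq.symm))
  rw [mem_FX] at h
  push Not at h
  obtain ⟨σ, hσ, f⟩ := h
  have ne : σ ≠ fb L a := fun e => f (by rw [mul_smul, (S.uq k he fe hσ).2 e, (S.uq k hd fa hσ).2 e])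
  obtain ⟨B, s, h1, h2, h3⟩ := S.r9 k hd.iv.sq he.iv.sq c ((S.cp k).nrm hd) ((S.cp k).nrm he) hσ
    (fun e => ne ((S.uq k hd fa hσ).1 e)) (fun e => ne ((S.uq k he fe hσ).1 e)) f
    fun _ => ⟨_, fb_mem L a, fun τ hτ => ⟨S.uq k hd fa hτ, S.uq k he fe hτ⟩⟩
  exact ⟨_, ⟨L, B, s, rfl⟩, st_psi h1, st_psi h2, h3⟩

/-- a member of `D` stabilising a support acts without fixed points on it -/
theorem Sys.up_free (s : Sp L B) (hd : UP ⊤ (Set.univ : Set X) d) (h : d ∈ St H B) (hσ : σ ∈ B) :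
    d • σ ≠ σ := fun e => by
  obtain ⟨a, -, fa⟩ := hd.ex
  have u := fun τ hτ => S.uq (σ := τ) s.1 hd fa hτ
  rcases s.2 with ⟨-, h1, h2⟩ | ⟨-, δ, h1, rfl⟩
  · have := odd_of_uniq (e2_sq hd.iv.sq) (Set.toFinite B) (fun _ => St_mem h) hσ e fun τ hτ k =>
      ((u τ (h1 hτ)).1 k).trans ((u σ (h1 hσ)).1 e).symm
    rw [h2] at this; exact absurd this (by decide)
  · refine hσ.2 (((u σ hσ.1).1 e).trans ((u δ h1).1 (by_contra fun k => ?_)).symm)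
    have := St_mem (inv_mem h) (show d • δ ∈ Dl X L \ {δ} from ⟨St_mem (Dl_st ((S.cp s.1).nrm hd)) h1, k⟩)
    rw [inv_smul_smul] at this; exact this.2 rfl

theorem Sys.orb (s : Sp L B) (c4 : B.ncard = 4) (hd : UP ⊤ (Set.univ : Set X) d)
    (he : UP ⊤ (Set.univ : Set X) e) (h1 : d ∈ St H B) (h2 : e ∈ St H B)
    (n : d * e ∉ FX H B) (hσ : σ ∈ B) : B = {σ, d • σ, e • σ, d • e • σ} := by
  have f1 := fun τ hτ => S.up_free (σ := τ) s hd h1 hτ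
  have f2 := fun τ hτ => S.up_free (σ := τ) s he h2 hτ
  have f3 : d • e • σ ≠ σ := fun k => n (S.free s (mul_mem (S.r4 s hd.iv.sq h1 f1) (S.r4 s he.iv.sq h2 f2))
    hσ (by rwa [mul_smul]))
  refine (Set.eq_of_subset_of_ncard_le ?_ (c4.trans (Set.ncard_eq_four.2 ⟨_, _, _, _, (f1 σ hσ).symm,
    (f2 σ hσ).symm, f3.symm, fun k => f3 (by rw [← k, ← mul_smul, hd.iv.sq, one_smul]),
    fun k => f2 σ hσ (smul_left_cancel d k).symm, (f1 _ (St_mem h2 hσ)).symm, rfl⟩).symm).le).symm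
  rintro _ (rfl | rfl | rfl | rfl)
  exacts [hσ, St_mem h1 hσ, St_mem h2 hσ, St_mem h1 (St_mem h2 hσ)]

theorem Sys.cov {N : Subgroup H} (n : N ⊴ ⊤) (hd : UP ⊤ (Set.univ : Set X) d) (h : d ∈ N) : Lay ⊤ ≤ N :=
  Lay_le_iff.2 fun L k => (k.le_or_cent le_top (le_top.trans n.norm)).resolve_right fun c => by
    obtain ⟨a, -, fa⟩ := hd.ex
    obtain ⟨_, ⟨l, hl, rfl⟩, _, ⟨l', hl', rfl⟩, n⟩ := (S.act0 k a).nt
    exact n ((up_fix S.loc hd trivial fa trivial (c hl d h).symm).trans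
      (up_fix S.loc hd trivial fa trivial (c hl' d h).symm).symm)

theorem Sys.card_le (L : Subgroup H) : (Dl X L).ncard ≤ Nat.card X := by
  rw [Dl, ← Set.image_univ, ← Set.ncard_univ]; exact Set.ncard_image_le

theorem Sys.ext : Ext (Lay ⊤) (RR H X) := by
  refine ⟨S.O, Lay_perfect _, Lay_normal _, fun _ _ => S.cov, ?_, fun _ _ => S.r9', ?_⟩
  · rintro _ ⟨L, B, s, rfl⟩
    obtain ⟨Q, b, r⟩ := S.rd s
    rw [S.T_eq s, show (rt L B).R = _ from r.Om]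
    exact ⟨Q, b, r.mem, rfl, r.cen, r.bT, r.bo, r.fpf, r.tr, S.KT s⟩
  · obtain ⟨p, q, n⟩ := S.nt
    obtain ⟨L, k, -⟩ : ∃ L : Subgroup H, Comp L ⊤ ∧ fb L p ≠ fb L q := by
      by_contra! h; exact n (S.inj h)
    exact (S.cp k).five.trans (S.card_le L)

theorem Sys.s10 (s : Sp L B) (e : (rt L B).Ψ = {a}) (c : ♯(rt L B).R = 4) (t2 : t * t = 1)
    (ht : t ∈ (rt L B).N ⊤) (nc : t ∉ 𝐂 (rt L B).R) : Nat.card X = 5 := by
  have c' := S.cp s.1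
  have ha : fb L a ∉ B := s.mem_psi.1 (e.ge rfl)
  have one : ∀ σ ∈ Dl X L, σ ∉ B → σ = fb L a := fun σ hσ n => by
    obtain ⟨x, rfl⟩ := hσ
    rw [e.le (s.mem_psi.2 n)]
  have inj : Function.Injective (fb L : X → Set X) := fun x y k => by
    obtain ⟨l, hl, m⟩ := c'.tr (fb_mem L x) (fb_mem L a)
    have : ∀ z, fb L z = fb L x → l • z = a := fun z hz => e.le (s.mem_psi.2 (by
      rwa [← fb_smul (le_norm_self _ hl), hz, m]))
    exact smul_left_cancel l ((this x rfl).trans (this y k.symm).symm)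
  rw [← Set.ncard_univ, ← Set.ncard_image_of_injective _ inj, Set.image_univ]
  rcases s.2 with ⟨-, h1, h2⟩ | ⟨h, δ, h1, rfl⟩
  · rw [show Set.range (fb L) = insert (fb L a) B from Set.Subset.antisymm
      (fun σ hσ => (em (σ ∈ B)).symm.imp_left (one σ hσ)) (Set.insert_subset (fb_mem L a) h1),
      Set.ncard_insert_of_notMem ha, h2]
  · obtain ⟨Q, D, w, z, n⟩ := (c'.se h).bn c'.toAct0 h1
    rw [show (rt L (Dl X L \ {δ})).R = _ from n.rd.Om] at c nc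
    obtain ⟨h2, h3⟩ := S.N s ht
    refine n.s10 c t2 h2 (by_contra fun k => ?_) nc
    have := St_mem (inv_mem h3) (show t • δ ∈ Dl X L \ {δ} from ⟨St_mem (Dl_st h2) h1, k⟩)
    rw [inv_smul_smul] at this; exact this.2 rfl

theorem Sys.three (hd : UP ⊤ (Set.univ : Set X) d) (it : Iv t) (c : d * t = t * d)
    (c3 : (Set.univ ∩ Fx X t).ncard = 3) :
    (∃ ρ ∈ RR H X, d ∈ ρ.N ⊤ ∧ d * t ∈ ρ.M ∧ d * t ∉ ρ.K) ∨ (∀ ρ ∈ RR H X, d * t ∈ ρ.K) ∨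
      ∃ Δ ∈ AA H X, ∃ p q, Tp Set.univ (RR H X) Δ p q (d * t) := by
  rw [Set.univ_inter] at c3
  obtain ⟨a, -, fa⟩ := hd.ex
  have ft := up_fix S.loc hd trivial fa trivial c.symm
  have le : ∀ {L : Subgroup H}, Comp L ⊤ → ∀ F ⊆ Dl X L, (∀ σ ∈ F, ∃ x ∈ σ, t • x = x) → F.ncard ≤ 3 :=
    fun {L} k F hF h => c3 ▸ (Set.ncard_le_ncard (fun σ hσ => by
      obtain ⟨x, hx, e⟩ := h σ hσ
      exact ⟨x, e, (Dl_eq (hF hσ) hx).symm⟩)).trans (Set.ncard_image_le (f := fb L))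
  have nt : ∀ {L : Subgroup H}, Comp L ⊤ → t ∈ 𝐍 L := fun {L} k => by_contra fun n => by
    have := le k _ subset_rfl fun σ hσ => by
      obtain ⟨l, hl, rfl⟩ := (S.cp k).tr (fb_mem L a) hσ
      obtain ⟨h1, h2⟩ := S.diag k it.sq n hl
      exact ⟨_, by rw [mul_smul]; exact Set.smul_mem_smul_set (smul_mem_of (mem_FX.1 (cent_Dl h1) _
        (fb_mem L a)) (fb_self L a)), comm_smul h2 ft⟩
    have := (S.cp k).five
    omega
  have dd : ∀ {α : Type u} [MulAction H α] (τ : α), d • d • τ = τ := fun τ => by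
    rw [← mul_smul, hd.iv.sq, one_smul]
  by_cases h1 : ∃ L : Subgroup H, Comp L ⊤ ∧ ∃ σ ∈ Dl X L, t • σ ≠ σ ∧ (d * t) • σ ≠ σ
  · obtain ⟨L, k, σ, hσ, f2, f3⟩ := h1
    have c' := S.cp k
    obtain ⟨B, s, h1, -, h3⟩ := S.r9 k hd.iv.sq it.sq c (c'.nrm hd) (nt k) hσ
      (fun e => f2 (fix_Dl (nt k) hσ ((S.uq k hd fa hσ).1 e ▸ fb_self L a) ft)) f2 f3 fun al =>
      ⟨_, fb_mem L a, fun τ hτ => ⟨S.uq k hd fa hτ, fun e => by_contra fun ne => al (by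
        obtain ⟨Q, D, w, z, n⟩ := (c'.se al).bn c'.toAct0 (fb_mem L a)
        exact n.alo (n.three it.sq (nt k) (Dl_st (nt k)) (by rw [fb_smul (nt k), ft]) hτ ne e
          (le k _ Set.inter_subset_left fun σ hσ => S.fix1 k hσ.1 (e2_sq it.sq) hσ.2))),
        fun e => by rw [e, fb_smul (nt k), ft]⟩⟩
    exact .inl ⟨_, ⟨L, B, s, rfl⟩, st_psi h1, h3⟩
  push Not at h1
  by_cases h2 : ∀ L : Subgroup H, Comp L ⊤ → d * t ∈ FX H (Dl X L)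
  · refine .inr (.inl ?_)
    rintro _ ⟨L, B, s, rfl⟩
    exact mem_FX.2 fun σ hσ => mem_FX.1 (h2 L s.1) σ (s.sub hσ)
  simp only [mem_FX] at h2
  push Not at h2
  obtain ⟨L, k, σ, hσ, f⟩ := h2
  have c' := S.cp k
  -- moved fibres are fixed by `t` and are not the fibre of `a`
  have mv : ∀ {L : Subgroup H} {σ : Set X}, Comp L ⊤ → σ ∈ Dl X L → (d * t) • σ ≠ σ →
      t • σ = σ ∧ d • σ ≠ σ := fun k hσ f => by
    have := by_contra fun n => f (h1 _ k _ hσ n)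
    exact ⟨this, fun e => f (by rw [mul_smul, this, e])⟩
  obtain ⟨e1, e2⟩ := mv k hσ f
  obtain ⟨p, hp, fp⟩ := S.fix1 k hσ (e2_sq it.sq) e1
  obtain rfl := Dl_eq hσ hp
  have nd := c'.nrm hd
  have n1 : fb L p ≠ fb L a := fun e => e2 ((S.uq k hd fa hσ).2 e)
  have n2 : fb L (d • p) ≠ fb L p := by rwa [← fb_smul nd]
  have n3 : fb L (d • p) ≠ fb L a := fun e => n1 (by
    rw [← dd p, ← fb_smul nd, e, fb_smul nd, fa])
  have all : ∀ x, t • x = x → x = a ∨ x = p ∨ x = d • p := fun x hx => by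
    have : ({a, p, d • p} : Set X) = Fx X t := Set.eq_of_subset_of_ncard_le (by
      rintro _ (rfl | rfl | rfl)
      exacts [ft, fp, comm_smul c fp]) (c3.trans (Set.ncard_eq_three.2 ⟨_, _, _, fun e => n1 (by rw [e]),
        fun e => n3 (by rw [← e]), fun e => n2 (by rw [← e]), rfl⟩).symm).le
    exact this.ge hx
  have oth : ∀ L' : Subgroup H, Comp L' ⊤ → L' ≠ L → d * t ∈ FX H (Dl X L') := fun L' k' n => mem_FX.2 fun τ hτ =>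
    by_contra fun f' => by
      obtain ⟨g1, g2⟩ := mv k' hτ f'
      obtain ⟨x, ⟨x1, x2⟩, fx⟩ := S.fix2 k k' (fb_mem L a) hτ (S.meet k k' n.symm (fb_mem L a) hτ)
        (e2_sq it.sq) (by rw [fb_smul (nt k), ft]) g1
      rcases all x fx with rfl | rfl | rfl
      · exact g2 (fix_Dl ((S.cp k').nrm hd) hτ x2 fa)
      · exact n1 (fb_eq x1)
      · exact n3 (fb_eq x1)
  have al : ¬ ¬ Alo L (Dl X L) := fun al => al (by
    obtain ⟨Q, D, w, z, n⟩ := (c'.se al).bn c'.toAct0 (fb_mem L a)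
    exact n.alo (n.three it.sq (nt k) (Dl_st (nt k)) (by rw [fb_smul (nt k), ft]) hσ n1 e1
      (le k _ Set.inter_subset_left fun σ hσ => S.fix1 k hσ.1 (e2_sq it.sq) hσ.2)))
  rw [not_not] at al
  have nm := mul_mem nd (nt k)
  have pq : (d * t) • fb L p = fb L (d • p) := by rw [fb_smul nm, mul_smul, fp]
  have qp : (d * t) • fb L (d • p) = fb L p := by rw [fb_smul nm, mul_smul, comm_smul c fp, dd]
  refine .inr (.inr ⟨_, ⟨L, k, al, rfl⟩, _, _, hσ, fb_mem L (d • p), n2.symm, pq, qp, fun x _ =>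
    ⟨fun e => ⟨fun m => n2 (pq.symm.trans (fix_Dl nm hσ m e)),
      fun m => n2 (qp.symm.trans (fix_Dl nm (fb_mem _ _) m e)).symm⟩, fun ⟨m1, m2⟩ => S.inj fun L' k' => ?_⟩,
    ?_⟩)
  · rw [← fb_smul (mul_mem ((S.cp k').nrm hd) (nt k'))]
    by_cases n : L' = L
    swap
    · exact mem_FX.1 (oth L' k' n) _ (fb_mem _ _)
    subst n
    by_contra f'
    obtain ⟨g1, g2⟩ := mv k (fb_mem L' x) f'
    obtain ⟨y, hy, fy⟩ := S.fix1 k (fb_mem L' x) (e2_sq it.sq) g1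
    rcases all y fy with rfl | rfl | rfl
    · exact g2 (fix_Dl nd (fb_mem _ _) hy fa)
    · exact m1 ((fb_eq hy).ge (fb_self _ _))
    · exact m2 ((fb_eq hy).ge (fb_self _ _))
  · rintro _ ⟨L', B, s, rfl⟩ h
    refine mem_FX.2 fun σ hσ => mem_FX.1 (oth L' s.1 ?_) σ (s.sub hσ)
    rintro rfl
    rcases s.2 with ⟨-, h1, h2⟩ | ⟨h, -⟩
    · exact h B ⟨h1, h2, rfl⟩
    · exact h al

theorem Sys.rsys : RSys ⊤ Set.univ (RR H X) (AA H X) := by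
  have O := S.O
  constructor
  · rintro _ ⟨L, B, s, rfl⟩ g -; exact ⟨_, _, s.cj g, rt_cj g L B⟩
  · rintro _ _ ⟨L, B, s, rfl⟩ ⟨L', B', s', rfl⟩ h
    obtain ⟨rfl, rfl⟩ := S.uniq s s' h; rfl
  · exact fun _ _ => Set.subset_univ _
  · rintro _ ⟨L, B, s, rfl⟩
    obtain ⟨_, ⟨x, rfl⟩, h⟩ := S.ex s
    exact ⟨x, s.mem_psi.2 h⟩
  · exact fun _ _ => O ▸ bot_le
  · exact fun _ _ => O ▸ bot_le
  · rintro _ ⟨L, B, s, rfl⟩ g h; exact S.MN s (mem_sup_left h)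
  · rintro _ ⟨L, B, s, rfl⟩ g h; exact S.MN s (mem_sup_right h)
  · intro ρ _ g h
    rw [S.faith g fun x => mem_FX.1 h.2 x trivial]; exact one_mem _
  · rintro _ ⟨L, B, s, rfl⟩
    exact (comm_eq_bot.2 (cent_mono (S.KT s) le_rfl (Om_le 2 _))).le.trans bot_le
  · rintro _ ⟨L, B, s, rfl⟩ u hu
    obtain ⟨Q, b, r⟩ := S.rd s
    obtain ⟨σ, hσ⟩ := S.ne s
    rw [r.semi (Om_le _ _ (r.Om.le hu.1)) hσ (mem_FX.1 hu.2 σ hσ)]; exact one_mem _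
  · rintro _ ⟨L, B, s, rfl⟩ u hu
    obtain ⟨Q, b, r⟩ := S.rd s
    rw [← pow_two, r.ab.pow u (r.Om.le hu)]; exact one_mem _
  · rintro _ ⟨L, B, s, rfl⟩
    obtain ⟨Q, b, r⟩ := S.rd s
    rw [O, relIndex_bot_left, show (rt L B).R = _ from r.Om]; exact r.four
  · rintro _ ⟨L, B, s, rfl⟩ u hu -; exact S.TF s (Om_le _ _ hu)
  · rintro _ ⟨L, B, s, rfl⟩ u u' h1 h2 n1 n2
    obtain ⟨Q, b, r⟩ := S.rd s
    obtain ⟨k, hk, rfl⟩ := r.tr u (r.Om.le h1) (fun e => n1 (e ▸ one_mem _)) u' (r.Om.le h2)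
      fun e => n2 (e ▸ one_mem _)
    have kT := zpowers_le.2 r.bT hk
    refine ⟨k, st_psi (T_st kT s.sub), fun x hx => ?_, by rw [inv_mul_cancel]; exact one_mem _⟩
    rw [commutatorElement_eq_one_iff_mul_comm.2 (S.KT s hx k kT)]; exact one_mem _
  · rintro _ ⟨L, B, s, rfl⟩ t it ht h
    refine S.r4 s it.sq (S.N s ht).2 fun σ hσ e => ?_
    obtain ⟨x, hx, fx⟩ := S.fix1 s.1 (s.sub hσ) (e2_sq it.sq) e
    exact (h x trivial fx).2 ⟨σ, hσ, hx⟩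
  · rintro _ ⟨L, B, s, rfl⟩ k hk k2
    obtain ⟨σ, hσ⟩ := S.ne s
    obtain ⟨x, hx, fx⟩ := S.fix1 s.1 (s.sub hσ) k2 (mem_FX.1 hk σ hσ)
    exact ⟨x, trivial, fun h => h.2 ⟨σ, hσ, hx⟩, fx⟩
  · rintro _ ⟨L, B, s, rfl⟩ g h1 h2 p - e
    exact s.mem_psi.2 fun m => h2 (S.free s h1 m (by rw [fb_smul (S.N s (S.MN s h1)).1, e]))
  · intro d e hd he c n
    obtain ⟨ρ, h1, h2, h3, -, h4⟩ := S.r9' hd he c fun k => n (by rw [k, he.iv.sq]; exact one_mem _)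
    exact ⟨ρ, h1, h2, h3, h4⟩
  · rintro _ _ d e ⟨L, B, s, rfl⟩ ⟨L', B', s', rfl⟩ hd he c h1 h2 h3 h4 n n'
    by_cases k : L' = L
    swap
    · exact .inr (S.RK s s' k)
    subst k
    rcases s.2 with ⟨a1, a2, a3⟩ | ⟨a1, δ, a2, rfl⟩ <;> rcases s'.2 with ⟨b1, b2, b3⟩ | ⟨b1, δ', b2, rfl⟩
    · by_cases m : ∃ σ ∈ B, σ ∈ B'
      · obtain ⟨σ, m, m'⟩ := m
        exact .inl (by rw [S.orb s a3 hd he (S.N s h1).2 (S.N s h2).2 n m,
          ← S.orb s' b3 hd he (S.N s' h3).2 (S.N s' h4).2 n' m'])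
      · push Not at m
        exact .inr fun u hu => mem_FX.2 fun σ hσ => mem_FX.1 (Om_le _ _ hu).2 σ ⟨a2 hσ, m σ hσ⟩
    · exact (b1 a1).elim
    · exact (a1 b1).elim
    · obtain ⟨a, -, fa⟩ := hd.ex
      have f := (S.uq s.1 hd fa (fb_mem L' a)).2 rfl
      have k1 : fb L' a = δ := by_contra fun k => S.up_free s hd (S.N s h1).2 ⟨fb_mem L' a, k⟩ f
      have k2 : fb L' a = δ' := by_contra fun k => S.up_free s' hd (S.N s' h3).2 ⟨fb_mem L' a, k⟩ f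
      exact .inl (by rw [← k1, ← k2])
  · rintro _ ⟨L, k, al, rfl⟩; exact S.af k al
  · rintro _ _ B B' ρ ⟨L, k, al, rfl⟩ ⟨L', k', al', rfl⟩ h o o'
    obtain ⟨s, e⟩ := S.on k al h o
    obtain ⟨s', e'⟩ := S.on k' al' h o'
    rw [(S.uniq s s' (by rw [← e, ← e'])).1]
  · rintro _ ⟨L, B, s, rfl⟩
    rcases s.2 with ⟨a1, a2, a3⟩ | ⟨a1, δ, a2, rfl⟩
    · exact .inl ⟨_, ⟨L, s.1, a1, rfl⟩, B, a2, a3, rfl⟩
    refine .inr ?_
    rintro _ ⟨L', B', s', rfl⟩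
    by_cases k : L' = L
    swap
    · exact .inr (.inl (S.RK s s' k))
    subst k
    rcases s'.2 with ⟨b1, -⟩ | ⟨-, δ', b2, rfl⟩
    · exact (a1 b1).elim
    by_cases e : δ = δ'
    · exact .inl (by rw [e])
    refine .inr (.inr fun u hu => ?_)
    obtain ⟨Q, b, r⟩ := S.rd s'
    obtain ⟨h2, h3⟩ := S.N s hu.2
    rw [r.semi (Om_le _ _ (r.Om.le hu.1)) (σ := δ) ⟨a2, e⟩ (by_contra fun k => ?_)]
    · exact one_mem _
    have := St_mem (inv_mem h3) (show u • δ ∈ Dl X L' \ {δ} from ⟨St_mem (Dl_st h2) a2, k⟩)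
    rw [inv_smul_smul] at this; exact this.2 rfl
  · rintro _ ⟨L, B, s, rfl⟩ a e c t it ht ⟨u, hu, n⟩
    rw [O, relIndex_bot_left] at c
    rw [Set.ncard_univ]
    exact S.s10 s e c it.sq ht fun k => n (by
      rw [commutatorElement_eq_one_iff_mul_comm.2 (k u hu).symm]; exact one_mem _)
  · exact fun d t hd it _ => S.three hd it

omit S in
theorem Red.rsys {n : ℕ} (h : Main.{u} n) (hn : Nat.card H < n) (r : Red H X) :
    ∃ E 𝓡 𝓐, RSys (⊤ : Subgroup H) (Set.univ : Set X) 𝓡 𝓐 ∧ Ext E 𝓡 :=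
  have S : Sys H X := ⟨r, fun _ => r.cp h hn⟩
  ⟨_, _, _, S.rsys, S.ext⟩

end CF.Holt.LS
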