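-- copy of `Holt.Li` avoiding a name clash (`Comp.syl_inf`) with `Sig.S4D`
import Cfsg.Agent.NCz.HoltLh
import Cfsg.Agent.Ab2.LYp

/-!
# Holt's theorem, local structure: lifting root subgroups
-/

set_option linter.unusedSectionVars false
set_option autoImplicit false

namespace CF.Holt.LS
open MulAction Subgroup Cfsg CF.BG CF.Bender CF.ZD CF.Ab2 CF.Sig CF.SC2
open scoped Pointwise commutatorElement

variable {G H : Type*} [Group G] [Group H] [Finite G] [Finite H] {f : G →* H} {A N : Subgroup G}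
  {E K Q T U : Subgroup H} {b : H}

theorem le_map_Rs (p : ⁅E, E⁆ = E) (l : E ≤ A.map f) : E ≤ (Rs A).map f := by
  induction A using WellFoundedLT.induction with
  | ind A ih =>
    by_cases e : ⁅A, A⁆ = A
    · exact l.trans (map_mono (le_Rs le_rfl e))
    refine (ih _ ((der_le A).lt_of_ne e) ?_).trans (map_mono (Rs_mono (der_le A)))
    rw [map_commutator, ← p]; exact commutator_mono l l

theorem two_of_cent (O : 𝒪 (⊤ : Subgroup G) = ⊥) (n : N ⊴ ⊤) (h : ∀ x ∈ N, E2 x → x ∈ 𝐂 N) : P2 N := by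
  obtain ⟨S, hS⟩ := exists_syl 2 N
  have c : S ≤ 𝐂 N := fun x hx => h x (hS.le hx) (hS.pi.elt hx)
  obtain ⟨D, o, e⟩ := exists_odd_suppl (C := S) ⟨hS.le, norm_of_cent' c⟩
    fun x hx k => hS.mem_normal (norm_of_cent' c) hx k
  have l : D ≤ N := e ▸ le_sup_right
  have : D = ⊥ := BG.eq_bot_mono O ((le_O ⟨l, e ▸ sup_le (norm_of_cent (c.trans (cent_anti l)))
    (le_norm_self D)⟩ o).trans (O_le_O_of_normal n _))
  rw [← e, this, sup_bot_eq]; exact hS.pi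

theorem ker_normal (f : G →* H) : f.ker ⊴ ⊤ := normalIn_top.2 inferInstance

/-- the layer is covered by the centraliser of the kernel -/
theorem cover (O : 𝒪 (⊤ : Subgroup G) = ⊥) (p : ⁅E, E⁆ = E)
    (h : ∀ T, Syl 2 T f.ker → E ≤ (𝐂 T).map f) : E ≤ (𝐂 f.ker).map f := by
  obtain ⟨S, hS⟩ := exists_syl 2 (⊤ : Subgroup G)
  have n := ker_normal f
  refine (le_map_Rs p (h _ (hS.inf_normal n))).trans (map_mono (cent_symm (cent_of_perfect Rs_perf ?_)))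
  set K0 := Rs (𝐂 (S ⊓ f.ker))
  have ss : SS {x | x ∈ f.ker ∧ E2 x} ⊤ := ⟨⟨one_mem _, piElt_one _⟩, fun h => h.2,
    fun h _ _ => ⟨n.conj_mem trivial h.1, h.2.conj _⟩,
    fun _ k h1 h2 m1 m2 => ⟨mul_mem h1.1 h2.1, k.elt (mul_mem m1 m2)⟩⟩
  have c := comm_eq_bot.1 (BG.eq_bot_mono O (ss.ta ly S K0 hS le_top Rs_perf
    (Rs_le.trans (cent_anti (LM_le_iff.2 fun x h1 h2 => mi h2 h1.1)))))
  set W := LM {x | x ∈ f.ker ∧ E2 x} ⊤
  have nW : ⊤ ≤ 𝐍 W := fun g _ => mem_norm_of_cj_le (cj_le_iff.2 (LM_le_iff.2 fun x h1 _ =>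
    mem_cj_inv.2 (mem_LM ⟨n.conj_mem trivial h1.1, h1.2.conj _⟩ trivial)))
  have n1 : f.ker ⊓ 𝐂 W ⊴ ⊤ := n.inf ⟨le_top, norm_cent nW⟩
  have k := two_of_cent O n1 fun x hx e y hy => (hy.2 x (mem_LM ⟨hx.1, e⟩ trivial)).symm
  refine (le_inf (comm_le_left (le_top.trans n.norm)) ((commutator_mono le_top c).trans
    (comm_le_right (norm_cent nW)))).trans (cent_symm (c.trans (cent_anti fun x hx => ?_)))
  exact mem_LM ⟨hx.1, k.elt hx⟩ trivial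

theorem cj_comap (g : G) (M : Subgroup H) : cj g (M.comap f) = (cj (f g) M).comap f := by
  ext x; simp [mem_cj]

/-- the lift of a root subgroup -/
def lR (f : G →* H) (U T : Subgroup H) : Subgroup G := ⁅𝐂 f.ker ⊓ U.comap f, 𝐂 f.ker ⊓ T.comap f⁆

theorem cj_lR (g : G) (U T : Subgroup H) : cj g (lR f U T) = lR f (cj (f g) U) (cj (f g) T) := by
  rw [lR, lR, cj_comm, cj_inf, cj_inf, cj_comap, cj_comap,
    cj_of_norm (norm_cent (ker_normal f).norm (mem_top g))]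

/-- the properties of the lift -/
structure LR (f : G →* H) (D : Set G) (K U T : Subgroup H) (R : Subgroup G) : Prop where
  mem : ∀ ⦃r⦄, r ∈ R → f r ∈ U
  inj : ∀ ⦃r⦄, r ∈ R → f r = 1 → r = 1
  onto : ∀ ⦃u⦄, u ∈ U → ∃ r ∈ R, f r = u
  cen : K.comap f ≤ 𝐂 R
  tr : ∀ ⦃r r'⦄, r ∈ R → r' ∈ R → r ≠ 1 → r' ≠ 1 → ∃ g, f g ∈ T ∧ g ∈ 𝐂 (K.comap f) ∧ g * r * g⁻¹ = r'
  yy : ∀ ⦃r⦄, r ∈ R → r ≠ 1 → ∃ d ∈ D, ∃ g g', r = g * d * g⁻¹ * (g' * d * g'⁻¹) ∧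
    g * d * g⁻¹ * (g' * d * g'⁻¹) = g' * d * g'⁻¹ * (g * d * g⁻¹)

theorem lift_root {D : Set G} (sj : Function.Surjective f) (O : 𝒪 (⊤ : Subgroup G) = ⊥)
    (cov : T ≤ (𝐂 f.ker).map f) (hQ : ∀ q, q ∈ Q ↔ q ∈ T ∧ E2 q) (hU : U = 𝛀 2 Q) (UQ : U ≤ 𝐂 Q)
    (c4 : 4 ≤ ♯U) (bT : b ∈ T) (bo : Eo b) (fpf : Q ⊓ 𝐂₁ b = ⊥) (tr : Tr (zpowers b) U) (KT : K ≤ 𝐂 T)
    (hd : ∀ P, P2 P → P ≤ Q.comap f → Q ≤ P.map f → ∃ d ∈ D, d ∈ 𝐂 P ∧ d * d = 1 ∧ f d ∈ K ⊔ U ∧ f d ∉ K) :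
    LR f D K U T (lR f U T) := by
  have n := ker_normal f
  set V := 𝐂 f.ker with hV
  have nV : V ⊴ ⊤ := ⟨le_top, norm_cent n.norm⟩
  have kZ : P2 (V ⊓ f.ker) := two_of_cent O (nV.inf n) fun x hx _ y hy => hx.1 y hy.2
  set Z := V ⊓ f.ker with hZ
  have cZ : V ≤ 𝐂 Z := cent_anti inf_le_right
  have QT : Q ≤ T := fun q hq => ((hQ q).1 hq).1
  have UQ' : U ≤ Q := hU ▸ Om_le 2 Q
  have TQ : T ≤ 𝐍 Q := fun g hg => mem_norm_of fun q hq =>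
    (hQ _).2 ⟨cmem hg (QT hq), ((hQ q).1 hq).2.conj g⟩
  have TU : T ≤ 𝐍 U := hU ▸ le_norm_Om 2 TQ
  have lf : ∀ {M : Subgroup H} {x : H}, M ≤ T → x ∈ M → ∃ g ∈ V ⊓ M.comap f, f g = x := fun l hx => by
    obtain ⟨g, hg, rfl⟩ := cov (l hx); exact ⟨g, mi hg hx, rfl⟩
  have e2 : ∀ {x : G}, x ∈ V → E2 (f x) → E2 x := fun {x} hx e => by
    obtain ⟨z, -, h2, h3, h4, h5⟩ := constt_spec {2} x
    have : f z = 1 := (e.of_mem_zpowers (by
      rw [← MonoidHom.map_zpowers]; exact mem_map_of_mem f h2)).eq_one (h4.map f)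
    rw [(kZ.elt (mi (zpowers_le.2 hx h2) this)).eq_one h4, mul_one] at h5
    rwa [h5] at h3
  obtain ⟨b0, hb0, o0, rfl⟩ : ∃ g ∈ V ⊓ T.comap f, Eo g ∧ f g = b := by
    obtain ⟨g, hg, rfl⟩ := lf le_rfl bT
    obtain ⟨z, h1, h2, h3, h4, h5⟩ := constt_spec {2} g
    have : f (constt {2} g) = 1 := (h3.map f).eq_one (bo.of_mem_zpowers (by
      rw [← MonoidHom.map_zpowers]; exact mem_map_of_mem f h1))
    exact ⟨z, zpowers_le.2 hg h2, h4, by rw [← congrArg f h5, map_mul, this, one_mul]⟩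
  set T0 := V ⊓ T.comap f
  set P0 := V ⊓ Q.comap f
  set U0 := V ⊓ U.comap f
  set B := zpowers b0
  set K0 := K.comap f
  have BT : B ≤ T0 := zpowers_le.2 hb0
  have PT : P0 ≤ T0 := inf_le_inf_left _ (comap_mono QT)
  have UP : U0 ≤ P0 := inf_le_inf_left _ (comap_mono UQ')
  have kP : P2 P0 := piGrp_of_forall_elt fun x hx => e2 hx.1 ((hQ _).1 hx.2).2
  have nrm : ∀ {M : Subgroup H}, T ≤ 𝐍 M → T0 ≤ 𝐍 (V ⊓ M.comap f) := fun h g hg => mem_norm_of fun x hx =>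
    mi (cmem hg.1 hx.1) (by simpa using conj_mem_of_norm (h hg.2) hx.2)
  have nP := nrm TQ
  have nU := nrm TU
  have ZU : Z ≤ U0 := fun z hz => mi hz.1 (by rw [mem_comap, show f z = 1 from hz.2]; exact one_mem _)
  have cm : ⁅T0, K0⁆ ≤ Z := commutator_le.2 fun x hx k hk => mi (Hir.comm_mem_l hx.1 (nV.norm trivial))
    (by rw [MonoidHom.mem_ker, map_commutatorElement, commutatorElement_eq_one_iff_mul_comm]
        exact KT hk _ hx.2)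
  have KB : K0 ≤ 𝐂 B := cent_symm (zpowers_le.2 fun k hk => by
    have h1 := cm (commutator_mem_commutator (inv_mem hb0) hk)
    have h2 : k * b0 * k⁻¹ = b0 * ⁅b0⁻¹, k⁆ := by rw [commutatorElement_def]; group
    have h3 := constt_eq' (kZ.elt h1) o0 (cZ hb0.1 _ h1)
    rw [cZ hb0.1 _ h1, ← h2, constt_of_pi (o0.conj k)] at h3
    exact mul_inv_eq_iff_eq_mul.1 h3)
  have tri : K0 ≤ 𝐂 ⁅B, P0⁆ := comm_eq_bot'.1 (commutator_commutator_eq_bot_of_rotate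
    (BG.eq_bot_mono (comm_eq_bot'.2 (BT.trans (inf_le_left.trans cZ)))
      (commutator_mono ((commutator_mono PT le_rfl).trans cm) le_rfl))
    (by rw [comm_eq_bot.2 KB, commutator_bot_left]))
  have cB : P0 ⊓ 𝐂 B ≤ Z := fun x hx => mi hx.1.1 (eq_one_of_mem_bot fpf (mi hx.1.2 (mem_cent1.2 (by
    rw [← map_mul, ← map_mul, hx.2 b0 (mem_zpowers b0)]))))
  obtain ⟨d, dD, dP, d2, dM, dK⟩ := hd P0 kP inf_le_right fun _ => lf QT
  obtain ⟨k1, hk1, u1, hu1, e1⟩ := (mem_sup_norm (norm_of_cent (KT.trans (cent_anti (UQ'.trans QT))))).1 dM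
  obtain ⟨u, hu, rfl⟩ := lf (UQ'.trans QT) hu1
  have u1 : f u ≠ 1 := fun e => dK (by rwa [← e1, e, mul_one])
  have kK : d * u⁻¹ ∈ K0 := by rw [mem_comap, map_mul, map_inv, ← e1, mul_inv_cancel_right]; exact hk1
  have kP0 : d * u⁻¹ ∈ 𝐂 P0 := by
    have : ⁅P0, B⁆ ⊔ (P0 ⊓ 𝐂 B) = P0 := comm_sup_inf_cent (BT.trans nP) (cop2' o0.zpowers kP) (.inr kP.sol)
    refine cent_anti this.ge ?_
    rw [cent_sup, Subgroup.commutator_comm]
    exact mi (tri kK) (cent_anti cB (mul_mem (cent_anti (ZU.trans UP) dP) (inv_mem (cZ hu.1))))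
  have uP : u ∈ 𝐂 P0 := mem_of_eq (mul_mem (inv_mem kP0) dP) (by group)
  have lB : ∀ {x : H}, x ∈ zpowers (f b0) → ∃ g ∈ B, f g = x := fun hx => by
    rw [← MonoidHom.map_zpowers] at hx; exact hx
  have cU : U0 ≤ 𝐂 P0 := fun x hx => by
    have z : ∀ {y : G}, y ∈ V → y ∈ 𝐂 P0 → f y = f x → x ∈ 𝐂 P0 := fun {y} h1 h2 e =>
      mem_of_eq (mul_mem h2 (cent_symm (inf_le_left.trans cZ) (mi (mul_mem (inv_mem h1) hx.1)
        (show f (y⁻¹ * x) = 1 by rw [map_mul, map_inv, e, inv_mul_cancel])))) (by group)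
    by_cases e : f x = 1
    · exact z (one_mem _) (one_mem _) (by rw [map_one, e])
    obtain ⟨g, hg, e⟩ := tr _ hu.2 u1 _ hx.2 e
    obtain ⟨g, hg', rfl⟩ := lB hg
    exact z (cmem (BT hg').1 hu.1) (conj_mem_of_norm (norm_cent nP (BT hg')) uP) (by simpa using e)
  have ab : Abel U0 := cU.trans (cent_anti UP)
  have kU := kP.le UP
  have RU : lR f U T ≤ U0 := comm_le_left nU
  have inj : ∀ ⦃r⦄, r ∈ lR f U T → f r = 1 → r = 1 := fun r hr e => by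
    obtain ⟨D, o, k⟩ := exists_odd_suppl (C := P0) ⟨PT, nP⟩ fun x hx e =>
      mi hx.1 ((hQ _).2 ⟨hx.2, e.map f⟩)
    have l : D ≤ T0 := k ▸ le_sup_right
    refine eq_one_of_mem_bot (ab.comm_inf_cent (l.trans nU) (cop2' o kU)) (mi ?_
      (cent_symm (l.trans (inf_le_left.trans cZ)) (mi (RU hr).1 e)))
    exact (commutator_mono le_rfl k.ge).trans (comm_sup_le' ((comm_eq_bot.2 cU).le.trans bot_le) le_rfl
      (norm_of_cent (cent_symm ((comm_le_left (l.trans nU)).trans cU))) (norm_comm_right _ _)) hr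
  have dec : ∀ x ∈ U0, ∃ r ∈ ⁅U0, B⁆, f r = f x := fun x hx => by
    have := ab.dprod_cent_comm (BT.trans nU) (cop2' o0.zpowers kU)
    obtain ⟨z, hz, r, hr, rfl⟩ := (mem_sup_norm (norm_of_cent this.cent')).1 (this.sup.ge hx)
    exact ⟨r, hr, by rw [map_mul, show f z = 1 from (cB (mi (UP hz.1) hz.2)).2, one_mul]⟩
  have BR : ⁅U0, B⁆ ≤ lR f U T := commutator_mono le_rfl BT
  have eq : ∀ {r r' : G}, r ∈ lR f U T → r' ∈ lR f U T → f r = f r' → r = r' := fun h1 h2 e =>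
    inv_mul_eq_one.1 (inj (mul_mem (inv_mem h1) h2) (by rw [map_mul, map_inv, e, inv_mul_cancel]))
  have nR : B ≤ 𝐍 (lR f U T) := BT.trans (norm_comm_right _ _)
  have trR : ∀ ⦃r r'⦄, r ∈ lR f U T → r' ∈ lR f U T → r ≠ 1 → r' ≠ 1 → ∃ g ∈ B, g * r * g⁻¹ = r' :=
    fun r r' h1 h2 n1 n2 => by
      obtain ⟨g, hg, e⟩ := tr _ (RU h1).2 (fun e => n1 (inj h1 e)) _ (RU h2).2 fun e => n2 (inj h2 e)
      obtain ⟨g, hg', rfl⟩ := lB hg
      exact ⟨g, hg', eq (conj_mem_of_norm (nR hg') h1) h2 (by simpa using e)⟩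
  refine ⟨fun r hr => (RU hr).2, inj, fun x hx => ?_, cent_symm fun r hr => ?_, fun r r' h1 h2 n1 n2 => ?_,
    fun r hr r1 => ?_⟩
  · obtain ⟨g, hg, rfl⟩ := lf (UQ'.trans QT) hx
    exact (dec g hg).imp fun _ h => ⟨BR h.1, h.2⟩
  · obtain ⟨r', h1, e⟩ := dec r (RU hr)
    rw [← eq (BR h1) hr e]
    exact cent_symm tri (by rw [Subgroup.commutator_comm]; exact commutator_mono UP le_rfl h1)
  · obtain ⟨g, hg, e⟩ := trR h1 h2 n1 n2
    exact ⟨g, (BT hg).2, cent_symm KB hg, e⟩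
  have bB := mem_zpowers b0
  have u' := conj_mem_of_norm (nU hb0) hu
  have e : b0 * d * b0⁻¹ = d * u⁻¹ * (b0 * u * b0⁻¹) := by
    calc b0 * d * b0⁻¹ = b0 * (d * u⁻¹) * (u * b0⁻¹) := by group
      _ = _ := by rw [KB kK b0 bB]; group
  have du := dP u (UP hu)
  have r0 : d * (b0 * d * b0⁻¹) = ⁅u⁻¹, b0⁆ := by
    rw [e, ← mul_assoc d, ← mul_assoc d, d2, commutatorElement_def]; group
  obtain ⟨g, hg, rfl⟩ := trR (BR (commutator_mem_commutator (inv_mem hu) bB)) hr (fun k => u1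
    (eq_one_of_mem_bot fpf (mi (UQ' hu.2) (mem_cent1.2 (by
      rw [← map_mul, ← map_mul, (Commute.inv_left_iff.1 (commutatorElement_eq_one_iff_commute.1 k)).eq]))))) r1
  refine ⟨d, dD, g, g * b0, by rw [← r0]; group, ?_⟩
  have c : d * (b0 * d * b0⁻¹) = b0 * d * b0⁻¹ * d := by
    rw [e]
    exact mem_cent1.1 (mul_mem (mul_mem (self_mem_cent1 d) (inv_mem (mem_cent1.2 du)))
      (mem_cent1.2 (dP _ (UP u')))) |>.symm
  calc _ = g * (d * (b0 * d * b0⁻¹)) * g⁻¹ := by group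
    _ = _ := by rw [c]; group

end CF.Holt.LS
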