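-- copy of `Holt.Lj` avoiding a name clash (`Comp.syl_inf`) with `Sig.S4D`
import Cfsg.Agent.NCz.HoltLi

/-!
# Holt's theorem: the local structure theorem
-/

set_option linter.unusedSectionVars false
set_option autoImplicit false

namespace CF.Holt.LS
open MulAction Subgroup Cfsg CF.BG CF.Bender CF.ZD CF.Ab2 CF.Sig
open scoped Pointwise commutatorElement

universe u

variable {G : Type*} {Ω : Type u} {H X Γ : Type*} [Group G] [MulAction G Ω] [Group H] [MulAction H X]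
  [Group Γ] {C : Subgroup G} {Φ : Set Ω} {f : C →* H} {β : Ω → X} {π : C →* Γ} {φ : Γ →* H}
  {E : Subgroup H} {𝓡 : Set (Root H X)} {𝓐 : Set (Set (Set X))}

/-- the data for lifting -/
structure LF (f : C →* H) (β : Ω → X) (Φ : Set Ω) (π : C →* Γ) (φ : Γ →* H) (E : Subgroup H)
    (𝓡 : Set (Root H X)) (𝓐 : Set (Set (Set X))) : Prop where
  c : Cov C Φ f β
  nt : ∃ p q : X, p ≠ q
  sj : Function.Surjective π
  ker : ∀ ⦃g⦄, g ∈ C → (ext π g = 1 ↔ g ∈ 𝒪 C)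
  O : 𝒪 (⊤ : Subgroup Γ) = ⊥
  fac : ∀ g, φ (ext π g) = ext f g
  s : RSys ⊤ Set.univ 𝓡 𝓐
  x : Ext E 𝓡

/-- the lift of a root -/
def lift (f : C →* H) (β : Ω → X) (Φ : Set Ω) (π : C →* Γ) (φ : Γ →* H) (E : Subgroup H) (ρ : Root H X) :
    Root G Ω := ⟨pb Φ β ρ.Ψ, up f ρ.K, up π (lR φ ρ.R (E ⊓ FX H ρ.Ψ))⟩

theorem cj_up {g : G} (hg : g ∈ C) (M : Subgroup H) : cj g (up f M) = up f (cj (ext f g) M) := by
  ext x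
  rw [mem_cj, mem_up, mem_up, mem_cj]
  constructor
  · rintro ⟨h1, h2⟩
    have hx : x ∈ C := mem_of_eq (cmem hg h1) (by group)
    exact ⟨hx, by rwa [ext_mul (mul_mem (inv_mem hg) hx) hg, ext_mul (inv_mem hg) hx, ext_inv hg] at h2⟩
  · rintro ⟨hx, h2⟩
    exact ⟨cmem' hg hx, by rwa [ext_mul (mul_mem (inv_mem hg) hx) hg, ext_mul (inv_mem hg) hx, ext_inv hg]⟩

theorem pb_psi (B : Set (Set X)) : Φ \ ⋃₀ (pb Φ β '' B) = pb Φ β (Set.univ \ ⋃₀ B) := by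
  ext p
  refine and_congr_right fun hp => ⟨fun h => ⟨trivial, fun ⟨σ, h1, h2⟩ => h ⟨_, ⟨σ, h1, rfl⟩, hp, h2⟩⟩, ?_⟩
  rintro h ⟨_, ⟨σ, h1, rfl⟩, h2⟩
  exact h.2 ⟨σ, h1, h2.2⟩

variable [Finite G] [Finite Ω] [Finite H] [Finite X] [Finite Γ] {ρ ρ' : Root H X} {d e g k t u : G}
  {Δ B : Set (Set X)} {p : Ω}

local notation "𝐋" => lift f β Φ π φ E

namespace LF
variable (z : LF f β Φ π φ E 𝓡 𝓐)
include z

theorem sjφ : Function.Surjective φ := fun h => by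
  obtain ⟨g, -, rfl⟩ := ext_surj z.c.surj h; exact ⟨_, z.fac g⟩

theorem one (hg : g ∈ 𝒪 C) : ext f g = 1 := by rw [← z.fac, (z.ker (O_le _ _ hg)).2 hg, map_one]

theorem bot {h : H} (k : h ∈ 𝒪 (⊤ : Subgroup H)) : h = 1 := eq_one_of_mem_bot z.x.O k

theorem exd {P : Subgroup Γ} (k : P2 P) {x : X} (h : ∀ g ∈ P, φ g • x = x) :
    ∃ d, UP C Φ d ∧ ext π d ∈ 𝐂 P ∧ ext f d • x = x := by
  obtain ⟨S, -, hS, o⟩ := lift_two z.sj k bot_le (piGrp_bot _)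
  have l := hS.le.trans up_le
  obtain ⟨p, hp, rfl, e⟩ := z.c.fix2 (x := x) l hS.pi fun g hg => z.fac g ▸ h _ (mem_up.1 (hS.le hg)).2
  obtain ⟨d, hd, h1, h2⟩ := z.c.loc.cen l hS.pi hp e
  refine ⟨d, hd, fun y hy => ?_, z.c.fix hd.mem hp h2⟩
  obtain ⟨g, hg, rfl⟩ := o y hy
  exact ext_c (l hg) hd.mem (h1 g hg)

theorem cov : E ≤ (𝐂 φ.ker).map φ := cover z.O z.x.perf fun T hT => by
  obtain ⟨x, -⟩ := z.nt
  obtain ⟨d, h1, h2, -⟩ := z.exd hT.pi (x := x) fun g hg => by rw [show φ g = 1 from hT.le hg, one_smul]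
  refine z.x.cov ⟨le_top, fun g _ => ?_⟩ (z.c.upx z.nt h1) ⟨_, h2, z.fac d⟩
  obtain ⟨g, rfl⟩ := z.sjφ g
  obtain ⟨j, hj, n, hn, rfl⟩ := (mem_sup_norm' (le_top.trans (ker_normal φ).norm)).1
    ((hT.syl_frattini_sup (ker_normal φ)).ge (mem_top g))
  rw [map_mul, show φ j = 1 from hj, one_mul, ← cj_eq_self, ← map_cj,
    cj_of_norm (norm_le_norm_cent _ hn.2)]

theorem lr (h : ρ ∈ 𝓡) : LR φ (ext π '' {d | UP C Φ d}) ρ.K ρ.R (E ⊓ FX H ρ.Ψ) (lR φ ρ.R (E ⊓ FX H ρ.Ψ)) := by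
  obtain ⟨Q, b, h1, h2, h3, h4, h5, h6, h7, h8⟩ := z.x.dat h
  have c4 := z.s.four h
  rw [z.x.O, relIndex_bot_left] at c4
  refine lift_root z.sjφ z.O (inf_le_left.trans z.cov) h1 h2 h3 c4 h4 h5 h6 h7 h8 fun P k l l' => ?_
  obtain ⟨x, hx⟩ := z.s.ne h
  obtain ⟨d, hd, c, fx⟩ := z.exd k (x := x) fun g hg => mem_FX.1 ((h1 _).1 (l hg)).1.2 x hx
  have ud := z.c.upx z.nt hd
  refine ⟨_, ⟨d, hd, rfl⟩, c, ext_sq hd.mem hd.iv.sq, ?_, fun k => ?_⟩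
  · obtain ⟨v, hv, v1⟩ := exists_mem_ne_one (one_lt_card.1 (by omega : 1 < ♯ρ.R))
    have vQ : v ∈ Q := Om_le _ _ (h2.le hv)
    have cv : ext f d * v = v * ext f d := by
      obtain ⟨y, hy, rfl⟩ := l' vQ
      rw [← z.fac, ← map_mul, ← c y hy, map_mul]
    rw [z.fac]
    refine z.s.r4 h ud.iv (mi trivial (mem_St_of (Set.toFinite _) fun y hy => z.s.r7 h (mem_sup_right hv)
      (fun k => v1 (z.bot (z.s.inf h (mi hv k)))) trivial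
      (comm_smul cv (mem_FX.1 ((h1 _).1 vQ).1.2 y hy)))) fun y _ e => ?_
    rwa [ud.uniq trivial trivial e fx]
  · rw [z.fac] at k
    obtain ⟨y, -, h1, h2⟩ := z.s.r5 h k (e2_sq ud.iv.sq)
    exact h1 (ud.uniq trivial trivial fx h2 ▸ hx)

theorem memN : g ∈ (𝐋 ρ).N C ↔ g ∈ C ∧ ext f g ∈ ρ.N ⊤ := and_congr_right fun hg => by
  show g • pb Φ β ρ.Ψ = pb Φ β ρ.Ψ ↔ _
  rw [z.c.pb_smul hg, z.c.pb_inj.eq_iff]
  exact (and_iff_right trivial).symm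

theorem RU (h : ρ ∈ 𝓡) (hu : u ∈ (𝐋 ρ).R) : ext f u ∈ ρ.R := z.fac u ▸ (z.lr h).mem (mem_up.1 hu).2

theorem RO (h : ρ ∈ 𝓡) (hu : u ∈ (𝐋 ρ).R) (e : ext f u = 1) : u ∈ 𝒪 C :=
  (z.ker (up_le hu)).1 ((z.lr h).inj (mem_up.1 hu).2 ((z.fac u).trans e))

theorem onto (h : ρ ∈ 𝓡) {v : H} (hv : v ∈ ρ.R) : ∃ u ∈ (𝐋 ρ).R, ext f u = v := by
  obtain ⟨r, hr, rfl⟩ := (z.lr h).onto hv
  obtain ⟨u, hu, rfl⟩ := ext_surj z.sj r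
  exact ⟨u, mem_up.2 ⟨hu, hr⟩, (z.fac u).symm⟩

theorem memM (h : ρ ∈ 𝓡) : g ∈ (𝐋 ρ).M ↔ g ∈ C ∧ ext f g ∈ ρ.M := by
  refine ⟨fun k => mem_up.1 ((sup_le (fun x hx => mem_up.2 ⟨up_le hx, mem_sup_left (mem_up.1 hx).2⟩)
    fun x hx => mem_up.2 ⟨up_le hx, mem_sup_right (z.RU h hx)⟩ : (𝐋 ρ).M ≤ up f ρ.M) k), fun ⟨h1, h2⟩ => ?_⟩
  obtain ⟨k, hk, v, hv, e⟩ := (mem_sup_norm (norm_of_cent (comm_eq_bot.1
    (BG.eq_bot_mono z.x.O (z.s.comm h))))).1 h2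
  obtain ⟨u, hu, rfl⟩ := z.onto h hv
  have uC := up_le hu
  exact mem_of_eq (mul_mem_sup (mem_up.2 ⟨mul_mem h1 (inv_mem uC), by
    rwa [ext_mul h1 (inv_mem uC), ext_inv uC, ← e, mul_inv_cancel_right]⟩) hu) (inv_mul_cancel_right g u).symm

theorem RK (h : ρ' ∈ 𝓡) (l : ρ'.R ≤ ρ.K) : (𝐋 ρ').R ≤ (𝐋 ρ).K := fun _ hu =>
  mem_up.2 ⟨up_le hu, l (z.RU h hu)⟩

theorem cj (hg : g ∈ C) (ρ : Root H X) : (𝐋 ρ).cj g = 𝐋 (ρ.cj (ext f g)) := by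
  refine Root.ext (z.c.pb_smul hg _) (cj_up hg _) ((cj_up hg _).trans ?_)
  rw [cj_lR, cj_inf, cj_FX, z.fac, cj_of_norm (z.x.nrm.norm (mem_top _))]; rfl

theorem idx (h : ρ ∈ 𝓡) : (𝒪 C).relIndex (𝐋 ρ).R = (𝒪 ⊤).relIndex ρ.R := by
  let ψ : (𝐋 ρ).R →* H := f.comp (inclusion up_le)
  have e : ∀ x, ψ x = ext f x := fun x => (ext_eq (up_le x.2)).symm
  rw [z.x.O, relIndex_bot_left, relIndex, show (𝒪 C).subgroupOf (𝐋 ρ).R = ψ.ker from Subgroup.ext fun x =>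
    ⟨fun k => (e x).trans (z.one k), fun k => z.RO h x.2 ((e x).symm.trans k)⟩, index_ker,
    show ψ.range = ρ.R from Subgroup.ext fun x => ⟨by rintro ⟨y, rfl⟩; exact e y ▸ z.RU h y.2, fun k => by
      obtain ⟨u, hu, rfl⟩ := z.onto h k; exact ⟨⟨u, hu⟩, e _⟩⟩]

theorem on (o : On Set.univ Δ B ρ) : On Φ (pb Φ β '' Δ) (pb Φ β '' B) (𝐋 ρ) :=
  ⟨Set.image_mono o.sub, by rw [Set.ncard_image_of_injective _ z.c.pb_inj, o.card], by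
    rw [pb_psi, ← o.eq]; rfl⟩

theorem on' {B' : Set (Set Ω)} (o : On Φ (pb Φ β '' Δ) B' (𝐋 ρ)) :
    ∃ B, B' = pb Φ β '' B ∧ On Set.univ Δ B ρ := by
  obtain ⟨B, h, rfl⟩ := Set.subset_image_iff.1 o.sub
  exact ⟨B, rfl, h, by rw [← Set.ncard_image_of_injective _ z.c.pb_inj, o.card],
    z.c.pb_inj (o.eq.trans (pb_psi B))⟩

theorem img (hg : g ∈ C) (B : Set (Set X)) : g • (pb Φ β '' B) = pb Φ β '' (ext f g • B) := by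
  rw [← Set.image_smul, ← Set.image_smul, Set.image_image, Set.image_image]
  exact Set.image_congr fun σ _ => z.c.pb_smul hg σ

theorem stD (hg : g ∈ C) (h : ext f g ∈ St H Δ) : g ∈ St G (pb Φ β '' Δ) := by
  rw [mem_St, z.img hg, mem_St.1 h]

theorem af (a : AF ⊤ Set.univ 𝓡 Δ) : AF C Φ (𝐋 '' 𝓡) (pb Φ β '' Δ) := by
  have cd : ∀ B, (pb Φ β '' B).ncard = B.ncard := fun B => Set.ncard_image_of_injective B z.c.pb_inj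
  constructor
  · rintro _ ⟨σ, h, rfl⟩
    obtain ⟨x, hx⟩ := a.ne h
    obtain ⟨p, hp, rfl⟩ := z.c.onto x
    exact ⟨p, hp, hx⟩
  · rintro _ ⟨σ, -, rfl⟩; exact Set.inter_subset_left
  · intro p hp
    obtain ⟨σ, h1, h2⟩ := a.cov (Set.mem_univ (β p))
    exact ⟨_, ⟨σ, h1, rfl⟩, hp, h2⟩
  · rintro _ _ ⟨σ, h, rfl⟩ ⟨τ, h', rfl⟩ p h1 h2
    rw [a.disj h h' h1.2 h2.2]
  · rw [cd]; exact a.five
  · rintro _ _ _ _ ⟨p, h1, rfl⟩ ⟨q, h2, rfl⟩ ⟨p', h3, rfl⟩ ⟨q', h4, rfl⟩ n n'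
    obtain ⟨g, hg, rfl, rfl⟩ := a.t2 h1 h2 h3 h4 (fun e => n (by rw [e])) fun e => n' (by rw [e])
    obtain ⟨g, gC, rfl⟩ := ext_surj z.c.surj g
    exact ⟨g, mi gC (z.stD gC hg.2), z.c.pb_smul gC _, z.c.pb_smul gC _⟩
  · intro h B B' h1 h2 h3 h4
    obtain ⟨B, k1, rfl⟩ := Set.subset_image_iff.1 h1
    obtain ⟨B', k2, rfl⟩ := Set.subset_image_iff.1 h2
    rw [cd] at h h3 h4
    obtain ⟨g, hg, rfl⟩ := a.t4 h k1 k2 h3 h4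
    obtain ⟨g, gC, rfl⟩ := ext_surj z.c.surj g
    exact ⟨g, mi gC (z.stD gC hg.2), z.img gC _⟩
  · intro B h1 h2
    obtain ⟨B, k1, rfl⟩ := Set.subset_image_iff.1 h1
    obtain ⟨ρ, h, o⟩ := a.rt k1 (by rwa [cd] at h2)
    exact ⟨_, ⟨ρ, h, rfl⟩, z.on o⟩
  · rintro B _ ⟨ρ, h, rfl⟩ o0 g hg
    obtain ⟨B, rfl, o⟩ := z.on' o0
    exact z.stD hg.1 (a.st h o (z.memN.1 hg).2)
  · rintro B _ ⟨ρ, h, rfl⟩ o0 g
    obtain ⟨B, rfl, o⟩ := z.on' o0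
    refine mem_up.trans (and_congr_right fun hg => ?_)
    rw [a.K_iff h o, and_iff_right (mem_top _), Set.forall_mem_image]
    exact forall₂_congr fun σ _ => by rw [z.c.pb_smul hg, z.c.pb_inj.eq_iff]
  · rintro B _ ⟨ρ, h, rfl⟩ o0 u hu _ ⟨σ, h1, rfl⟩ h2
    obtain ⟨B, rfl, o⟩ := z.on' o0
    rw [z.c.pb_smul (up_le hu), a.R_fix h o (z.RU h hu) h1 fun k => h2 ⟨σ, k, rfl⟩]
  · rintro B _ ⟨ρ, h, rfl⟩ o0 σ τ h1 h2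
    obtain ⟨B, rfl, o⟩ := z.on' o0
    obtain ⟨σ, h1, rfl⟩ := h1
    obtain ⟨τ, h2, rfl⟩ := h2
    obtain ⟨v, hv, rfl⟩ := a.R_tr h o h1 h2
    obtain ⟨u, hu, rfl⟩ := z.onto h hv
    exact ⟨u, hu, z.c.pb_smul (up_le hu) _⟩
  · rintro _ ⟨ρ', h', rfl⟩
    refine (a.other h').imp (fun ⟨B, o⟩ => ⟨_, z.on o⟩) fun ⟨h1, h2⟩ => ⟨?_, ?_⟩
    · rintro u hu _ ⟨σ, hσ, rfl⟩
      rw [z.c.pb_smul (up_le hu), h1 _ (z.RU h' hu) σ hσ]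
    · rintro B _ ⟨ρ, h, rfl⟩ o0
      obtain ⟨B, rfl, o⟩ := z.on' o0
      exact z.RK h (h2 h o)

theorem fix (h : ρ ∈ 𝓡) (hu : u ∈ (𝐋 ρ).R) (u2 : E2 u) : u ∈ FX G (𝐋 ρ).Ψ := by
  have uC := up_le hu
  have odd : ∀ {x : G}, x ∈ C → E2 x → ext π x = 1 → x = 1 := fun hx k e =>
    k.eq_one ((O_pi _ _).elt ((z.ker hx).1 e))
  by_cases e : ext π u = 1
  · rw [odd uC u2 e]; exact one_mem _
  obtain ⟨_, ⟨d, hd, rfl⟩, g, g', e1, e2⟩ := (z.lr h).yy (mem_up.1 hu).2 e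
  obtain ⟨g, hg, rfl⟩ := ext_surj z.sj g
  obtain ⟨g', hg', rfl⟩ := ext_surj z.sj g'
  rw [← ext_conj hg hd.mem, ← ext_conj hg' hd.mem] at e1 e2
  have h1 := up_conj z.c.loc hd hg
  have h2 := up_conj z.c.loc hd hg'
  generalize g * d * g⁻¹ = d1 at e1 e2 h1
  generalize g' * d * g'⁻¹ = d2 at e1 e2 h2
  have c1 : zpowers (ext π d1) ≤ 𝐂 (zpowers (ext π d2)) := by
    rw [cent_zpowers]; exact zpowers_le.2 (mem_cent1.2 e2)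
  have k : P2 (zpowers (ext π d1) ⊔ zpowers (ext π d2)) := (ext_pi h1.mem (e2_sq h1.iv.sq)).zpowers.sup
    (ext_pi h2.mem (e2_sq h2.iv.sq)).zpowers (.inl (norm_of_cent c1))
  have ab := (abel_zpowers _).sup (abel_zpowers _) c1
  obtain ⟨P, uP, hP, -⟩ := lift_two z.sj k (A := zpowers u) (zpowers_le.2 (mem_up.2 ⟨uC, by
    rw [e1]; exact mul_mem_sup (mem_zpowers _) (mem_zpowers _)⟩)) u2.zpowers
  have key : ∀ {d : G}, UP C Φ d → ext π d ∈ zpowers (ext π d1) ⊔ zpowers (ext π d2) →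
      ∃ e ∈ P, UP C Φ e ∧ ext π e = ext π d := fun {d} hd m => by
    obtain ⟨x, hx, l⟩ := hP.syl_cj_le (zpowers_le.2 (mem_up.2 ⟨hd.mem, m⟩)) (iv_pi hd.iv)
    rw [cj_zpowers, zpowers_le] at l
    exact ⟨_, l, up_conj z.c.loc hd (up_le hx), by
      rw [ext_conj (up_le hx) hd.mem, ab.mul_comm (mem_up.1 hx).2 m, mul_inv_cancel_right]⟩
  obtain ⟨a, aP, ha, ea⟩ := key h1 (mem_sup_left (mem_zpowers _))
  obtain ⟨b, bP, hb, eb⟩ := key h2 (mem_sup_right (mem_zpowers _))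
  have inj : ∀ {x y : G}, x ∈ P → y ∈ P → ext π x = ext π y → x = y := fun hx hy e => by
    have m := mul_mem (inv_mem hx) hy
    have xC := up_le (hP.le hx)
    exact inv_mul_eq_one.1 (odd (up_le (hP.le m)) (hP.pi.elt m) (by
      rw [ext_mul (inv_mem xC) (up_le (hP.le hy)), ext_inv xC, e, inv_mul_cancel]))
  have := z.s.fix h (z.RU h hu) (ext_pi uC u2)
  obtain rfl : a * b = u := inj (mul_mem aP bP) (uP (mem_zpowers u)) (by rw [ext_mul ha.mem hb.mem, ea, eb, e1])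
  exact mem_FX.2 fun p hp => z.c.star' ha hb (inj (mul_mem aP bP) (mul_mem bP aP) (by
    rw [ext_mul ha.mem hb.mem, ext_mul hb.mem ha.mem, ea, eb, e2])) hp.1 (mem_FX.1 this _ hp.2)

theorem three (hd : UP C Φ d) (it : Iv t) (tC : t ∈ C) (c : d * t = t * d) (c3 : (Φ ∩ Fx Ω t).ncard = 3) :
    (∃ ρ ∈ 𝐋 '' 𝓡, d ∈ ρ.N C ∧ d * t ∈ ρ.M ∧ d * t ∉ ρ.K) ∨ (∀ ρ ∈ 𝐋 '' 𝓡, d * t ∈ ρ.K) ∨
      ∃ Δ ∈ (pb Φ β '' ·) '' 𝓐, ∃ p q, Tp Φ (𝐋 '' 𝓡) Δ p q (d * t) := by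
  have ud := z.c.upx z.nt hd
  have c' := ext_c (f := f) hd.mem tC c
  have yC := mul_mem hd.mem tC
  have ey := ext_mul (f := f) hd.mem tC
  have im : β '' (Φ ∩ Fx Ω t) = Set.univ ∩ Fx X (ext f t) := by
    refine Set.Subset.antisymm ?_ fun x hx => ?_
    · rintro _ ⟨p, hp, rfl⟩; exact ⟨trivial, z.c.fix tC hp.1 hp.2⟩
    · obtain ⟨p, h1, h2, h3⟩ := z.c.fix1 tC (e2_sq it.sq) hx.2
      exact ⟨p, ⟨h1, h3⟩, h2⟩
  have le : (Set.univ ∩ Fx X (ext f t)).ncard ≤ 3 := by rw [← im, ← c3]; exact Set.ncard_image_le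
  have it' : Iv (ext f t) := ⟨fun e => by
    rw [show Fx X (ext f t) = Set.univ from Set.eq_univ_of_forall fun x => by
      show _ • _ = _
      rw [e, one_smul], Set.inter_self, Set.ncard_univ] at le
    have := z.x.five; omega, ext_sq tC it.sq⟩
  obtain ⟨a, ha, fa⟩ := hd.ex
  have ft := up_fix z.c.loc hd ha fa tC c.symm
  have fa' := z.c.fix hd.mem ha fa
  have ft' := z.c.fix tC ha ft
  have o : Odd (Set.univ ∩ Fx X (ext f t)).ncard :=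
    up_odd ud Set.inter_subset_left (fun x hx => ⟨trivial, comm_smul c' hx.2⟩) ⟨trivial, ft'⟩ fa'
  have one : (∃ ρ ∈ 𝓡, ext f d ∈ ρ.N ⊤ ∧ ext f d * ext f t ∈ ρ.M ∧ ext f d * ext f t ∉ ρ.K) →
      ∃ ρ ∈ 𝐋 '' 𝓡, d ∈ ρ.N C ∧ d * t ∈ ρ.M ∧ d * t ∉ ρ.K := fun ⟨ρ, h, h1, h2, h3⟩ =>
    ⟨_, ⟨ρ, h, rfl⟩, z.memN.2 ⟨hd.mem, h1⟩, (z.memM h).2 ⟨yC, ey ▸ h2⟩, fun k => h3 (ey ▸ (mem_up.1 k).2)⟩
  have two : (∀ ρ ∈ 𝓡, ext f d * ext f t ∈ ρ.K) → ∀ ρ ∈ 𝐋 '' 𝓡, d * t ∈ ρ.K := by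
    rintro h _ ⟨ρ, h', rfl⟩; exact mem_up.2 ⟨yC, ey ▸ h ρ h'⟩
  obtain c1 | c1 : (Set.univ ∩ Fx X (ext f t)).ncard = 1 ∨ (Set.univ ∩ Fx X (ext f t)).ncard = 3 := by
    obtain ⟨m, hm⟩ := o; omega
  · by_cases e : ext f d = ext f t
    · exact .inr (.inl (two fun ρ _ => by rw [e, it'.sq]; exact one_mem _))
    obtain ⟨x, hx⟩ := Set.ncard_eq_one.1 c1
    obtain ⟨ρ, h, h1, -, h2⟩ := z.x.r9 ud ⟨trivial, it', ⟨_, trivial, ft'⟩, fun p _ q _ e1 e2 =>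
      (hx.le ⟨trivial, e1⟩).trans (hx.le ⟨trivial, e2⟩).symm⟩ c' e
    exact .inl (one ⟨ρ, h, h1, h2⟩)
  refine (z.s.three ud it' trivial c' c1).imp one (Or.imp two fun ⟨Δ, h, p, q, k⟩ => ?_)
  rw [← ey] at k
  have inj := Set.injOn_of_ncard_image_eq (f := β) (by rw [im, c1, c3]) (Set.toFinite (Φ ∩ Fx Ω t))
  refine ⟨_, ⟨Δ, h, rfl⟩, _, _, ⟨p, k.hp, rfl⟩, ⟨q, k.hq, rfl⟩, z.c.pb_inj.ne k.ne,
    by rw [z.c.pb_smul yC, k.pq], by rw [z.c.pb_smul yC, k.qp], fun x hx => ?_, ?_⟩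
  · rw [mem_pb, mem_pb, and_iff_right hx, and_iff_right hx, ← k.fix trivial]
    exact ⟨z.c.fix yC hx, z.c.blk_triv hd ha fa tC it c (fun p h1 h2 h3 => inj ⟨h1, h3⟩ ⟨ha, ft⟩ h2) hx⟩
  · rintro _ ⟨ρ, h, rfl⟩ n
    exact mem_up.2 ⟨yC, k.other h fun B o => n _ (z.on o)⟩

theorem rsys : RSys C Φ (𝐋 '' 𝓡) ((pb Φ β '' ·) '' 𝓐) := by
  have cm : ∀ {a b : G}, a ∈ C → b ∈ C → ext π a * ext π b = ext π b * ext π a → ⁅a, b⁆ ∈ 𝒪 C :=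
    fun ha hb e => (z.ker (Hir.comm_mem_l ha (le_norm_self _ hb))).1 (by
      rwa [ext_comm ha hb, commutatorElement_eq_one_iff_mul_comm])
  have Kc : ∀ {ρ : Root H X} {k : G}, k ∈ (𝐋 ρ).K → ext π k ∈ ρ.K.comap φ := fun hk => by
    rw [mem_comap, z.fac]; exact (mem_up.1 hk).2
  have nK : ∀ {ρ : Root H X} {a b : G}, a ∈ C → b ∈ C → (a * b ∈ (𝐋 ρ).K ↔ ext f a * ext f b ∈ ρ.K) :=
    fun ha hb => by rw [← ext_mul ha hb]; exact mem_up.trans (and_iff_right (mul_mem ha hb))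
  constructor
  · rintro _ ⟨ρ, h, rfl⟩ g hg; exact ⟨_, z.s.cj h trivial, (z.cj hg ρ).symm⟩
  · rintro _ _ ⟨ρ, h, rfl⟩ ⟨ρ', h', rfl⟩ l; rw [z.s.eq_of_le h h' (z.c.pb_le.1 l)]
  · rintro _ ⟨ρ, h, rfl⟩; exact Set.inter_subset_left
  · rintro _ ⟨ρ, h, rfl⟩
    obtain ⟨x, hx⟩ := z.s.ne h
    obtain ⟨p, hp, rfl⟩ := z.c.onto x
    exact ⟨p, hp, hx⟩
  · rintro _ ⟨ρ, h, rfl⟩ g hg; exact mem_up.2 ⟨O_le _ _ hg, z.one hg ▸ one_mem _⟩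
  · rintro _ ⟨ρ, h, rfl⟩ g hg; exact mem_up.2 ⟨O_le _ _ hg, (z.ker (O_le _ _ hg)).2 hg ▸ one_mem _⟩
  · rintro _ ⟨ρ, h, rfl⟩ g hg; exact z.memN.2 ⟨up_le hg, z.s.KN h (mem_up.1 hg).2⟩
  · rintro _ ⟨ρ, h, rfl⟩ g hg; exact z.memN.2 ⟨up_le hg, z.s.RN h (z.RU h hg)⟩
  · rintro _ ⟨ρ, h, rfl⟩ g hg; exact mem_up.2 ⟨hg.1, z.c.ker hg.1 hg.2 ▸ one_mem _⟩
  · rintro _ ⟨ρ, h, rfl⟩
    exact commutator_le.2 fun k hk u hu =>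
      cm (up_le hk) (up_le hu) ((z.lr h).cen (Kc hk) _ (mem_up.1 hu).2).symm
  · rintro _ ⟨ρ, h, rfl⟩ u hu
    exact z.RO h hu.1 (z.bot (z.s.inf h (mi (z.RU h hu.1) (mem_up.1 hu.2).2)))
  · rintro _ ⟨ρ, h, rfl⟩ u hu
    exact z.RO h (mul_mem hu hu) ((ext_mul (up_le hu) (up_le hu)).trans (z.bot (z.s.sq h (z.RU h hu))))
  · rintro _ ⟨ρ, h, rfl⟩; rw [z.idx h]; exact z.s.four h
  · rintro _ ⟨ρ, h, rfl⟩ u; exact z.fix h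
  · rintro _ ⟨ρ, h, rfl⟩ u u' h1 h2 n1 n2
    obtain ⟨g, k1, k2, k3⟩ := (z.lr h).tr (mem_up.1 h1).2 (mem_up.1 h2).2
      (fun e => n1 ((z.ker (up_le h1)).1 e)) fun e => n2 ((z.ker (up_le h2)).1 e)
    obtain ⟨g, hg, rfl⟩ := ext_surj z.sj g
    rw [z.fac] at k1
    have m := cmem hg (up_le h1)
    refine ⟨g, z.memN.2 ⟨hg, mi trivial (mem_St_of (Set.toFinite _) fun x hx => by
      rwa [mem_FX.1 k1.2 x hx])⟩, fun k hk => cm hg (up_le hk) (k2 _ (Kc hk)).symm,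
      (z.ker (mul_mem (inv_mem m) (up_le h2))).1 ?_⟩
    rw [ext_mul (inv_mem m) (up_le h2), ext_inv m, ext_conj hg (up_le h1), k3, inv_mul_cancel]
  · rintro _ ⟨ρ, h, rfl⟩ t it ht k
    refine (z.memM h).2 ⟨ht.1, ?_⟩
    by_cases e : ext f t = 1
    · rw [e]; exact one_mem _
    refine z.s.r4 h ⟨e, ext_sq ht.1 it.sq⟩ (z.memN.1 ht).2 fun x _ fx => ?_
    obtain ⟨p, h1, rfl, h3⟩ := z.c.fix1 ht.1 (e2_sq it.sq) fx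
    exact (k p h1 h3).2
  · rintro _ ⟨ρ, h, rfl⟩ k hk k2
    obtain ⟨x, -, h1, h2⟩ := z.s.r5 h (mem_up.1 hk).2 (ext_pi (up_le hk) k2)
    obtain ⟨p, hp, rfl, h3⟩ := z.c.fix1 (up_le hk) k2 h2
    exact ⟨p, hp, fun m => h1 m.2, h3⟩
  · rintro _ ⟨ρ, h, rfl⟩ g h1 h2 p hp e
    obtain ⟨gC, h1⟩ := (z.memM h).1 h1
    exact ⟨hp, z.s.r7 h h1 (fun k => h2 (mem_up.2 ⟨gC, k⟩)) trivial (z.c.fix gC hp e)⟩
  · intro d e hd he c n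
    obtain ⟨ρ, h, h1, h2, -, h3⟩ := z.x.r9 (z.c.upx z.nt hd) (z.c.upx z.nt he) (ext_c hd.mem he.mem c)
      fun k => n (mem_FX.2 fun p hp => z.c.star' hd he c hp (by
        rw [ext_mul hd.mem he.mem, k, ext_sq he.mem he.iv.sq, one_smul]))
    exact ⟨_, ⟨ρ, h, rfl⟩, z.memN.2 ⟨hd.mem, h1⟩, z.memN.2 ⟨he.mem, h2⟩,
      fun k => h3 ((nK hd.mem he.mem).1 k)⟩
  · rintro _ _ d e ⟨ρ, h, rfl⟩ ⟨ρ', h', rfl⟩ hd he c h1 h2 h3 h4 n n'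
    exact (z.s.r10 h h' (z.c.upx z.nt hd) (z.c.upx z.nt he) (ext_c hd.mem he.mem c) (z.memN.1 h1).2
      (z.memN.1 h2).2 (z.memN.1 h3).2 (z.memN.1 h4).2 (fun k => n ((nK hd.mem he.mem).2 k))
      fun k => n' ((nK hd.mem he.mem).2 k)).imp (congrArg _) (z.RK h')
  · rintro _ ⟨Δ, h, rfl⟩; exact z.af (z.s.af h)
  · rintro _ _ B B' _ ⟨Δ, h1, rfl⟩ ⟨Δ', h2, rfl⟩ ⟨ρ, h, rfl⟩ o0 o1
    obtain ⟨B, rfl, o⟩ := z.on' o0
    obtain ⟨B', rfl, o'⟩ := z.on' o1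
    rw [z.s.uq h1 h2 h o o']
  · rintro _ ⟨ρ, h, rfl⟩
    refine (z.s.kind h).imp (fun ⟨Δ, h1, B, o⟩ => ⟨_, ⟨Δ, h1, rfl⟩, _, z.on o⟩) ?_
    rintro k _ ⟨ρ', h', rfl⟩
    exact (k h').imp (congrArg _) (Or.imp (z.RK h') fun l u hu =>
      z.RO h' hu.1 (z.bot (l (mi (z.RU h' hu.1) (z.memN.1 hu.2).2))))
  · rintro _ ⟨ρ, h, rfl⟩ α e c4 t it ht ⟨u, hu, n⟩
    have hα : α ∈ pb Φ β ρ.Ψ := e.ge rfl
    have n' : ⁅ext f t, ext f u⁆ ∉ 𝒪 ⊤ := fun k => n (z.RO h (Hir.comm_mem_r (cj_eq_self.1 (by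
      have := congrArg Root.R (z.cj ht.1 ρ)
      rwa [z.s.eq_of_le (z.s.cj h trivial) h (mem_St.1 (z.memN.1 ht).2.2).le] at this)) hu)
      ((ext_comm ht.1 (up_le hu)).trans (z.bot k)))
    have := z.s.s10 h (α := β α) (Set.eq_singleton_iff_unique_mem.2 ⟨hα.2, fun x hx => by
      obtain ⟨p, hp, rfl⟩ := z.c.onto x
      rw [e.le ⟨hp, hx⟩]⟩) (by rwa [z.idx h] at c4) ⟨fun k => n' (by rw [k]; simp), ext_sq ht.1 it.sq⟩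
      (z.memN.1 ht).2 ⟨_, z.RU h hu, n'⟩
    rw [← this, ← Set.eq_univ_of_forall (s := β '' Φ) z.c.onto, Set.InjOn.ncard_image fun p hp q hq k => ?_]
    obtain ⟨g, hg, rfl⟩ := loc_tr z.c.loc hp hα.1
    refine smul_left_cancel g (e.le ⟨z.c.loc.inv hg hq, ?_⟩).symm
    show β _ ∈ ρ.Ψ
    rw [z.c.eqv hg hq, ← k, ← z.c.eqv hg hp]; exact hα.2
  · exact fun d t => z.three

end LF

end CF.Holt.LS

namespace CF.Holt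
open MulAction Subgroup Cfsg CF.BG CF.Bender CF.ZD CF.Ab2 LS

universe u

/-- the local structure theorem -/
theorem ls {n : ℕ} (h : Main.{u} n) : LSP.{u} n := by
  intro G Ω _ _ _ _ C Φ l hn
  obtain ⟨H, X, _, _, _, _, f, β, c⟩ := exists_cov l
  by_cases nt : ∃ p q : X, p ≠ q
  swap
  · push Not at nt
    refine ⟨∅, ∅, ?_⟩
    constructor
    case r9 => exact fun d e hd he cc n => (n (mem_FX.2 fun p hp => c.star' hd he cc hp (nt _ _))).elim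
    case three => exact fun _ _ _ _ _ _ _ => .inr (.inl fun _ h => h.elim)
    all_goals simp
  have r := c.red nt
  obtain ⟨E, 𝓡, 𝓐, s, x⟩ := r.rsys h (c.card.trans_lt hn)
  haveI := (O_normal ({2}ᶜ : Set ℕ) C).normal
  have k : (𝒪 C).subgroupOf C ≤ f.ker := fun g hg => by
    have n : dn f (𝒪 C) ⊴ ⊤ := by
      have := (normalIn_top.2 ‹_›).map f
      rwa [map_top_of_surjective _ c.surj] at this
    exact eq_one_of_mem_bot r.O (le_O n (dn_pi (O_pi _ _)) ⟨g, hg, rfl⟩)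
  set π := QuotientGroup.mk' ((𝒪 C).subgroupOf C)
  have ker : ∀ ⦃g⦄, g ∈ C → (LS.ext π g = 1 ↔ g ∈ 𝒪 C) := fun g hg => by
    rw [ext_eq hg]; exact QuotientGroup.eq_one_iff _
  have sj : Function.Surjective π := QuotientGroup.mk'_surjective _
  refine ⟨_, _, LF.rsys (π := π) (φ := QuotientGroup.lift _ f k)
    ⟨c, nt, sj, ker, eq_bot_of_forall fun y hy => ?_, fun g => ?_, s, x⟩⟩
  · obtain ⟨y, yC, rfl⟩ := ext_surj sj y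
    refine (ker yC).2 (le_O (K := up π (𝒪 ⊤)) ⟨up_le, fun g hg => cj_eq_self.1 (by
      rw [cj_up hg, cj_of_norm ((O_normal _ _).norm (mem_top _))])⟩ (piGrp_of_forall_elt fun x hx => ?_)
      (mem_up.2 ⟨yC, hy⟩))
    have m := constt_mem_of_mem {2} hx
    exact constt_eq_one.1 ((constt_pi _ x).eq_one ((O_pi _ _).elt ((ker (up_le m)).1
      ((ext_pi (up_le m) (constt_pi _ x)).eq_one ((O_pi _ _).elt (mem_up.1 m).2)))))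
  · by_cases hg : g ∈ C
    · rw [ext_eq hg, ext_eq hg]; rfl
    · rw [LS.ext, LS.ext, dif_neg hg, dif_neg hg, map_one]

end CF.Holt
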