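-- copy of `Holt.N0b` avoiding a name clash (`Comp.syl_inf`) with `Sig.S4D`
import Cfsg.Agent.Holt.N0a
import Cfsg.Agent.Holt.B3
import Cfsg.Agent.Holt.N1b
import Cfsg.Agent.Holt.CD
import Cfsg.Agent.Holt.A4
import Cfsg.Agent.NCz.HoltS7d

/-!
# Holt's theorem: the case without neighbours and the induction
-/

set_option linter.unusedSectionVars false
set_option autoImplicit false

namespace CF.Holt
open MulAction Subgroup Cfsg CF.BG CF.Bender CF.ZD CF.Ab2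
open scoped Pointwise commutatorElement

universe u
variable {G Ω : Type u} [Group G] [MulAction G Ω] [Finite G] [Finite Ω]
variable {C E H K O P Q R S T U U' V V' X : Subgroup G} {Φ Φ' Λ F F' F₁ F₂ : Set Ω} {D : Set G}
  {𝓕 : Set (Set Ω)} {a b d e g t u u' v w x y y' z δ : G} {p q α : Ω}

theorem SZ.exists_t (s : SZ D F S z) (h : Cy X D 𝓕) (hF : F ∈ 𝓕) :
    ∃ t ∈ QF D F, Iv t ∧ t ∈ 𝐂 S ∧ Fx Ω t = F := by
  obtain ⟨a, ha, a1, za⟩ := s.exists_a h hF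
  obtain ⟨t₀, h1, h2, h3⟩ := exists_cent_ne (U := S ⊓ QF D F) s.syl.pi s.syl.pi.inf_left
    (norm_inf (le_norm_self S) (s.syl.le.trans h.norm_QF))
    (ne_bot_of_mem (mi ha.1 (mem_QF (s.a_yy h hF ha a1 za) ha.2)) a1)
  obtain ⟨t, ht, i⟩ := exists_iv_pow (s.syl.pi.elt h1.1) h2
  have tS := zp_le h1 ht
  have tc := zp_le h3 ht
  have sub : F ⊆ Fx Ω t := mem_FX_iff.1 (QF_le tS.2)
  by_cases e : Fx Ω t ⊆ F
  · exact ⟨t, tS.2, i, tc, e.antisymm sub⟩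
  have SN : S ≤ St G (Fx Ω t) := fun g hg => cent_St (cent_comm' tc hg)
  obtain ⟨𝓡, 𝓐, s'⟩ := h.toCx.rsys (Ω := Ω) (iv_e2 i) i.ne
  obtain ⟨ρ, U, r, zU, -, -, aM, aK⟩ := h.pair_root (h.toCx.loc (iv_e2 i)) s' s.mem za (s.comm ha.1)
    (SN (s.zS h hF)) (SN ha.1) (fun k => e (s.a_F h hF ha a1 za ▸ mem_FX_iff.1 k)) bot_le (piGrp_bot _)
    (by simp) (by simp)
  have h4 : FX G ρ.Ψ ≤ FX G F := FX_anti fun p hp => r.s.r7 r.r aM aK (sub hp) (mem_FX.1 ha.2 p hp)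
  obtain ⟨u, hu, u1⟩ := exists_mem_ne_one r.ne
  have h5 : ρ.Ψ = F := by
    rw [r.Psi hu u1, h.eq_F hF (h.root_yy r s.mem (SN (s.zS h hF)) zU hu u1) (h4 (r.fix hu)),
      Set.inter_eq_right.2 sub]
  have h6 : S ≤ ρ.N (St G (Fx Ω t)) := le_inf SN (h5 ▸ s.syl.le)
  obtain ⟨U', r', n⟩ := r.exists_norm s.syl.pi h6
  obtain ⟨v, hv, v1, c⟩ := exists_cent_ne s.syl.pi r'.pi n r'.ne
  have h7 := h.root_yy r' s.mem (SN (s.zS h hF))
    (r'.cent (h.mem_M r s.mem (h6 (s.zS h hF))) (n (s.zS h hF))) hv v1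
  exact ⟨v, mem_QF h7 (h4 (r'.fix hv)), h.yy_iv h7, c, h.eq_F hF h7 (h4 (r'.fix hv))⟩

namespace Cy
variable (h : Cy X D 𝓕) (nn : ∀ F F', ¬ Nb D 𝓕 F F')
include h nn

theorem n0_uniq (i : Iv t) (ht : Fx Ω t ∈ 𝓕) (hF : F ∈ 𝓕) (n : t ∈ St G F) : F = Fx Ω t := by
  obtain ⟨S, z, s, l⟩ := h.exists_sz (p2_zp (iv_e2 i)) (zp_le n)
  have tS := l (mem_zpowers t)
  obtain ⟨a, ha, a1, za⟩ := s.exists_a h hF
  have key : ∀ y ∈ YY D, y ∈ FX G F → y * t = t * y → F = Fx Ω t := fun y hy k c => by_contra fun ne =>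
    nn _ _ ⟨ht, hF, Ne.symm ne, y, hy, h.eq_F hF hy k, cent_St c⟩
  by_cases c : a * t = t * a
  · exact key a (s.a_yy h hF ha a1 za) ha.2 c
  have ia := h.yy_iv (s.a_yy h hF ha a1 za)
  obtain ⟨w, hw, ic, -, e1, -, ca, ct⟩ := dih4 (s.syl.pi.elt (mul_mem ha.1 tS)) ia i c
  have wS := zp_le (mul_mem ha.1 tS) hw
  have h1 := conj_mem_of_norm (s.normT wS) ha
  have h2 : z * (w * a * w⁻¹) ∈ D := by
    rw [← comm_conj (s.comm wS).symm, conj_mul]; exact h.conj za w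
  rw [e1] at h1 h2
  have hc := (mul_mem_cancel_left ha).1 h1
  refine key _ (h.yy_split za ?_ ?_ ic.ne) hc.2 ct
  · rwa [mul_assoc]
  · rw [mul_assoc, ← ca, lc (s.comm hc.1)]

theorem n0_cen (k : P2 P) (A : h.sub) (l : P ≤ stabilizer G A) :
    ∃ t ∈ QF D A.1, Iv t ∧ t ∈ 𝐂 P ∧ ∀ B : h.sub, t • B = B → B = A := by
  obtain ⟨S, z, s, l'⟩ := h.exists_sz (F := A.1) k fun g hg => h.sub_fix.1 (l hg)
  obtain ⟨t, h1, i, c, e⟩ := s.exists_t h A.2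
  exact ⟨t, h1, i, cent_anti l' c, fun B k =>
    Subtype.ext ((h.n0_uniq nn i (e ▸ A.2) B.2 (h.sub_fix.1 k)).trans e)⟩

theorem n0_lt (m : Main.{u} (Nat.card G)) (hX : X ≠ ⊤) : False := by
  obtain ⟨F, hF⟩ := h.ne
  obtain ⟨t₀, h0, i₀, -, u₀⟩ := h.n0_cen nn (piGrp_bot _) ⟨F, hF⟩ bot_le
  obtain ⟨S, hS⟩ := exists_syl 2 (⊤ : Subgroup G)
  obtain ⟨A, -, hA⟩ := pfix p2 hS.pi (Set.toFinite (Set.univ : Set h.sub)) (fun _ _ _ _ => trivial)
    (Nat.two_dvd_ne_zero.2 (Nat.odd_iff.1 (odd_of_uniq (p := ⟨F, hF⟩) (Set.toFinite _) (iv_e2 i₀)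
      (fun _ _ => trivial) trivial (h.sub_fix.2 (QF_le_St h0)) fun B _ => u₀ B)))
  obtain ⟨t, h1, i, c, u⟩ := h.n0_cen nn hS.pi A hA
  have := m X h.sub ⊤ ⟨t, h.QF_X h1⟩ (card_top' (G := G) ▸ card_lt hX.lt_top)
    ⟨h.ns.top, .refl _, fun _ => Or.inl trivial, fun g k => Subtype.ext (h.sub_faith g.2 k),
      ⟨fun e => i.ne (congrArg Subtype.val e), Subtype.ext i.sq⟩,
      ⟨(S ⊓ X).subgroupOf X, by simpa using hall_subgroupOf (hS.inf_normal h.nrm) le_rfl,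
        mem_cent.2 fun s hs => Subtype.ext (cent_comm' c hs.1)⟩,
      fun A B => (h.sub_tr A B).elim fun g k => ⟨⟨g, k.1⟩, k.2⟩, h.sub_nt,
      A, h.sub_fix.2 (QF_le_St h1), u⟩
  refine h.not_nt (this.imp (fun k t ht i => k ⟨t, ht⟩ trivial
    ⟨fun e => i.ne (congrArg Subtype.val e), Subtype.ext i.sq⟩) fun k => ⟨k.1, fun σ hσ => ?_⟩)
  obtain ⟨x, -, e⟩ := k.2 σ hσ
  exact ⟨x, x.2, e⟩

/-- the new set of involutions -/
def DN : Set G := {t | Iv t ∧ ∃ A : h.sub, t ∈ QF D A.1 ∧ ∀ B : h.sub, t • B = B → B = A}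

theorem n0_cx (hX : X = ⊤) : Cx h.sub X h.DN where
  ns := h.ns
  nrm := h.nrm
  faith := fun _ => h.sub_faith (hX ▸ trivial)
  nt := h.sub_nt
  conj := fun t ⟨i, A, h1, h2⟩ g => ⟨i.conj g, g • A, (h.cj_QF g A.1).le (conj_mem_cj.2 h1), fun B e => by
    rw [← h2 (g⁻¹ • B) (by simpa [mul_assoc] using conj_smul e g⁻¹), smul_inv_smul]⟩
  iv := fun _ k => k.1
  ex := fun _ ⟨_, A, h1, _⟩ => ⟨A, h.sub_fix.2 (QF_le_St h1)⟩
  uniq := fun _ ⟨_, _, _, h2⟩ _ _ e e' => (h2 _ e).trans (h2 _ e').symm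
  gen := fun _ _ _ => Or.inl (hX ▸ trivial)
  mul := fun _ _ _ _ => hX ▸ trivial
  cen := fun _ k A l => (h.n0_cen nn k A l).imp fun _ k =>
    ⟨⟨k.2.1, A, k.1, k.2.2.2⟩, k.2.2.1, h.sub_fix.2 (QF_le_St k.1)⟩
  cl := fun d e f ⟨i, A, h1, h2⟩ ⟨i', B, h3, h4⟩ ⟨i'', C, h5, h6⟩ de df ef u => by
    have dA := h.sub_fix.2 (QF_le_St h1)
    obtain rfl := h4 A (h2 _ (comm_smul de.symm dA))
    obtain rfl := h6 A (h2 _ (comm_smul df.symm dA))
    have h7 := mul_mem (mul_mem h1 h3) h5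
    obtain ⟨B, C, n⟩ := h.sub_nt
    exact ⟨⟨fun k => n (u B C (by rw [k, one_smul]) (by rw [k, one_smul])), sq_mul (sq_mul i.sq i'.sq de) i''.sq
      (by rw [mul_assoc, ef, lc df])⟩, A, h7, fun B k => u B A k (h.sub_fix.2 (QF_le_St h7))⟩
  ls := h.ls

omit nn in
theorem n0_nu (A : h.sub) (hp : p ∈ A.1) : ♯(LM h.DN (stabilizer G A)) < ♯(LM D (stabilizer G p)) := by
  refine card_lt (lt_of_le_of_lt (b := QF D A.1) (LM_le_iff.2 fun t ⟨_, B, h1, h2⟩ k => h2 A k ▸ h1)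
    (lt_of_le_of_ne (QF_le_iff.2 fun y hy k => ?_) fun e => ?_))
  · obtain ⟨d, hd, h1, c⟩ := h.yy_ex hy
    obtain ⟨q, hq⟩ := h.ex hd
    have yq := h.fix_eq hd hq c.symm
    obtain ⟨g, -, cg, -, rfl⟩ := h.cent_tr (p2_zp (h.yy_e2 hy)) (zp_le yq) (zp_le (mem_FX.1 k p hp))
    rw [← cent_conj cg (mem_zpowers y), ← h.cancel hd y, ← conj_mul]
    exact mul_mem (mem_LM (h.conj hd g) (conj_smul hq g))
      (mem_LM (h.conj h1 g) (conj_smul (by rw [mul_smul, yq, hq]) g))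
  · obtain ⟨d, hd, dp⟩ := h.exists_D p
    exact h.nmem_FX A.2 hd (QF_le (e.ge (mem_LM hd dp)))

end Cy

theorem Cx.sex (h : Cx Ω X D) (k : ∀ y ∈ YY D, ∀ p q : Ω, y • p = p → y • q = q → p = q) : SEx Ω X := by
  have w : WZ Ω D := ⟨fun hd => h.conj hd, fun hd => h.iv hd, fun hd => h.ex hd, fun hd _ _ a b => h.uniq hd a b,
    fun hd he n c _ _ => k _ (mem_YY hd he n c) _ _⟩
  have all : ∀ p : Ω, p ∈ LD Ω D ⊤ := fun p => (h.exists_D p).imp fun _ k => ⟨trivial, k.1, k.2⟩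
  obtain ⟨a, b, n⟩ := h.nt
  have ai := w.ai (all a) (all b) n fun u _ i => by
    by_contra! e
    exact i.ne (h.faith u fun p => e p (all p))
  have l : X ≤ LM D ⊤ := by
    refine inf_eq_left.1 ((h.ns.eq_or _ (normalIn_inf_left (le_top.trans (w.LM_normal ⊤).norm))).resolve_left fun e => ?_)
    obtain ⟨d, hd, da⟩ := h.exists_D a
    obtain ⟨d', hd', db⟩ := h.exists_D b
    have := eq_one_of_mem_bot e (mi (h.mul hd hd') (mul_mem (mem_LM hd trivial) (mem_LM hd' trivial)))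
    rw [eq_inv_of_mul_eq_one_left this, h.inv hd'] at da
    exact n (h.uniq hd' da db)
  exact fun t ht i => (h.ex (ai (l ht) i)).elim fun p hp => ⟨p, hp, fun q hq => h.uniq (ai (l ht) i) hq hp⟩

theorem Cx.exists_cy (h : Cx Ω X D) (hy : y ∈ YY D) (hp : y • p = p) (hq : y • q = q) (n : p ≠ q) :
    ∃ 𝓕 : Set (Set Ω), Cy X D 𝓕 := by
  obtain ⟨x, hx, m⟩ := Set.exists_max_image (YY D) (fun y => (Fx Ω y).ncard) (Set.toFinite _) ⟨y, hy⟩
  have key : ∀ F ∈ orbit G (Fx Ω x), F.ncard = (Fx Ω x).ncard := by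
    rintro _ ⟨g, rfl⟩; exact Set.ncard_smul_set g _
  refine ⟨orbit G (Fx Ω x), h, ⟨_, mem_orbit_self _⟩, fun F hF g => mem_orbit_of_mem_orbit g hF,
    fun F F' hF hF' => ?_, ?_, fun F y hF hy s => ?_, fun F hF => ?_⟩
  · exact (orbit_eq_iff.2 hF).ge hF'
  · rintro _ ⟨g, rfl⟩
    exact ⟨_, h.yy_conj hx g, (smul_Fx g x).symm⟩
  · exact (Set.eq_of_subset_of_ncard_le s (key F hF ▸ m y hy)).symm
  · refine (Set.one_lt_ncard (Set.toFinite F)).1 ?_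
    rw [key F hF]
    exact lt_of_lt_of_le ((Set.one_lt_ncard (Set.toFinite (Fx Ω y))).2 ⟨p, hp, q, hq, n⟩) (m y hy)

theorem cx_nt (m : Main.{u} (Nat.card G)) (ν : ℕ) : ∀ (Ω : Type u) [MulAction G Ω] [Finite Ω] (D : Set G)
    (p : Ω), ♯(LM D (stabilizer G p)) < ν → Cx Ω X D → Nt Ω X := by
  induction ν with
  | zero => intro _ _ _ _ _ k; omega
  | succ ν ih =>
  intro Ω _ _ D p hν h
  by_cases k : ∀ y ∈ YY D, ∀ p q : Ω, y • p = p → y • q = q → p = q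
  · exact Or.inl (h.sex k)
  push Not at k
  obtain ⟨y, hy, a, b, ha, hb, n⟩ := k
  obtain ⟨𝓕, c⟩ := h.exists_cy hy ha hb n
  by_cases nn : ∀ F F', ¬ Nb D 𝓕 F F'
  · by_cases hX : X = ⊤
    · obtain ⟨F, hF⟩ := c.ne
      obtain ⟨q, hq, -⟩ := c.big hF
      obtain ⟨g, -, rfl⟩ := h.trX q p
      exact (c.not_nt (ih c.sub c.DN ⟨g • F, c.smul hF g⟩ (lt_of_lt_of_le (c.n0_nu _ (Set.smul_mem_smul_set hq))
        (Nat.le_of_lt_succ hν)) (c.n0_cx nn hX))).elim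
    · exact (c.n0_lt nn m hX).elim
  push Not at nn
  obtain ⟨F, F', nb⟩ := nn
  have v := c.vs_of_nb nb
  by_cases nT : ∀ F F', ¬ PT D 𝓕 F F'
  · exact (n1 v.bd nT nb).elim
  push Not at nT
  obtain ⟨F₁, F₂, pt⟩ := nT
  have b := v.b2 pt
  by_cases nP : ∀ F F', ¬ P1 D 𝓕 F F'
  · exact s7 b nP
  push Not at nP
  obtain ⟨F₃, F₄, p1⟩ := nP
  exact taskA b b.con p1

theorem HT.cx (h : HT Ω X z) (l : LSP.{u} (Nat.card G)) :
    Cx Ω X {d | Iv d ∧ d * z ∈ X ∧ ∃! p : Ω, d • p = p} := by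
  have mul : ∀ d e : G, Iv e → d * z ∈ X → e * z ∈ X → d * e ∈ X := fun d e i k k' => by
    have := mul_mem k (inv_mem k')
    rwa [mul_inv_rev, mul_assoc, mul_inv_cancel_left, i.inv] at this
  have conj : ∀ d g : G, d * z ∈ X → g * d * g⁻¹ * z ∈ X := fun d g k => by
    have h1 := h.nrm.conj_mem (g := g) trivial k
    have h2 : ∀ x ∈ X, x * z * x⁻¹ * z ∈ X := fun x hx => by
      have := mul_mem hx (h.nrm.conj_mem (g := z) trivial (inv_mem hx))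
      rwa [h.iv.inv, ← mul_assoc, ← mul_assoc] at this
    have h3 : g * z * g⁻¹ * z ∈ X := (h.gen g).elim (h2 g) fun k => by
      have := h2 _ k
      rwa [show g * z * z * (g * z)⁻¹ * z = g * z * g⁻¹ * z by group] at this
    have := mul_mem h1 h3
    rwa [show g * (d * z) * g⁻¹ * (g * z * g⁻¹ * z) = g * d * (z * z) * g⁻¹ * z by group, h.iv.sq,
      mul_one] at this
  have conj' : ∀ d g : G, (∃! p : Ω, d • p = p) → ∃! p : Ω, (g * d * g⁻¹) • p = p := fun d g ⟨p, hp, u⟩ =>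
    ⟨g • p, conj_smul hp g, fun q hq => by
      rw [← u (g⁻¹ • q) (by simpa [mul_assoc] using conj_smul hq g⁻¹), smul_inv_smul]⟩
  refine ⟨h.ns, h.nrm, h.faith, h.nt, fun d k g => ⟨k.1.conj g, conj d g k.2.1, conj' d g k.2.2⟩,
    fun _ k => k.1, fun _ k => k.2.2.exists, fun _ k _ _ => k.2.2.unique,
    fun d k g => (h.gen g).imp_right fun e => mul g d k.1 e k.2.1, fun d e k k' => mul d e k'.1 k.2.1 k'.2.1,
    fun P k p hP => ?_, fun d e f hd he hf de df ef u => ?_, l⟩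
  · obtain ⟨S, hS, c⟩ := h.cen
    obtain ⟨a, ha, ua⟩ := h.fix
    obtain ⟨g, rfl⟩ := h.tr a p
    have h1 : cj g S ≤ stabilizer G (g • a) := by
      rw [← cj_stab]; exact cj_mono g fun s hs => ua _ (comm_smul (cent_comm' c hs) ha)
    obtain ⟨m, hm, l⟩ := ((hS.cj_top g).of_le h1 le_top).syl_le_cj hP k
    rw [cj_cj] at l
    refine ⟨m * g * z * (m * g)⁻¹, ⟨h.iv.conj _, conj z _ (by rw [h.iv.sq]; exact one_mem _),
      conj' z _ ⟨a, ha, ua⟩⟩, cent_anti l (by rw [← cj_cent]; exact conj_mem_cj.2 c), ?_⟩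
    have := conj_smul ha (m * g)
    rwa [mul_smul m g a, mem_stabilizer_iff.1 hm] at this
  · obtain ⟨a, ha, ua⟩ := hd.2.2
    obtain ⟨p, q, n⟩ := h.nt
    have h1 : (d * e * f) • a = a := by
      rw [mul_smul, mul_smul, ua _ (comm_smul df.symm ha), ua _ (comm_smul de.symm ha), ha]
    refine ⟨⟨fun k => n (u p q (by rw [k, one_smul]) (by rw [k, one_smul])), sq_mul (sq_mul hd.1.sq he.1.sq de)
      hf.1.sq (by rw [mul_assoc, ef, lc df])⟩, ?_, a, h1, fun b hb => u b a hb h1⟩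
    rw [mul_assoc]
    exact mul_mem (mul d e he.1 hd.2.1 he.2.1) hf.2.1

/-- Holt's theorem from the local structure theorem -/
theorem main_of (ls : ∀ n, Main.{u} n → LSP.{u} n) (n : ℕ) : Main.{u} n := by
  induction n with
  | zero => intro _ _ _ _ _ _ _ _ k; omega
  | succ n ih =>
  intro G Ω _ _ _ _ X z k h
  rcases Nat.lt_succ_iff_lt_or_eq.1 k with k | rfl
  · exact ih G Ω X z k h
  obtain ⟨p, -⟩ := h.nt
  exact cx_nt ih _ Ω _ p (Nat.lt_succ_self _) (h.cx (ls _ ih))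

end CF.Holt
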