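-- copy of `Bm.H2` avoiding a name clash (`Comp.syl_inf`) with `Sig.S4D`
import Cfsg.Agent.NCz.BmA
import Cfsg.Agent.NCz.BmH1

/-! The Holt wrapper for Baumann's theorem. -/

set_option autoImplicit false

namespace CF.Bm

open Cfsg Subgroup CF.Loc CF.FF CF.GC
open scoped commutatorElement

universe u
variable {G : Type u} [Group G] [Finite G] {K : Subgroup G} {t : G}

theorem Co.ns (h : Co K t) : Ab2.NS K :=
  Ab2.ns_of_simple h.simple fun a => by
    have := h.simple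
    exact (nontrivial_iff_ne_bot K).1 inferInstance
      (h.perf.symm.trans (commutator_eq_bot_iff_le_centralizer.2 a))

theorem Co.hw (h : Co K t) (Φ : G → Subgroup G) (c : ∀ g d, Dd d → Φ (g * d * g⁻¹) = cj[g] (Φ d))
    (m : ∀ d e, Dd d → Dd e → d * e = e * d → Φ d = Φ e) (n : 𝐍(Φ t) ≠ ⊤) : Cc K t := by
  have l : Sy t ≤ 𝐍(Φ t) := fun s hs => cj_eq_self_iff.1 (by
    rw [← c s t h.dd, ← comm_of_mem hs, mul_inv_cancel_right])
  obtain ⟨a, b, d⟩ := Hw.main (M := 𝐍(Φ t)) h.ns h.nrm h.gen h.cen ⟨⟨h.dd.ne, h.dd.sq⟩, l h.dd.mem, n,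
    (by
      obtain ⟨S, e⟩ := h.dd.syl.exists_sylow_top
      exact ⟨Sy t, e ▸ BG.syl_sylow_top S, mem_cent le_rfl⟩),
    fun g hg => by
      obtain ⟨k, hk, e⟩ := (h.dd.syl.mono l le_top).exists_cj_le (pg_of_sq (h.dd.cj g).sq)
        (zpowers_le.2 hg)
      have := m _ _ h.dd ((h.dd.cj g).cj k) (comm_of_mem (e (conj_mem_cj k (mem_zpowers _))))
      rw [c k _ (h.dd.cj g), c g _ h.dd, ← cj_mul] at this
      exact (Subgroup.mul_mem_cancel_left _ hk).1 (cj_eq_self_iff.1 this.symm)⟩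
    fun x y a b c d => isPGroup_iff_forall.1 (Sy_pg t) _
      (mul_mem (h.dd.mem_of_comm a c) (h.dd.mem_of_comm b d))
  refine ⟨a, fun e he => b e ⟨he.ne, he.sq⟩, ?_⟩
  obtain ⟨F, _, _, ⟨k, h1, h2⟩, f⟩ | d | d := d
  exacts [.inl ⟨F, _, _, k, h1, h2, .inl f⟩, .inr (.inl d), .inr (.inr (.inl d))]

theorem Co.th (h : Co K t) : TH G ∨ Cc K t := by
  have c : ∀ g d : G, 𝐑[2](𝐂(Sy (g * d * g⁻¹))) = cj[g] 𝐑[2](𝐂(Sy d)) := fun g d => by
    rw [cj_pResidualOf, cj_centralizer, cj_Sy]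
  have m : ∀ d e : G, Dd d → Dd e → d * e = e * d → 𝐑[2](𝐂(Sy d)) ≤ 𝐑[2](𝐂(Sy e)) :=
    fun d e hd he k => by
      rw [← pResidualOf_pResidualOf]
      refine pResidualOf_mono ((pResidualOf_mono (centralizer_anti inf_le_left)).trans
        (he.res_cent (Q := Sy d ⊓ Sy e) ⟨hd.mem_of_comm he.sq k, he.mem⟩ inf_le_right
          (le_inf (hd.le' ((Sy_pg e).to_le inf_le_left) (le_centralizer_comm.1 inf_le_right
            ⟨hd.mem, he.mem_of_comm hd.sq k.symm⟩)) inf_le_left)))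
  by_cases n : 𝐍(𝐑[2](𝐂(Sy t))) = ⊤
  · refine .inl fun d hd => ?_
    have := h.nrm
    have z : 𝐑[2](𝐂(Sy t)) = ⊥ := by
      rcases h.ns.le_or_cent (n.symm ▸ le_top) le_normalizer_of_normal with e | e
      · exact absurd (h.cen.le (le_centralizer_comm.1 (e.trans (pResidualOf_le _ _)) h.dd.mem)) h.dd.ne
      · exact eq_bot_iff.2 ((le_centralizer_comm.1 e).trans h.cen.le)
    obtain ⟨g, e⟩ := h.dd.exists_Sy_eq hd
    refine hd.le (isPGroup_of_pResidualOf_eq_bot ?_) (centralizer_anti (zpowers_le.2 hd.mem))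
    rw [← e, c, z, cj_bot]
  · exact .inr (h.hw _ (fun g d _ => c g d)
      (fun d e hd he k => le_antisymm (m d e hd he k) (m e d he hd k.symm)) n)

end CF.Bm
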