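-- copy of `S3223` avoiding a name clash (`Comp.syl_inf`) with `Sig.S4D`
import Cfsg.Statements.S3223
import Cfsg.Agent.NCz.BmC2
import Cfsg.Agent.NCz.BmR1

set_option autoImplicit false
open Cfsg

namespace CF.NCz.S3223

/-- Let G be a finite group that has no nontrivial solvable normal subgroup and contains an involution t whose centralizer has a normal Sylow 2-subgroup of G (so t is 2-central and C_G(t) is 2-closed). Let N be the smallest normal subgroup of G such that G/N is 2-closed (equivalently, NS is normal in G for a Sylow 2-subgroup S). Then N is a direct product of subgroups each isomorphic to one of L₂(q), Sz(q), U₃(q), L₃(q), PSp₄(q) with q = 2ⁿ > 2, or L₂(q) with q = 2ⁿ ± 1 > 3. -/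
theorem result {G : Type*} [Group G] [Finite G]
    (hS : ∀ M : Subgroup G, M.Normal → Group.IsSolvable ↥M → M = ⊥)
    (t : G) (ht : orderOf t = 2) (S : Sylow 2 G) (hSt : (S : Subgroup G) ≤ Subgroup.centralizer ({t} : Set G))
    (hSn : ((S : Subgroup G).subgroupOf (Subgroup.centralizer ({t} : Set G))).Normal)
    (N : Subgroup G) (hN : N.Normal) (hN2 : ∀ P : Sylow 2 G, (N ⊔ (P : Subgroup G)).Normal)
    (hNmin : ∀ M : Subgroup G, M.Normal → (∀ P : Sylow 2 G, (M ⊔ (P : Subgroup G)).Normal) → N ≤ M) :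
    ∃ (k : ℕ) (E : Fin k → Subgroup G), (⨆ i, E i) = N ∧
      (∀ i j, i ≠ j → ∀ x ∈ E i, ∀ y ∈ E j, x * y = y * x) ∧
      (∀ i, Disjoint (E i) (⨆ (j : Fin k) (_ : j ≠ i), E j)) ∧
      ∀ i, (∃ (F : Type) (_ : Field F) (_ : Fintype F) (n : ℕ), 2 ≤ n ∧ Fintype.card F = 2 ^ n ∧
          (Nonempty (↥(E i) ≃* Matrix.ProjectiveSpecialLinearGroup (Fin 2) F) ∨
            Nonempty (↥(E i) ≃* Matrix.ProjectiveSpecialLinearGroup (Fin 3) F) ∨
            Nonempty (↥(E i) ≃* Cfsg.PSp 2 F))) ∨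
        Cfsg.Lie.IsoSuzuki ↥(E i) ∨
        (∃ (F : Type) (_ : Field F) (_ : Fintype F) (n : ℕ), 2 ≤ n ∧ Fintype.card F = (2 ^ n) ^ 2 ∧
          Nonempty (↥(E i) ≃* Cfsg.PSU 3 F (2 ^ n))) ∨
        (∃ (F : Type) (_ : Field F) (_ : Fintype F) (n : ℕ), 3 < Fintype.card F ∧
          (Fintype.card F = 2 ^ n + 1 ∨ Fintype.card F + 1 = 2 ^ n) ∧
          Nonempty (↥(E i) ≃* Matrix.ProjectiveSpecialLinearGroup (Fin 2) F)) :=
  CF.Bm.reduce (fun _ _ _ _ _ h => h.cc) hS t ht S hSt hSn N hN hN2 hNmin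

end CF.NCz.S3223
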