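-- copy of `SC2.F` avoiding a name clash (`Comp.syl_inf`) with `Sig.S4D`
/-
Perfect groups acting on Goldschmidt groups.
-/
import Cfsg.Agent.NCx.SC2E
import Cfsg.Agent.Ab2.Fin4
set_option autoImplicit false
set_option linter.unusedSectionVars false

namespace CF.SC2
open Subgroup Cfsg CF.BG CF.Sig CF.GW CF.Ab2
open scoped commutatorElement

section
variable {G : Type*} [Group G] [Finite G]
variable {A B C D E H K L M N P Q R S T U V W X Y Z : Subgroup G} {a b d g k s t u v w x y z : G}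

/-- the perfect residual -/
def Rs (X : Subgroup G) : Subgroup G := sSup {K | K ≤ X ∧ ⁅K, K⁆ = K}

theorem Rs_le : Rs X ≤ X := sSup_le fun _ h => h.1
theorem le_Rs (l : K ≤ X) (p : ⁅K, K⁆ = K) : K ≤ Rs X := le_sSup ⟨l, p⟩
theorem Rs_perf : ⁅Rs X, Rs X⁆ = Rs X := perfect_sSup fun _ h => h.2
theorem Rs_mono (l : X ≤ Y) : Rs X ≤ Rs Y := le_Rs (Rs_le.trans l) Rs_perf

theorem cj_Rs (g : G) (X : Subgroup G) : cj g (Rs X) = Rs (cj g X) :=
  have h : ∀ g X, cj g (Rs X) ≤ Rs (cj g X) := fun g X => le_Rs (cj_mono g Rs_le) (by rw [← cj_comm, Rs_perf])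
  le_antisymm (h g X) (le_cj_iff.2 (by simpa only [cj_inv_cj] using h g⁻¹ (cj g X)))

theorem le_sup_Rs (p : ⁅K, K⁆ = K) (n : X ≤ 𝐍 N) (l : K ≤ N ⊔ X) : K ≤ N ⊔ Rs X := by
  induction X using WellFoundedLT.induction with
  | ind X ih =>
    by_cases e : ⁅X, X⁆ = X
    · exact l.trans (sup_le_sup_left (le_Rs le_rfl e) _)
    have n' : N ⊔ X ≤ 𝐍 N := sup_le (le_norm_self N) n
    refine (ih _ ((der_le X).lt_of_ne e) ((der_le X).trans n) ?_).trans (sup_le_sup_left (Rs_mono (der_le X)) _)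
    rw [← qt_le_qt_iff (l.trans n') ((der_le X).trans n), qt_comm n n, ← p, qt_comm (l.trans n') (l.trans n')]
    have := (qt_mono N l).trans (qt_sup_left n).le
    exact commutator_mono this this

theorem Rs_eq (X : Subgroup G) : (⨅ n : ℕ, derivedSeries X n).map X.subtype = Rs X := by
  refine le_antisymm ?_ ((map_subgroupOf_eq_of_le Rs_le).ge.trans (map_mono (le_iInf fun n => ?_)))
  · obtain ⟨n, e⟩ := WellFoundedLT.antitone_chain_condition (derivedSeries_antitone X)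
    exact (map_mono (iInf_le _ n)).trans (le_Rs (map_subtype_le _) (by
      rw [← map_commutator]; exact congrArg _ (e (n + 1) (Nat.le_succ n)).symm))
  induction n with
  | zero => exact le_top
  | succ n ih =>
    rw [← Rs_perf, subgroupOf_comm Rs_le Rs_le]
    exact commutator_mono ih ih

theorem le_of_two (p : ⁅K, K⁆ = K) (h : ∀ x ∈ K, E2 x → x ∈ M) : K ≤ M := by
  have n : closure {x | x ∈ K ∧ E2 x} ⊴ K := ⟨(closure_le _).2 fun _ h => h.1, fun g hg =>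
    mem_norm_of_cj_le (cj_le_iff.2 ((closure_le _).2 fun x h =>
      mem_cj_inv.2 (subset_closure ⟨cmem hg h.1, h.2.conj g⟩)))⟩
  obtain ⟨H, o, e⟩ := exists_odd_suppl n fun x a b => subset_closure ⟨a, b⟩
  exact (le_of_perfect p (le_sup_right.trans (e.le.trans n.norm)) (od_sol o) e.ge).trans
    ((closure_le _).2 fun x a => h x a.1 a.2)

theorem cent_of_zGrp (p : ⁅K, K⁆ = K) (h : ZGrp W) (n : K ≤ 𝐍 W) : W ≤ 𝐂 K := by
  have n' := n.trans (norm_der W)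
  have nW := (le_norm_self W).trans (norm_der W)
  have c := ((h.qt nW).cyc_of_nil (abel_qt_der W).nil).der_le_cent (qt_norm _ n)
  rw [← qt_comm n' n', p] at c
  exact cent_of_perfect p (((qt_cent_iff nW n').1 (cent_symm c)).trans
    (cent_symm (p.ge.trans (h.cyc_der.der_le_cent n'))))

theorem rs_fpf (r : RS L Q D w z) (na : ¬ Abelem 2 Q) (hv : v ∈ D ⊓ 𝐂 (𝛀 2 Q)) (v1 : v ≠ 1) :
    Q ⊓ 𝐂₁ v ≤ 𝛀 2 Q := by
  rcases r.tri with k | ⟨-, -, ⟨c, -⟩ | ⟨-, -, f⟩⟩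
  · exact (na k).elim
  swap; · exact f v hv v1
  have nO := (Om_normal 2 Q).norm
  by_contra e
  have := (r.trq c).eq_of_norm (qt_mono _ (inf_le_left (b := 𝐂₁ v))) (qt_norm _
    (norm_inf (r.zD.trans r.DQ) (norm_of_le (le_cent1_iff.2 (r.W_cent hv))))) fun q =>
      e ((qt_eq_bot (inf_le_left.trans nO)).1 q)
  exact v1 (eq_one_of_mem_bot r.faith ⟨hv.1, le_cent1_iff.1 (((qt_le_qt_iff' nO (le_inf (Om_le _ _)
    (le_cent1_iff.2 hv.2))).1 this.ge).trans inf_le_right)⟩)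

theorem rs_cent (r : RS L Q D w z) (na : ¬ Abelem 2 Q) (p : ⁅K, K⁆ = K) (n : K ≤ 𝐍 L) (c : K ≤ 𝐂 (𝛀 2 Q)) :
    K ≤ 𝐂 L := by
  obtain ⟨b, hb, b1⟩ := r.exists_O
  have sy : ∀ h ∈ 𝐍 L, ∀ g ∈ L, ∃ k ∈ L, cj h (cj g Q) = cj k Q := fun h a g e =>
    r.syl.syl_conj ((r.syl.cj_of_mem e).cj_of_norm a)
  have nQ : K ≤ 𝐍 Q := fun h a => by
    obtain ⟨k, m, q⟩ := sy h (n a) 1 (one_mem _)
    rw [cj_one] at q
    have : b ∈ cj k Q := q ▸ mem_of_eq (conj_mem_cj.2 (Om_le _ _ hb)) (by rw [← c a b hb]; group)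
    exact cj_eq_self.1 (q.trans (cj_of_norm (by
      simpa using inv_mem (r.norm_of (inv_mem m) (Om_le _ _ hb) b1 (by simpa using mem_cj.1 this)))))
  have qL := r.syl.le.trans (le_norm_self L)
  have h1 : K ⊔ Q ≤ 𝐍 L := sup_le n qL
  have h2 : K ⊔ Q ≤ 𝐍 Q := sup_le nQ (le_norm_self Q)
  have h3 : K ⊔ Q ≤ 𝐂 (𝛀 2 Q) := sup_le c (cent_symm r.cen)
  have l : K ≤ Q ⊔ (K ⊔ Q) ⊓ 𝐍 (cj w Q) := fun h a => by
    obtain ⟨k, m, e⟩ := sy h (n a) w r.wL
    obtain ⟨q, hq, e'⟩ := r.other k m fun i => r.wn (cj_eq_self.1 (by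
      rw [← cj_inj (g := h), e, cj_of_norm i, cj_of_norm (nQ a)]))
    exact mem_of_eq (mul_mem (mem_sup_left hq) (mem_sup_right (mi (mul_mem (mem_sup_right (inv_mem hq))
      (mem_sup_left a)) (cj_eq_self.1 (by rw [← cj_cj, e, e', cj_inv_cj]))))) (mul_inv_cancel_left q h).symm
  have l' := le_sup_Rs p (inf_le_left.trans h2) l
  have p' := @Rs_perf _ _ _ ((K ⊔ Q) ⊓ 𝐍 (cj w Q))
  have m := @Rs_le _ _ _ ((K ⊔ Q) ⊓ 𝐍 (cj w Q))
  generalize Rs ((K ⊔ Q) ⊓ 𝐍 (cj w Q)) = K₀ at *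
  have m1 := m.trans inf_le_left
  have nD : K₀ ≤ 𝐍 D := r.D_eq ▸ norm_inf (norm_inf (m1.trans h1) ((m1.trans h2).trans (le_norm_self _)))
    ((m.trans inf_le_right).trans (le_norm_self _))
  have nO := (m1.trans h3).trans (cent_le_norm _)
  have nW : K₀ ≤ 𝐍 (D ⊓ 𝐂 (𝛀 2 Q)) := norm_inf nD (norm_cent nO)
  have wO := (inf_le_left (b := 𝐂 (𝛀 2 Q))).trans r.DO
  have wQ := (inf_le_left (b := 𝐂 (𝛀 2 Q))).trans r.DQ
  have oW := r.od.le (inf_le_left (b := 𝐂 (𝛀 2 Q)))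
  have cW := cent_of_perfect p' (((qt_cent_iff wO nO).1 (cent_of_zGrp (by rw [← qt_comm nO nO, p'])
    ((reg_qt (fun _ => rs_fpf r na) wO wQ oW r.ab.pi).zGrp (qt_norm _ wQ) (fun q => na (r.ab.le
      ((qt_eq_bot (Om_normal 2 Q).norm).1 q))) (od_iff.2 (oW.qt _))) (qt_norm _ nW))).trans (cent_symm (m1.trans h3)))
  have cD := cent_of_perfect p' ((le_inf (comm_le_left nD) ((commutator_mono le_rfl (m1.trans h3)).trans
    (comm_le_right (norm_cent r.DO)))).trans cW)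
  exact le_of_perfect p (norm_cent qL) r.syl.pi.nil.sol (l'.trans (sup_le le_sup_right (le_sup_of_le_left
    (le_of_two p' fun x a e => r.cent_of na e (h1 (m1 a)) (h2 (m1 a)) (m a).2 (cent_symm cD a) (h3 (m1 a))))))

/-- a perfect group acting on a Goldschmidt group and centralizing `Ω₁` of a Sylow 2-subgroup acts trivially -/
theorem gd_cent (h : Gd L) (s : NS L) (hQ : Syl 2 Q L) (p : ⁅K, K⁆ = K) (n : K ≤ 𝐍 L) (c : K ≤ 𝐂 (𝛀 2 Q)) :
    K ≤ 𝐂 L := by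
  by_cases a : Abelem 2 Q
  swap
  · rcases h with h | h | h
    · obtain ⟨D, w, z, r⟩ := h.rs s hQ
      exact rs_cent r a p n c
    · exact (a (h.ab s hQ)).elim
    · exact (a (h.syl' hQ).1).elim
  rw [a.Om_eq] at c
  have l : K ≤ L ⊔ 𝐂 L := le_of_two p fun x m e => inner_abel s.O hQ a.abel (n m) e (c m)
  have d := (hQ.of_le (le_inf hQ.le a.abel) inf_le_left).dprod_of_cent inf_le_right
  refine le_of_perfect p (norm_cent (inf_le_right.trans (le_norm_self L))) (O := 𝐂 Q ⊓ L) ?_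
    ((le_inf c l).trans ((BG.inf_sup_right (cent_anti hQ.le) (.inl (norm_cent (le_norm_self L)))).le.trans
      (sup_comm _ _).le))
  rw [inf_comm, ← d.sup]
  exact hQ.pi.nil.sol.sup (O_sol _) (norm_of_cent' d.cent)

end
end CF.SC2
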